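import Cfsg.Agent.Lib.BrauerPairs.Saturation

/-!
# Nilpotent blocks and their fusion systems
-/

set_option autoImplicit false
set_option linter.unusedSectionVars false
set_option linter.style.haveILetI false

namespace Cfsg.Agent.Lib.BrauerPairs

open Cfsg Cfsg.Agent.Lib.Blocks Cfsg.Agent.Lib.Characters

universe u

variable {G : Type u} [Group G] [Fintype G] {M : Ideal AlgInt} [hMp : M.IsPrime] {p : ℕ}
  {P Q : Subgroup G} {B : Set (IrrCharacter G)}
  {e : Set (IrrCharacter (Subgroup.centralizer (P : Set G)))}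
  {f : Set (IrrCharacter (Subgroup.centralizer (Q : Set G)))}

theorem exists_pow_isPRegular (hp : p.Prime) (t : G) : ∃ k : ℕ, IsPRegular p (t ^ p ^ k) := by
  refine ⟨(orderOf t).factorization p, ?_⟩
  show ¬ p ∣ orderOf (t ^ p ^ (orderOf t).factorization p)
  have h0 : orderOf t ≠ 0 := (orderOf_pos t).ne'
  rw [orderOf_pow_of_dvd (pow_ne_zero _ hp.ne_zero) (Nat.ordProj_dvd _ p)]
  exact Nat.not_dvd_ordCompl hp h0

theorem stabHom_eq_one_iff {g : pairStab Q f} :
    stabHom Q f g = 1 ↔ (g : G) ∈ Subgroup.centralizer (Q : Set G) := by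
  rw [Subgroup.mem_centralizer_iff]
  constructor
  · intro h q hq
    have h1 : (g : G) * q * (g : G)⁻¹ = q := by
      rw [← stabHom_apply (f := f) g ⟨q, hq⟩, h]; rfl
    exact (mul_inv_eq_iff_eq_mul.1 h1).symm
  · intro h
    refine MulEquiv.ext fun x => Subtype.ext ?_
    rw [stabHom_apply, ← h x x.2, mul_inv_cancel_right]
    rfl

/-- In a nilpotent block all automizers of pairs are `p`-groups. -/
theorem exists_pow_stabHom_eq_one (hM : IsPModular p M) (hn : IsNilpotentBlock p M B)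
    (hQf : IsBrauerPairOf p M B Q f) (g : pairStab Q f) :
    ∃ k : ℕ, stabHom Q f g ^ p ^ k = 1 := by
  obtain ⟨k, hk⟩ := exists_pow_isPRegular hM.1 (g : G)
  refine ⟨k, ?_⟩
  rw [← map_pow, stabHom_eq_one_iff, Subgroup.coe_pow]
  have h2 := mem_pairStab_iff.1 (pow_mem g.2 (p ^ k))
  exact hn.2 Q f hQf _ h2.1 h2.2 hk

/-- S4686. -/
theorem isNilpotentBlock_iff (hM : IsPModular p M) {F : FusionSystem P}
    (hF : IsBlockFusionSystemOn p M B P e F) :
    IsNilpotentBlock p M B ↔ ∀ Q : Subgroup G, F.Hom Q = (innerFusionSystem P).Hom Q := by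
  haveI := Fact.mk hM.1
  constructor
  · intro hn
    have heq := Fusion.eq_inner_of_isPGroup (p := p) hF.1.1.1.1
      (isSaturated_blockFusionSystem hM hF) fun R hR => ?_
    · intro Q; rw [heq]
    · have hRP : R ≤ P := by
        rcases hR with rfl | h
        · exact le_rfl
        · exact h.1.1
      obtain ⟨r, -, hle⟩ := exists_subpairLE hM hF.1.1.1 hRP
      rw [autGroup_eq hM hF hle]
      rintro ⟨_, g, rfl⟩
      obtain ⟨k, hk⟩ := exists_pow_stabHom_eq_one hM hn (isBrauerPairOf_of_subpairLE hM hF.1 hle) g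
      exact ⟨k, Subtype.ext hk⟩
  · intro h
    refine ⟨hF.1.1.2.1, fun Q f hQf y hyN hyst hyreg => ?_⟩
    obtain ⟨x, hx⟩ := exists_conj_subpairLE hM hF.1 hQf
    set y' := x * y * x⁻¹ with hy'
    have hy'mem : y' ∈ pairStab (Q.map (MulAut.conj x).toMonoidHom) (conjBlock Q x f) := by
      rw [mem_pairStab_conjBlock, hy', show x⁻¹ * (x * y * x⁻¹) * x = y by group,
        mem_pairStab_iff]
      exact ⟨hyN, hyst⟩
    have hmem : stabHom _ _ ⟨y', hy'mem⟩ ∈ F.autGroup (Q.map (MulAut.conj x).toMonoidHom) := by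
      rw [autGroup_eq hM hF hx]; exact ⟨_, rfl⟩
    rw [Fusion.mem_autGroup_iff F (subpairLE_le hx), h] at hmem
    obtain ⟨-, u, hu, hux⟩ := hmem
    obtain ⟨k, hk⟩ := hF.1.1.1.1 ⟨u, hu⟩
    have hk' : u ^ p ^ k = 1 := congrArg Subtype.val hk
    have huN : u ∈ Subgroup.normalizer
        ((Q.map (MulAut.conj x).toMonoidHom : Subgroup G) : Set G) := by
      refine Fusion.mem_normalizer_of_finite fun z hz => ?_
      have := hux ⟨z, hz⟩
      rw [← this]
      exact ((stabHom _ _ ⟨y', hy'mem⟩) ⟨z, hz⟩).2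
    have hpow : stabHom _ _ ⟨y', hy'mem⟩ ^ p ^ k = 1 := by
      have e1 : stabHom _ _ ⟨y', hy'mem⟩ = Fusion.conjAut huN :=
        MulEquiv.ext fun z => Subtype.ext (hux z)
      rw [e1, show Fusion.conjAut huN = (Q.map (MulAut.conj x).toMonoidHom).normalizerMonoidHom
        ⟨u, huN⟩ from rfl, ← map_pow, show (⟨u, huN⟩ : Subgroup.normalizer _) ^ p ^ k = 1 from
        Subtype.ext (by rw [SubgroupClass.coe_pow]; exact hk'), map_one]
    have hord : y' ^ orderOf y = 1 := by
      rw [hy', conj_pow, pow_orderOf_eq_one]; group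
    have h1 : stabHom _ _ ⟨y', hy'mem⟩ ^ orderOf y = 1 := by
      rw [← map_pow, show (⟨y', hy'mem⟩ : pairStab _ _) ^ orderOf y = 1 from
        Subtype.ext (by rw [SubgroupClass.coe_pow]; exact hord), map_one]
    have hone : stabHom _ _ ⟨y', hy'mem⟩ = 1 := by
      have := pow_gcd_eq_one.2 ⟨hpow, h1⟩
      rwa [Nat.Coprime.gcd_eq_one (Nat.Coprime.pow_left k (hM.1.coprime_iff_not_dvd.2 hyreg)),
        pow_one] at this
    have hC := (mem_centralizer_map_conj Q x y').1 (stabHom_eq_one_iff.1 hone)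
    rwa [hy', show x⁻¹ * (x * y * x⁻¹) * x = y by group] at hC

theorem le_normalizer_of_comm (hab : ∀ x ∈ P, ∀ y ∈ P, x * y = y * x) (hQP : Q ≤ P) :
    P ≤ Subgroup.centralizer (Q : Set G) := fun x hx =>
  Subgroup.mem_centralizer_iff.2 fun q hq => hab q (hQP hq) x hx

theorem isDefectGroup_stab_of_le (hM : IsPModular p M) (hmax : IsMaximalBrauerPair p M B P e)
    (hle : SubpairLE p M Q f P e) (hPN : P ≤ Subgroup.normalizer (Q : Set G)) :
    IsDefectGroup p M (blockAbove (pairStab Q f) f)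
      ((P ⊓ Subgroup.normalizer (Q : Set G)).subgroupOf (pairStab Q f)) :=
  isDefectGroup_stab_of_max hM hmax hle fun y _ => by
    rw [inf_eq_left.2 hPN]
    exact Subgroup.card_le_of_le inf_le_left

/-- S4687. -/
theorem isNilpotentBlock_iff_of_abelian (hM : IsPModular p M)
    (hmax : IsMaximalBrauerPair p M B P e) (hab : ∀ x ∈ P, ∀ y ∈ P, x * y = y * x) :
    IsNilpotentBlock p M B ↔ ∀ x : G, x ∈ Subgroup.normalizer (P : Set G) →
      StabilizesBlock (Subgroup.centralizer (P : Set G)) e x →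
        x ∈ Subgroup.centralizer (P : Set G) := by
  classical
  haveI := Fact.mk hM.1
  have hrefl : SubpairLE p M P e P e := Relation.ReflTransGen.refl
  constructor
  · intro hn x hxN hxst
    have hx : x ∈ pairStab P e := mem_pairStab_iff.2 ⟨hxN, hxst⟩
    refine (stabHom_eq_one_iff (g := ⟨x, hx⟩)).1 ?_
    obtain ⟨k, hk⟩ := exists_pow_stabHom_eq_one hM hn hmax.1 ⟨x, hx⟩
    have hdvd := not_dvd_relIndex_stab hM hmax.1.1 hrefl
      (isDefectGroup_stab_of_le hM hmax hrefl Subgroup.le_normalizer)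
    have hbot : ((P ⊓ Subgroup.normalizer (P : Set G)).subgroupOf (pairStab P e)).map
        (stabHom P e) = ⊥ := by
      rw [eq_bot_iff]
      rintro _ ⟨g, hg, rfl⟩
      exact Subgroup.mem_bot.2
        (stabHom_eq_one_iff.2 (le_normalizer_of_comm hab le_rfl hg.1))
    rw [hbot, Subgroup.relIndex_bot_left] at hdvd
    have h1 : (⟨stabHom P e ⟨x, hx⟩, _, rfl⟩ : (stabHom P e).range) ^ p ^ k = 1 := Subtype.ext hk
    have h2 := pow_gcd_eq_one.2 ⟨h1, pow_card_eq_one'⟩
    rw [Nat.Coprime.gcd_eq_one (Nat.Coprime.pow_left k (hM.1.coprime_iff_not_dvd.2 hdvd)),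
      pow_one] at h2
    exact congrArg Subtype.val h2
  · intro hst
    refine ⟨hmax.1.2.1, fun Q f hQf y hyN hyst _ => ?_⟩
    obtain ⟨x, hx⟩ := exists_conj_subpairLE hM hmax hQf
    suffices key : ∀ (R : Subgroup G) (r : Set (IrrCharacter (Subgroup.centralizer (R : Set G)))),
        SubpairLE p M R r P e → ∀ g ∈ pairStab R r, g ∈ Subgroup.centralizer (R : Set G) by
      have h1 := key _ _ hx (x * y * x⁻¹) (by
        rw [mem_pairStab_conjBlock, show x⁻¹ * (x * y * x⁻¹) * x = y by group, mem_pairStab_iff]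
        exact ⟨hyN, hyst⟩)
      rw [mem_centralizer_map_conj, show x⁻¹ * (x * y * x⁻¹) * x = y by group] at h1
      exact h1
    intro R r hle g hg
    have hRP := subpairLE_le hle
    have hPC := le_normalizer_of_comm hab hRP
    have hPN := hPC.trans (centralizer_le_normalizer' R)
    have hfull := isFullPair_of_isDefectGroup hM hmax.1.1 hle
      (isDefectGroup_stab_of_le hM hmax hle hPN)
    have hstep := isNormalSubpair_of_subpairLE hM hmax.1.1 hle Relation.ReflTransGen.refl hRP hPN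
    have hgR : R.map (MulAut.conj g).toMonoidHom = R := map_conj_of_mem_normalizer hg.1
    have hpair : conjPair g ⟨R, r⟩ = ⟨R, r⟩ :=
      pair_ext hgR ((pairCoeff_conjPair g ⟨R, r⟩).trans hg.2)
    have hstep' : NormalSubpairRel p M (conjPair g ⟨R, r⟩) (conjPair g ⟨P, e⟩) :=
      isNormalSubpair_conj hstep g
    rw [hpair] at hstep'
    have hU : P.map (MulAut.conj g).toMonoidHom ≤
        (P ⊓ Subgroup.normalizer (R : Set G)) ⊔ Subgroup.centralizer (R : Set G) := by
      intro z hz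
      refine Subgroup.mem_sup_right ?_
      exact (mem_centralizer_conj_iff hg.1 z).2 (hPC (mem_map_conj_iff.1 hz))
    obtain ⟨c, hc, hcle⟩ := exists_extend hM hmax hle hfull hU hstep'
    have h2 := conjBlock_subpairLE_trans hcle
    have hmap : P.map (MulAut.conj (c * g)).toMonoidHom = P :=
      Subgroup.eq_of_le_of_card_ge (subpairLE_le h2) (card_map_conj P _).ge
    have h3 : conjPair (c * g) ⟨P, e⟩ = ⟨P, e⟩ := pair_unique hM hmax.1.1 h2
      Relation.ReflTransGen.refl hmap
    have h4 : c * g ∈ pairStab P e := by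
      refine ⟨?_, ?_⟩
      · rw [Subgroup.mem_normalizer_iff]
        intro z
        conv_rhs => rw [← hmap, mem_map_conj_iff]
        rw [show (c * g)⁻¹ * (c * g * z * (c * g)⁻¹) * (c * g) = z by group]
      · have h5 := pairCoeff_conjPair (c * g) ⟨P, e⟩
        rw [h3] at h5
        exact h5.symm
    have h6 := mem_pairStab_iff.1 h4
    have h7 := centralizer_le_centralizer hRP (hst _ h6.1 h6.2)
    simpa using mul_mem (inv_mem hc) h7

end Cfsg.Agent.Lib.BrauerPairs
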