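import Cfsg.Agent.Lib.BrauerPairs.Local

/-!
# Brauer pairs inside a subgroup containing the relevant centralisers
-/

set_option autoImplicit false
set_option linter.unusedSectionVars false
set_option linter.style.haveILetI false

namespace Cfsg.Agent.Lib.BrauerPairs

open Cfsg Cfsg.Agent.Lib.Blocks Cfsg.Agent.Lib.Characters

universe u

variable {G : Type u} [Group G] [Fintype G] {M : Ideal AlgInt} [hMp : M.IsPrime] {p : ℕ}
  {H : Subgroup G}

theorem mem_centralizer_map_subtype {U : Subgroup H} {x : H} :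
    (x : G) ∈ Subgroup.centralizer ((U.map H.subtype : Subgroup G) : Set G) ↔
      x ∈ Subgroup.centralizer (U : Set H) := by
  rw [Subgroup.mem_centralizer_iff, Subgroup.mem_centralizer_iff]
  constructor
  · intro h a ha
    exact Subtype.ext (h _ ⟨a, ha, rfl⟩)
  · rintro h _ ⟨a, ha, rfl⟩
    exact congrArg Subtype.val (h a ha)

/-- Centralisers inside `H` and in `G` agree when the latter lies in `H`. -/
def relEquiv {U : Subgroup H} {V : Subgroup G} (hV : U.map H.subtype = V)
    (hC : Subgroup.centralizer (V : Set G) ≤ H) :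
    Subgroup.centralizer (U : Set H) ≃* Subgroup.centralizer (V : Set G) where
  toFun x := ⟨((x : H) : G), by rw [← hV]; exact mem_centralizer_map_subtype.2 x.2⟩
  invFun y := ⟨⟨(y : G), hC y.2⟩, mem_centralizer_map_subtype.1 (by rw [hV]; exact y.2)⟩
  left_inv _ := rfl
  right_inv _ := rfl
  map_mul' _ _ := rfl

theorem relEquiv_coe {U : Subgroup H} {V : Subgroup G} (hV : U.map H.subtype = V)
    (hC : Subgroup.centralizer (V : Set G) ≤ H) (x : Subgroup.centralizer (U : Set H)) :
    ((relEquiv hV hC x : Subgroup.centralizer (V : Set G)) : G) = ((x : H) : G) := rfl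

variable [Fintype H]

theorem brauerOmega_relEquiv {U : Subgroup H} {V : Subgroup G} (hV : U.map H.subtype = V)
    (hC : Subgroup.centralizer (V : Set G) ≤ H) (β : G → ℂ)
    (ξ : IrrCharacter (Subgroup.centralizer (U : Set H))) :
    brauerOmega V β (transIrr (relEquiv hV hC) ξ : Subgroup.centralizer (V : Set G) → ℂ) =
      brauerOmega U (resFun H β) (ξ : Subgroup.centralizer (U : Set H) → ℂ) := by
  rw [brauerOmega, brauerOmega]
  refine Eq.trans (finsum_comp_equiv (relEquiv hV hC).toEquiv).symm (finsum_congr fun x => ?_)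
  show β ((relEquiv hV hC x : _) : G) * _ / _ = _
  rw [show (transIrr (relEquiv hV hC) ξ : _ → ℂ) ((relEquiv hV hC).toEquiv x) = (ξ : _ → ℂ) x from
    transIrr_apply _ ξ x, ← map_one (relEquiv hV hC), transIrr_apply]
  rfl

theorem subgroupBlockCoeff_relEquiv {U : Subgroup H} {V : Subgroup G} (hV : U.map H.subtype = V)
    (hC : Subgroup.centralizer (V : Set G) ≤ H)
    (v : Set (IrrCharacter (Subgroup.centralizer (U : Set H)))) :
    subgroupBlockCoeff (Subgroup.centralizer (V : Set G)) (transBlock (relEquiv hV hC) v) =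
      extendByZero H (subgroupBlockCoeff (Subgroup.centralizer (U : Set H)) v) := by
  funext x
  by_cases hx : x ∈ Subgroup.centralizer (V : Set G)
  · rw [subgroupBlockCoeff_of_mem _ hx, extendByZero_of_mem _ _ (hC hx),
      subgroupBlockCoeff_of_mem v (mem_centralizer_map_subtype.1 (by rw [hV]; exact hx) :
        (⟨x, hC hx⟩ : H) ∈ _)]
    exact blockCoeff_transBlock (relEquiv hV hC) v
      ⟨⟨x, hC hx⟩, mem_centralizer_map_subtype.1 (by rw [hV]; exact hx)⟩
  · rw [subgroupBlockCoeff_of_notMem _ hx]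
    by_cases hxH : x ∈ H
    · rw [extendByZero_of_mem _ _ hxH, subgroupBlockCoeff_of_notMem]
      intro h
      exact hx (by rw [← hV]; exact mem_centralizer_map_subtype.2 h)
    · rw [extendByZero_of_not_mem _ _ hxH]

/-- A pair of `H` and a pair of `G` with the same subgroup and idempotent. -/
def IsPush (a : BrauerPairIdx H) (b : BrauerPairIdx G) : Prop :=
  a.1.map H.subtype = b.1 ∧ pairCoeff b = extendByZero H (pairCoeff a)

theorem IsPush.unique {a : BrauerPairIdx H} {b b' : BrauerPairIdx G} (h : IsPush a b)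
    (h' : IsPush a b') : b = b' :=
  pair_ext (h.1.symm.trans h'.1) (h.2.trans h'.2.symm)

theorem exists_push (a : BrauerPairIdx H)
    (hC : Subgroup.centralizer ((a.1.map H.subtype : Subgroup G) : Set G) ≤ H) :
    ∃ b : BrauerPairIdx G, IsPush a b :=
  ⟨⟨a.1.map H.subtype, transBlock (relEquiv rfl hC) a.2⟩, rfl,
    subgroupBlockCoeff_relEquiv rfl hC a.2⟩

theorem exists_pull (b : BrauerPairIdx G) (hle : b.1 ≤ H)
    (hC : Subgroup.centralizer (b.1 : Set G) ≤ H) :
    ∃ a : BrauerPairIdx H, IsPush a b := by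
  have hV : (b.1.subgroupOf H).map H.subtype = b.1 := Subgroup.map_subgroupOf_eq_of_le hle
  refine ⟨⟨b.1.subgroupOf H, transBlock (relEquiv hV hC).symm b.2⟩, hV, ?_⟩
  show subgroupBlockCoeff _ b.2 = extendByZero H (subgroupBlockCoeff _ _)
  rw [← subgroupBlockCoeff_relEquiv hV hC]
  congr 1
  ext ξ
  constructor
  · intro hξ
    exact ⟨transIrr (relEquiv hV hC).symm ξ, ⟨ξ, hξ, rfl⟩, transIrr_symm _ ξ⟩
  · rintro ⟨_, ⟨ξ', hξ', rfl⟩, rfl⟩
    rwa [transIrr_symm]

theorem IsPush.eq_transBlock {a : BrauerPairIdx H} {V : Subgroup G}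
    {u : Set (IrrCharacter (Subgroup.centralizer (V : Set G)))} (h : IsPush a ⟨V, u⟩)
    (hC : Subgroup.centralizer (V : Set G) ≤ H) :
    u = transBlock (relEquiv h.1 hC) a.2 :=
  subgroupBlockCoeff_injective (h.2.trans (subgroupBlockCoeff_relEquiv h.1 hC a.2).symm)

theorem isBrauerPair_push {a : BrauerPairIdx H} {b : BrauerPairIdx G} (h : IsPush a b)
    (hC : Subgroup.centralizer (b.1 : Set G) ≤ H) (ha : IsBrauerPair p M a.1 a.2) :
    IsBrauerPair p M b.1 b.2 := by
  obtain ⟨V, u⟩ := b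
  replace hC : Subgroup.centralizer (V : Set G) ≤ H := hC
  have h1 : a.1.map H.subtype = V := h.1
  have hu : u = transBlock (relEquiv h1 hC) a.2 := IsPush.eq_transBlock h hC
  clear h
  subst hu
  exact ⟨h1 ▸ ha.1.map H.subtype, isPBlock_transBlock _ ha.2⟩

theorem isBrauerPair_pull {a : BrauerPairIdx H} {b : BrauerPairIdx G} (h : IsPush a b)
    (hC : Subgroup.centralizer (b.1 : Set G) ≤ H) (hb : IsBrauerPair p M b.1 b.2) :
    IsBrauerPair p M a.1 a.2 := by
  obtain ⟨V, u⟩ := b
  replace hC : Subgroup.centralizer (V : Set G) ≤ H := hC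
  have h1 : a.1.map H.subtype = V := h.1
  have hu : u = transBlock (relEquiv h1 hC) a.2 := IsPush.eq_transBlock h hC
  clear h
  subst hu
  refine ⟨IsPGroup.of_injective (hb.1 : IsPGroup p V)
    ((H.subtype.comp a.1.subtype).codRestrict V fun x => h1 ▸ ⟨x, x.2, rfl⟩)
    (fun x y hxy => Subtype.ext (Subtype.ext (congrArg (fun z : V => (z : G)) hxy))), ?_⟩
  have h2 := isPBlock_transBlock (M := M) (relEquiv h1 hC).symm hb.2
  have e : transBlock (relEquiv h1 hC).symm (transBlock (relEquiv h1 hC) a.2) = a.2 := by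
    ext ξ
    constructor
    · rintro ⟨_, ⟨ζ, hζ, rfl⟩, rfl⟩
      have : transIrr (relEquiv h1 hC).symm (transIrr (relEquiv h1 hC) ζ) = ζ :=
        Subtype.ext (funext fun x => congrArg (ζ : _ → ℂ) ((relEquiv h1 hC).symm_apply_apply x))
      rwa [this]
    · intro hξ
      exact ⟨_, ⟨ξ, hξ, rfl⟩,
        Subtype.ext (funext fun x => congrArg (ξ : _ → ℂ) ((relEquiv h1 hC).symm_apply_apply x))⟩
  rwa [e] at h2

theorem gconj_extendByZero (h : H) (β : H → ℂ) :
    gconj (h : G) (extendByZero H β) = extendByZero H (gconj h β) := by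
  funext x
  by_cases hx : x ∈ H
  · rw [extendByZero_of_mem _ _ hx, gconj_apply,
      extendByZero_of_mem _ _ (mul_mem (mul_mem (inv_mem h.2) hx) h.2)]
    rfl
  · rw [extendByZero_of_not_mem _ _ hx, gconj_apply, extendByZero_of_not_mem]
    intro hh
    exact hx (by simpa [mul_assoc] using mul_mem (mul_mem h.2 hh) (inv_mem h.2))

theorem IsPush.conj {a : BrauerPairIdx H} {b : BrauerPairIdx G} (hp : IsPush a b) (h : H) :
    IsPush (conjPair h a) (conjPair (h : G) b) := by
  refine ⟨?_, ?_⟩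
  · show (a.1.map (MulAut.conj h).toMonoidHom).map H.subtype =
      b.1.map (MulAut.conj (h : G)).toMonoidHom
    rw [← hp.1, Subgroup.map_map, Subgroup.map_map]
    rfl
  · rw [pairCoeff_conjPair, pairCoeff_conjPair, hp.2, gconj_extendByZero]

theorem brauerOmega_push {a : BrauerPairIdx H} {b : BrauerPairIdx G} (hp : IsPush a b)
    (hC : Subgroup.centralizer (b.1 : Set G) ≤ H) (β : G → ℂ)
    (P : ℂ → Prop) :
    (∀ ξ ∈ b.2, P (brauerOmega b.1 β (ξ : Subgroup.centralizer (b.1 : Set G) → ℂ))) ↔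
      ∀ ξ ∈ a.2, P (brauerOmega a.1 (resFun H β)
        (ξ : Subgroup.centralizer (a.1 : Set H) → ℂ)) := by
  obtain ⟨V, u⟩ := b
  replace hC : Subgroup.centralizer (V : Set G) ≤ H := hC
  have h1 : a.1.map H.subtype = V := hp.1
  have hu : u = transBlock (relEquiv h1 hC) a.2 := IsPush.eq_transBlock hp hC
  clear hp
  subst hu
  constructor
  · intro h ξ hξ
    rw [← brauerOmega_relEquiv h1 hC β ξ]
    exact h _ ⟨ξ, hξ, rfl⟩
  · rintro h _ ⟨ξ, hξ, rfl⟩
    rw [brauerOmega_relEquiv h1 hC β ξ]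
    exact h ξ hξ

theorem isNormalSubpair_push {a c : BrauerPairIdx H} {a' c' : BrauerPairIdx G}
    (ha : IsPush a a') (hc : IsPush c c')
    (hCa : Subgroup.centralizer (a'.1 : Set G) ≤ H) (hCc : Subgroup.centralizer (c'.1 : Set G) ≤ H)
    (h : IsNormalSubpair p M a.1 a.2 c.1 c.2) :
    IsNormalSubpair p M a'.1 a'.2 c'.1 c'.2 := by
  obtain ⟨h1, h2, hle, hN, hst, hone⟩ := h
  have hN' : c'.1 ≤ Subgroup.normalizer (a'.1 : Set G) := by
    rw [← hc.1, ← ha.1]
    rintro _ ⟨x, hx, rfl⟩
    rw [Subgroup.mem_normalizer_iff]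
    intro y
    have hn := Subgroup.mem_normalizer_iff.1 (hN hx)
    constructor
    · rintro ⟨z, hz, rfl⟩
      exact ⟨x * z * x⁻¹, (hn z).1 hz, by simp⟩
    · rintro ⟨z, hz, hzy⟩
      refine ⟨x⁻¹ * z * x, (hn _).2 (by rwa [show x * (x⁻¹ * z * x) * x⁻¹ = z by group]), ?_⟩
      have e : (z : G) = (x : G) * y * (x : G)⁻¹ := hzy
      simp [e, mul_assoc]
  refine ⟨isBrauerPair_push ha hCa h1, isBrauerPair_push hc hCc h2,
    ha.1 ▸ hc.1 ▸ Subgroup.map_mono hle, hN', ?_, ?_⟩
  · intro x hx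
    rw [← hc.1] at hx
    obtain ⟨y, hy, rfl⟩ := hx
    rw [stabilizesBlock_iff (normalizer_le_normalizer_centralizer _ (hN' (hc.1 ▸ ⟨y, hy, rfl⟩)))]
    show gconj (y : G) (pairCoeff a') = pairCoeff a'
    rw [ha.2, gconj_extendByZero]
    congr 1
    exact (stabilizesBlock_iff (normalizer_le_normalizer_centralizer _ (hN hy))).1 (hst y hy)
  · refine (brauerOmega_push hc hCc (pairCoeff a') fun t => MemLocalIdeal M (t - 1)).2 ?_
    rw [ha.2, resFun_extendByZero]
    exact hone

/-- Inclusions inside `H` of pairs above `Q` are inclusions in `G`. -/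
theorem subpairLE_push {Q : Subgroup G} (hQ : Subgroup.centralizer (Q : Set G) ≤ H)
    {a c : BrauerPairIdx H} {a' c' : BrauerPairIdx G} (ha : IsPush a a') (hc : IsPush c c')
    (hQa : Q ≤ a'.1) (h : Relation.ReflTransGen (NormalSubpairRel p M) a c) :
    Relation.ReflTransGen (NormalSubpairRel p M) a' c' := by
  induction h using Relation.ReflTransGen.head_induction_on generalizing a' with
  | refl => rw [IsPush.unique ha hc]
  | @head a b hab _ ih =>
    have hle : a'.1 ≤ b.1.map H.subtype := ha.1 ▸ Subgroup.map_mono hab.2.2.1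
    obtain ⟨b', hb'⟩ := exists_push b ((centralizer_le_centralizer (hQa.trans hle)).trans hQ)
    have hQb : Q ≤ b'.1 := hb'.1 ▸ hQa.trans hle
    exact Relation.ReflTransGen.head (isNormalSubpair_push ha hb'
      ((centralizer_le_centralizer hQa).trans hQ) ((centralizer_le_centralizer hQb).trans hQ) hab)
      (ih hb' hQb)

/-- **Conjugacy inside `H` of pairs over a stable pair.** -/
theorem exists_conj_in (hM : IsPModular p M) {Q : Subgroup G}
    {f : Set (IrrCharacter (Subgroup.centralizer (Q : Set G)))}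
    (hCH : Subgroup.centralizer (Q : Set G) ≤ H) (hQH : Q ≤ H) (hHT : H ≤ pairStab Q f)
    {U R : Subgroup G} {u : Set (IrrCharacter (Subgroup.centralizer (U : Set G)))}
    {r : Set (IrrCharacter (Subgroup.centralizer (R : Set G)))}
    (hUH : U ≤ H) (hu : IsNormalSubpair p M Q f U u)
    (hRH : R ≤ H) (hr : IsNormalSubpair p M Q f R r)
    (hbound : ∀ V : Subgroup G, V ≤ H → IsPGroup p V →
      (∃ c ∈ Subgroup.centralizer (V : Set G),
        ¬ MemLocalIdeal M (subgroupBlockCoeff (Subgroup.centralizer (Q : Set G)) f c)) →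
      Nat.card V ≤ Nat.card R) :
    ∃ h : G, h ∈ H ∧
      SubpairLE p M (U.map (MulAut.conj h).toMonoidHom) (conjBlock U h u) R r := by
  classical
  obtain ⟨⟨hQp, hf⟩, huP, hQU, -, -, huone⟩ := hu
  obtain ⟨-, hrP, hQR, -, -, hrone⟩ := hr
  have hB : IsPBlock M (blockAbove H f) := isPBlock_blockAbove hM hQp hf hCH hQH hHT
  have hcoeff : blockCoeff (blockAbove H f) =
      resFun H (subgroupBlockCoeff (Subgroup.centralizer (Q : Set G)) f) :=
    blockCoeff_blockAbove hM hf hCH hHT
  have hCU := (centralizer_le_centralizer hQU).trans hCH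
  have hCR := (centralizer_le_centralizer hQR).trans hCH
  obtain ⟨a, ha⟩ := exists_pull ⟨U, u⟩ hUH hCU
  obtain ⟨c, hc⟩ := exists_pull ⟨R, r⟩ hRH hCR
  have haB : IsBrauerPairOf p M (blockAbove H f) a.1 a.2 := by
    refine ⟨isBrauerPair_pull ha hCU huP, hB, ?_⟩
    rw [hcoeff]
    exact (brauerOmega_push ha hCU _ fun t => MemLocalIdeal M (t - 1)).1 huone
  have hcB : IsBrauerPairOf p M (blockAbove H f) c.1 c.2 := by
    refine ⟨isBrauerPair_pull hc hCR hrP, hB, ?_⟩
    rw [hcoeff]
    exact (brauerOmega_push hc hCR _ fun t => MemLocalIdeal M (t - 1)).1 hrone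
  have hmax : IsMaximalBrauerPair p M (blockAbove H f) c.1 c.2 := by
    refine ⟨hcB, fun S s hS hle => ?_⟩
    have hcard : Nat.card c.1 = Nat.card R := by
      rw [← card_map_subtype c.1, hc.1]
    have hle' : Nat.card S ≤ Nat.card c.1 := by
      rw [hcard, ← card_map_subtype S]
      refine hbound _ (Subgroup.map_subtype_le _) (hS.1.1.map _) ?_
      obtain ⟨ξ, hξ⟩ := IsPBlock.nonempty hS.1.2
      by_contra hcon
      simp only [not_exists, not_and, not_not] at hcon
      refine not_memLocalIdeal_of_sub not_memLocalIdeal_one (hS.2.2 ξ hξ)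
        (memLocalIdeal_brauerOmega (IsLocInv.of_isRCentral (isRCentral_blockCoeff hM hB))
          (fun x hx => ?_) ξ)
      rw [hcoeff]
      exact hcon _ (mem_centralizer_map_subtype.2 hx)
    exact (Subgroup.eq_of_le_of_card_ge (subpairLE_le hle) hle').symm
  obtain ⟨h, hh⟩ := exists_conj_subpairLE hM hmax haB
  refine ⟨(h : G), h.2, ?_⟩
  refine subpairLE_push (Q := Q) hCH (IsPush.conj ha h) hc ?_ hh
  intro x hx
  show x ∈ U.map (MulAut.conj (h : G)).toMonoidHom
  rw [mem_map_conj_iff]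
  exact hQU ((mem_conj_iff_of_mem_normalizer (hHT h.2).1 x).1 hx)

end Cfsg.Agent.Lib.BrauerPairs
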