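import Cfsg.Agent.Lib.Blocks.Quotient
import Cfsg.Agent.Lib.Blocks.DefectZero
import Cfsg.Agent.Lib.Characters.Kernel

/-!
# Blocks of defect zero modulo a normal `p`-subgroup
-/

set_option autoImplicit false
set_option linter.unusedSectionVars false
set_option linter.style.haveILetI false

namespace Cfsg.Agent.Lib.BrauerPairs

open Cfsg Cfsg.Agent.Lib.Blocks Cfsg.Agent.Lib.Characters

universe u

variable {K : Type u} [Group K] [Fintype K] {M : Ideal AlgInt} [hMp : M.IsPrime] {p : ℕ}
  {Z : Subgroup K} [Z.Normal] {b : Set (IrrCharacter K)}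

theorem factorization_index (hp : p.Prime) (Z : Subgroup K) [Z.Normal] :
    (Nat.card K).factorization p =
      (Nat.card (K ⧸ Z)).factorization p + (Nat.card Z).factorization p := by
  rw [Z.card_eq_card_quotient_mul_card_subgroup,
    Nat.factorization_mul Nat.card_pos.ne' Nat.card_pos.ne', Finsupp.coe_add, Pi.add_apply]

/-- If the inflated character has defect zero in the quotient, the block's defect groups lie in
the normal subgroup. -/
theorem defectGroup_le_of_defectZero (hM : IsPModular p M) (hZ : IsPGroup p Z)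
    (hreg : ∀ x : K, ¬ p ∣ orderOf x → x ∈ Subgroup.centralizer (Z : Set K))
    (hb : IsPBlock M b) {θ : IrrCharacter K} (hθ : θ ∈ b)
    (hker : ∀ z : K, z ∈ Z → (θ : K → ℂ) z = (θ : K → ℂ) 1)
    (hdeg : (charDegree (θ : K → ℂ)).factorization p + (Nat.card Z).factorization p =
      (Nat.card K).factorization p)
    {D : Subgroup K} (hD : IsDefectGroup p M b D) : D ≤ Z := by
  classical
  haveI := Fact.mk hM.1
  haveI := Fintype.ofFinite (K ⧸ Z)
  obtain ⟨χf, hχf, hθχ⟩ := IsIrrCharacter.exists_quotient θ.2 Z hker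
  set χ : IrrCharacter (K ⧸ Z) := ⟨χf, hχf⟩
  have hdeg' : (charDegree (χ : K ⧸ Z → ℂ)).factorization p =
      (Nat.card (K ⧸ Z)).factorization p := by
    have h1 : charDegree (θ : K → ℂ) = charDegree (χ : K ⧸ Z → ℂ) := by
      simp [charDegree, hθχ, χ]
    have := factorization_index hM.1 Z
    rw [h1] at hdeg
    omega
  have hχ0 : ¬ p ∣ Nat.card (K ⧸ Z) / charDegree (χ : K ⧸ Z → ℂ) := by
    obtain ⟨n, hn⟩ := charDegree_dvd_card χ
    rw [hn, Nat.mul_div_cancel_left n (charDegree_pos χ)]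
    intro hd
    have hn0 : n ≠ 0 := by
      rintro rfl
      rw [mul_zero] at hn
      exact Nat.card_pos.ne' hn
    have h2 := congrArg (fun m => m.factorization p) hn
    simp only [Nat.factorization_mul (charDegree_pos χ).ne' hn0, Finsupp.coe_add,
      Pi.add_apply] at h2
    have h3 := hM.1.factorization_pos_of_dvd hn0 hd
    omega
  have hsing := blockOf_eq_singleton hM χ hχ0
  have hB' : IsPBlock M ({χ} : Set (IrrCharacter (K ⧸ Z))) := hsing ▸ isPBlock_blockOf χ
  -- the image of the idempotent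
  have he := isRCentral_blockCoeff hM hb
  have hpush : push Z (blockCoeff b) = blockCoeff ({χ} : Set (IrrCharacter (K ⧸ Z))) := by
    refine ext_omega (isRCentral_push Z he).1 (isClassFunction_blockCoeff _) fun η => ?_
    rw [← omega_comp_mk', omega_blockCoeff]
    let η₀ : IrrCharacter K := ⟨_, IsIrrCharacter.comp_surjective η.2 (QuotientGroup.mk' Z)
      (QuotientGroup.mk'_surjective Z)⟩
    show omega (η₀ : K → ℂ) (blockCoeff b) = _
    rw [omega_blockCoeff]
    suffices hiff : η₀ ∈ b ↔ η ∈ ({χ} : Set (IrrCharacter (K ⧸ Z))) by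
      simp only [hiff]
      congr
    rw [Set.mem_singleton_iff]
    constructor
    · intro h
      have h1 : SameBlock M (θ : K → ℂ) (η₀ : K → ℂ) := IsPBlock.sameBlock hb hθ h
      rw [hθχ] at h1
      have h2 := (sameBlock_comp_mk_iff Z hM hZ hreg χ η).2 h1
      have h3 : η ∈ blockOf M (χ : K ⧸ Z → ℂ) := h2
      rw [hsing] at h3
      exact h3
    · rintro rfl
      rwa [show η₀ = θ from Subtype.ext hθχ.symm]
  obtain ⟨g, hg, S, hS⟩ := hD
  have hgreg : ¬ p ∣ orderOf g := fun h => hg.2.1 (by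
    rw [blockCoeff_eq_zero_of_dvd hM hb h]; exact memLocalIdeal_zero)
  have hval : blockCoeff ({χ} : Set (IrrCharacter (K ⧸ Z))) (QuotientGroup.mk' Z g) =
      blockCoeff b g := by
    rw [← hpush, push, Finset.sum_eq_single g]
    · exact Set.indicator_of_mem (by simp) _
    · intro x _ hx
      by_cases hxm : QuotientGroup.mk' Z x = QuotientGroup.mk' Z g
      · rw [Set.indicator_of_mem (show x ∈ {x : K | QuotientGroup.mk' Z x = QuotientGroup.mk' Z g}
          from hxm)]
        by_cases hd : p ∣ orderOf x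
        · exact blockCoeff_eq_zero_of_dvd hM hb hd
        · exact absurd (eq_of_regular_of_commute Z hM.1 hZ hgreg (hreg g hgreg) hd hxm) hx
      · exact Set.indicator_of_notMem (s := {x : K | QuotientGroup.mk' Z x = QuotientGroup.mk' Z g})
          hxm _
    · simp
  have hunit : ¬ MemLocalIdeal M
      (blockCoeff ({χ} : Set (IrrCharacter (K ⧸ Z))) (QuotientGroup.mk' Z g)) :=
    hval ▸ hg.2.1
  obtain ⟨E, hE⟩ := exists_isDefectGroup hM hB'
  have hEcard : Nat.card E = 1 := by
    rw [IsDefectGroup.card_eq hM hB' hE]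
    simp [blockDefect, hdeg']
  obtain ⟨c₀, hc₀, S₀, hS₀⟩ := hE
  obtain ⟨T⟩ : Nonempty (Sylow p
    (Subgroup.centralizer ({QuotientGroup.mk' Z g} : Set (K ⧸ Z)))) := inferInstance
  have hTle := (isConjLE_of_coeff hM hB' hc₀ S₀ (isPGroup_sylowSub T)
    (mem_centralizer_sylowSub T) hunit).card_le
  rw [show sylowSub S₀ = E from hS₀.symm, hEcard, card_sylowSub T] at hTle
  have hCp : ¬ p ∣ Nat.card (Subgroup.centralizer ({QuotientGroup.mk' Z g} : Set (K ⧸ Z))) := by
    intro hd
    have h1 := hM.1.factorization_pos_of_dvd Nat.card_pos.ne' hd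
    exact absurd hTle (not_le.2 (Nat.one_lt_pow h1.ne' hM.1.one_lt))
  intro d hd
  rw [← QuotientGroup.eq_one_iff]
  have hDle : D ≤ Subgroup.centralizer ({g} : Set K) := by
    rw [hS]; exact sylowSub_le S
  have hdC : QuotientGroup.mk' Z d ∈
      Subgroup.centralizer ({QuotientGroup.mk' Z g} : Set (K ⧸ Z)) := by
    rw [Subgroup.mem_centralizer_singleton_iff, ← map_mul, ← map_mul,
      Subgroup.mem_centralizer_singleton_iff.1 (hDle hd)]
  obtain ⟨k, hk⟩ := IsPGroup.iff_orderOf.1 (hS ▸ isPGroup_sylowSub S : IsPGroup p D) ⟨d, hd⟩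
  rw [Subgroup.orderOf_mk] at hk
  obtain ⟨i, -, hi⟩ := (Nat.dvd_prime_pow hM.1).1 (hk ▸ orderOf_map_dvd (QuotientGroup.mk' Z) d)
  show QuotientGroup.mk' Z d = 1
  rcases Nat.eq_zero_or_pos i with h0 | h0
  · rw [← orderOf_eq_one_iff, hi, h0, pow_zero]
  · refine absurd ?_ hCp
    calc p ∣ orderOf (QuotientGroup.mk' Z d) := hi ▸ dvd_pow_self p h0.ne'
      _ = orderOf (⟨_, hdC⟩ : Subgroup.centralizer ({QuotientGroup.mk' Z g} : Set (K ⧸ Z))) :=
        (Subgroup.orderOf_mk _ hdC).symm
      _ ∣ _ := orderOf_dvd_natCard _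

/-- A block with defect group `Z` has a character of defect zero in the quotient. -/
theorem exists_defectZero_of_defectGroup (hM : IsPModular p M) (hb : IsPBlock M b)
    (hD : IsDefectGroup p M b Z) :
    ∃ θ ∈ b, (∀ z : K, z ∈ Z → (θ : K → ℂ) z = (θ : K → ℂ) 1) ∧
      (charDegree (θ : K → ℂ)).factorization p + (Nat.card Z).factorization p =
        (Nat.card K).factorization p := by
  classical
  haveI := Fact.mk hM.1
  haveI := Fintype.ofFinite (K ⧸ Z)
  obtain ⟨χ, θ, hθ, hθχ⟩ := exists_inflated_mem Z hM (IsDefectGroup.isPGroup hD) hb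
  refine ⟨θ, hθ, fun z hz => ?_, ?_⟩
  · simp [hθχ, (QuotientGroup.eq_one_iff z).2 hz]
  have h1 : charDegree (θ : K → ℂ) = charDegree (χ : K ⧸ Z → ℂ) := by simp [charDegree, hθχ]
  have h2 := factorization_index hM.1 Z
  have h3 : (charDegree (θ : K → ℂ)).factorization p ≤ (Nat.card (K ⧸ Z)).factorization p := by
    rw [h1]
    exact (Nat.factorization_le_iff_dvd (charDegree_pos χ).ne' Nat.card_pos.ne').2
      (charDegree_dvd_card χ) p
  have h4 := IsDefectGroup.card_eq hM hb hD
  have h5 : sInf ((fun ψ : IrrCharacter K => (charDegree (ψ : K → ℂ)).factorization p) '' b) ≤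
      (charDegree (θ : K → ℂ)).factorization p := Nat.sInf_le ⟨θ, hθ, rfl⟩
  have h6 : (Nat.card Z).factorization p = blockDefect p b := by
    rw [h4, hM.1.factorization_pow, Finsupp.single_eq_same]
  rw [blockDefect] at h6
  omega

end Cfsg.Agent.Lib.BrauerPairs
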