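import Cfsg.Agent.Lib.BrauerPairs.Maximal

/-!
# Brauer's third main theorem
-/

set_option autoImplicit false
set_option linter.unusedSectionVars false
set_option linter.style.haveILetI false

namespace Cfsg.Agent.Lib.BrauerPairs

open Cfsg Cfsg.Agent.Lib.Blocks Cfsg.Agent.Lib.Characters

universe u

variable {G : Type u} [Group G] [Fintype G] {M : Ideal AlgInt} [hMp : M.IsPrime] {p : ℕ}
  {P Q : Subgroup G}

theorem trivIrr_apply' {H : Type u} [Group H] (h : H) : (trivIrr H : H → ℂ) h = 1 := rfl

theorem trivIrr_mem_principalBlock {H : Type u} [Group H] [Fintype H] :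
    trivIrr H ∈ principalBlock M H := by
  rw [principalBlock]
  show trivIrr H ∈ blockOf M (trivIrr H : H → ℂ)
  exact self_mem_blockOf (M := M) (trivIrr H)

/-- Summing a fixed function over `G` and over `C(P)`. -/
theorem brauerOmega_trivIrr_congr (hM : IsPModular p M) (hP : IsPGroup p P) {β : G → ℂ}
    (hR : ∀ x, MemLocalRing M (β x)) (hβ : IsPInv P β) :
    MemLocalIdeal M (∑ x, β x -
      brauerOmega P β (trivIrr (Subgroup.centralizer (P : Set G)) :
        Subgroup.centralizer (P : Set G) → ℂ)) := by
  classical
  haveI := Fact.mk hM.1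
  have h := memLocalIdeal_sum_sub_sum_centralizer hM P hP β hR hβ
  convert h using 2
  rw [brauerOmega_eq_omega, omega, trivIrr_apply', div_one, ← Finset.sum_filter]
  simp only [trivIrr_apply', mul_one, resFun]
  exact (Finset.sum_subtype _ (fun x => by simp) β).symm

theorem sum_blockCoeff_principal {H : Type u} [Group H] [Fintype H] :
    ∑ x, blockCoeff (principalBlock M H) x = 1 := by
  classical
  have h := omega_blockCoeff (principalBlock M H) (trivIrr H)
  rw [if_pos trivIrr_mem_principalBlock, omega] at h
  simpa [trivIrr_apply'] using h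

theorem isBrauerPair_principal (hQ : IsPGroup p Q) :
    IsBrauerPair p M Q (principalBlock M (Subgroup.centralizer (Q : Set G))) :=
  ⟨hQ, by classical exact isPBlock_principalBlock⟩

/-- The principal block of a centraliser belongs to the principal block. -/
theorem isBrauerPairOf_principal (hM : IsPModular p M) (hQ : IsPGroup p Q) :
    IsBrauerPairOf p M (principalBlock M G) Q
      (principalBlock M (Subgroup.centralizer (Q : Set G))) := by
  classical
  refine isBrauerPairOf_of_exists hM (isBrauerPair_principal hQ) isPBlock_principalBlock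
    trivIrr_mem_principalBlock ?_
  have hE : IsRCentral M (blockCoeff (principalBlock M G)) :=
    isRCentral_blockCoeff hM isPBlock_principalBlock
  have h := brauerOmega_trivIrr_congr hM hQ hE.2 (isPInv_of_isClassFunction Q hE.1)
  rw [sum_blockCoeff_principal] at h
  simpa using memLocalIdeal_neg h

theorem sum_subgroupBlockCoeff_principal (K : Subgroup G) :
    ∑ x, subgroupBlockCoeff K (principalBlock M K) x = 1 := by
  classical
  rw [← sum_blockCoeff_principal (M := M) (H := K)]
  rw [← Finset.sum_subset (Finset.subset_univ (Finset.univ.filter (· ∈ K)))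
    fun x _ hx => subgroupBlockCoeff_of_notMem _ fun h => hx (by simp [h]),
    Finset.sum_subtype (p := fun x => x ∈ K) _ (fun x => by simp)]
  exact Finset.sum_congr rfl fun k _ => subgroupBlockCoeff_of_mem _ k.2

theorem stabilizesBlock_principal {K : Subgroup G} [Fintype K] {a : G}
    (ha : a ∈ Subgroup.normalizer (K : Set G)) :
    StabilizesBlock K (principalBlock M K) a := by
  classical
  rw [stabilizesBlock_iff ha, ← subgroupBlockCoeff_transBlock a (mem_conj_iff_of_mem_normalizer ha)]
  have h1 : trivIrr K ∈ transBlock (conjEquiv a (mem_conj_iff_of_mem_normalizer ha))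
      (principalBlock M K) := ⟨trivIrr K, trivIrr_mem_principalBlock, Subtype.ext rfl⟩
  rw [IsPBlock.eq_of_mem (isPBlock_transBlock (M := M) _ isPBlock_principalBlock)
    isPBlock_principalBlock h1 trivIrr_mem_principalBlock]

/-- Principal blocks of centralisers include normally. -/
theorem isNormalSubpair_principal (hM : IsPModular p M) (hP : IsPGroup p P) (hQP : Q ≤ P)
    (hPN : P ≤ Subgroup.normalizer (Q : Set G)) :
    IsNormalSubpair p M Q (principalBlock M (Subgroup.centralizer (Q : Set G))) P
      (principalBlock M (Subgroup.centralizer (P : Set G))) := by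
  classical
  have hst : ∀ a ∈ P, StabilizesBlock (Subgroup.centralizer (Q : Set G))
      (principalBlock M (Subgroup.centralizer (Q : Set G))) a := fun a ha =>
    stabilizesBlock_principal (normalizer_le_normalizer_centralizer Q (hPN ha))
  have hI := isLocInv_subgroupBlockCoeff hM hQP hPN isPBlock_principalBlock hst
  refine isNormalSubpair_of_exists hM hQP hPN isPBlock_principalBlock (isBrauerPair_principal hP)
    hst trivIrr_mem_principalBlock ?_
  have h := brauerOmega_trivIrr_congr hM hP hI.ring hI.pinv
  rw [sum_subgroupBlockCoeff_principal] at h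
  simpa using memLocalIdeal_neg h

/-- Principal blocks of centralisers include. -/
theorem subpairLE_principal (hM : IsPModular p M) (hP : IsPGroup p P) (hQP : Q ≤ P) :
    SubpairLE p M Q (principalBlock M (Subgroup.centralizer (Q : Set G))) P
      (principalBlock M (Subgroup.centralizer (P : Set G))) := by
  classical
  haveI := Fact.mk hM.1
  suffices key : ∀ (n : ℕ) (Q : Subgroup G), Nat.card P - Nat.card Q = n → Q ≤ P →
      SubpairLE p M Q (principalBlock M (Subgroup.centralizer (Q : Set G))) P
        (principalBlock M (Subgroup.centralizer (P : Set G))) from key _ Q rfl hQP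
  intro n
  induction n using Nat.strong_induction_on with
  | _ n ih =>
    intro Q hn hQP
    rcases eq_or_lt_of_le hQP with rfl | hlt
    · exact Relation.ReflTransGen.refl
    · set N := P ⊓ Subgroup.normalizer (Q : Set G) with hN
      have hQN : Q < N := lt_inf_normalizer hP hlt
      have h1 := card_lt_card_subgroup hQN
      have h2 : Nat.card N ≤ Nat.card P := Subgroup.card_le_of_le inf_le_left
      exact subpairLE_trans
        (subpairLE_single (isNormalSubpair_principal hM (hP.to_le inf_le_left) hQN.le inf_le_right))
        (ih _ (by omega) N rfl inf_le_left)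

/-- A Sylow subgroup with the principal block of its centraliser is maximal. -/
theorem isMaximalBrauerPair_principal (hM : IsPModular p M) (S : Sylow p G) :
    IsMaximalBrauerPair p M (principalBlock M G) (S : Subgroup G)
      (principalBlock M (Subgroup.centralizer ((S : Subgroup G) : Set G))) :=
  ⟨isBrauerPairOf_principal hM S.isPGroup',
    fun _ _ hR hle => S.is_maximal' hR.1.1 (subpairLE_le hle)⟩

/-- **Brauer's third main theorem.** -/
theorem isBrauerPairOf_principal_iff (hM : IsPModular p M) (hQ : IsPGroup p Q)
    {e : Set (IrrCharacter (Subgroup.centralizer (Q : Set G)))} :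
    IsBrauerPairOf p M (principalBlock M G) Q e ↔
      e = principalBlock M (Subgroup.centralizer (Q : Set G)) := by
  classical
  haveI := Fact.mk hM.1
  refine ⟨fun h => ?_, fun h => h ▸ isBrauerPairOf_principal hM hQ⟩
  obtain ⟨S⟩ : Nonempty (Sylow p G) := inferInstance
  obtain ⟨x, hx⟩ := exists_conj_subpairLE hM (isMaximalBrauerPair_principal hM S) h
  have h2 := subpairLE_principal (M := M) hM S.isPGroup' (subpairLE_le hx)
  have h3 := subpairLE_unique hM (isBrauerPair_principal S.isPGroup') hx h2
  have ht : transIrr (conjEquiv x (mem_centralizer_map_conj Q x))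
      (trivIrr (Subgroup.centralizer (Q : Set G))) =
      trivIrr (Subgroup.centralizer ((Q.map (MulAut.conj x).toMonoidHom : Subgroup G) : Set G)) :=
    Subtype.ext rfl
  have h4 : trivIrr (Subgroup.centralizer
      ((Q.map (MulAut.conj x).toMonoidHom : Subgroup G) : Set G)) ∈ conjBlock Q x e := by
    rw [h3]; exact trivIrr_mem_principalBlock
  obtain ⟨ξ, hξ, hξe⟩ := conjBlock_nonempty_iff.1 h4
  obtain rfl := transIrr_injective _ (hξe.trans ht.symm)
  exact IsPBlock.eq_of_mem h.1.2 isPBlock_principalBlock hξ trivIrr_mem_principalBlock

end Cfsg.Agent.Lib.BrauerPairs
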