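import Cfsg.Agent.Lib.BrauerPairs.Local
import Cfsg.Agent.Lib.BrauerPairs.Principal
import Cfsg.Prelude.Def_BlockFusion

/-!
# The fusion system of a block: conjugacy, fully centralised and fully normalised subgroups
-/

set_option autoImplicit false
set_option linter.unusedSectionVars false
set_option linter.style.haveILetI false

namespace Cfsg.Agent.Lib.BrauerPairs

open Cfsg Cfsg.Agent.Lib.Blocks Cfsg.Agent.Lib.Characters

universe u

variable {G : Type u} [Group G] [Fintype G] {M : Ideal AlgInt} [hMp : M.IsPrime] {p : ℕ}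
  {P Q R : Subgroup G} {B : Set (IrrCharacter G)}
  {e : Set (IrrCharacter (Subgroup.centralizer (P : Set G)))}
  {f : Set (IrrCharacter (Subgroup.centralizer (Q : Set G)))} {F : FusionSystem P}

theorem subpairLE_conj_one (h : SubpairLE p M Q f P e) :
    SubpairLE p M (Q.map (MulAut.conj (1 : G)).toMonoidHom) (conjBlock Q 1 f) P e := by
  show Relation.ReflTransGen (NormalSubpairRel p M) (conjPair 1 ⟨Q, f⟩) ⟨P, e⟩
  rw [conjPair_one]
  exact h

/-- A measure on conjugates below `(P, e)` is maximised. -/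
theorem exists_best (w : Subgroup G → ℕ) {n : ℕ} (hn : ∀ R, w R ≤ n)
    (h : ∃ x : G, SubpairLE p M (Q.map (MulAut.conj x).toMonoidHom) (conjBlock Q x f) P e) :
    ∃ x : G, SubpairLE p M (Q.map (MulAut.conj x).toMonoidHom) (conjBlock Q x f) P e ∧
      ∀ y : G, SubpairLE p M ((Q.map (MulAut.conj x).toMonoidHom).map (MulAut.conj y).toMonoidHom)
        (conjBlock (Q.map (MulAut.conj x).toMonoidHom) y (conjBlock Q x f)) P e →
        w ((Q.map (MulAut.conj x).toMonoidHom).map (MulAut.conj y).toMonoidHom) ≤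
          w (Q.map (MulAut.conj x).toMonoidHom) := by
  obtain ⟨x, hx, hbest⟩ := exists_max_conj (p := p) (M := M) (e := e) (f := f) w hn h
  refine ⟨x, hx, fun y hy => ?_⟩
  rw [map_conj_map_conj]
  exact hbest _ (conjBlock_subpairLE_trans hy)

/-- S4661. -/
theorem defectGroups_centralizer (hM : IsPModular p M) (hmax : IsMaximalBrauerPair p M B P e)
    (hle : SubpairLE p M Q f P e) :
    (∃ D : Subgroup (Subgroup.centralizer (Q : Set G)), IsDefectGroup p M f D ∧
      (P ⊓ Subgroup.centralizer (Q : Set G)).subgroupOf (Subgroup.centralizer (Q : Set G)) ≤ D) ∧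
    ∃ x : G, SubpairLE p M (Q.map (MulAut.conj x).toMonoidHom) (conjBlock Q x f) P e ∧
      IsDefectGroup p M (conjBlock Q x f)
        ((P ⊓ Subgroup.centralizer
          ((Q.map (MulAut.conj x).toMonoidHom : Subgroup G) : Set G)).subgroupOf
          (Subgroup.centralizer ((Q.map (MulAut.conj x).toMonoidHom : Subgroup G) : Set G))) := by
  refine ⟨exists_defectGroup_ge_centralizer hM hmax.1.1 hle, ?_⟩
  obtain ⟨x, hx, hbest⟩ := exists_best (p := p) (M := M) (e := e) (f := f)
    (fun R => Nat.card (P ⊓ Subgroup.centralizer (R : Set G) : Subgroup G))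
    (fun R => Subgroup.card_le_card_group _) ⟨1, subpairLE_conj_one hle⟩
  exact ⟨x, hx, isDefectGroup_centralizer_of_max hM hmax hx hbest⟩

/-- S4662. -/
theorem defectGroups_stab (hM : IsPModular p M) (hmax : IsMaximalBrauerPair p M B P e)
    (hle : SubpairLE p M Q f P e) :
    (∃ F : Set (IrrCharacter (pairStab Q f)), IsPBlock M F ∧
      (∀ t : pairStab Q f, blockCoeff F t =
        subgroupBlockCoeff (Subgroup.centralizer (Q : Set G)) f (t : G)) ∧
      ∃ D : Subgroup (pairStab Q f), IsDefectGroup p M F D ∧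
        (P ⊓ Subgroup.normalizer (Q : Set G)).subgroupOf (pairStab Q f) ≤ D) ∧
    ∃ x : G, SubpairLE p M (Q.map (MulAut.conj x).toMonoidHom) (conjBlock Q x f) P e ∧
      ∃ F' : Set (IrrCharacter (pairStab (Q.map (MulAut.conj x).toMonoidHom) (conjBlock Q x f))),
        IsPBlock M F' ∧ (∀ t : pairStab (Q.map (MulAut.conj x).toMonoidHom) (conjBlock Q x f),
          blockCoeff F' t = subgroupBlockCoeff
            (Subgroup.centralizer ((Q.map (MulAut.conj x).toMonoidHom : Subgroup G) : Set G))
            (conjBlock Q x f) (t : G)) ∧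
        IsDefectGroup p M F' ((P ⊓ Subgroup.normalizer
          ((Q.map (MulAut.conj x).toMonoidHom : Subgroup G) : Set G)).subgroupOf
            (pairStab (Q.map (MulAut.conj x).toMonoidHom) (conjBlock Q x f))) := by
  classical
  have hQf := isBrauerPair_of_subpairLE hmax.1.1 hle
  refine ⟨⟨blockAbove (pairStab Q f) f,
    isPBlock_blockAbove hM hQf.1 hQf.2 centralizer_le_pairStab le_pairStab_self le_rfl,
    fun t => congrFun (blockCoeff_blockAbove hM hQf.2 centralizer_le_pairStab le_rfl) t,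
    exists_defectGroup_ge_stab hM hmax.1.1 hle⟩, ?_⟩
  obtain ⟨x, hx, hbest⟩ := exists_best (p := p) (M := M) (e := e) (f := f)
    (fun R => Nat.card (P ⊓ Subgroup.normalizer (R : Set G) : Subgroup G))
    (fun R => Subgroup.card_le_card_group _) ⟨1, subpairLE_conj_one hle⟩
  have hQf' := isBrauerPair_of_subpairLE hmax.1.1 hx
  exact ⟨x, hx, blockAbove _ (conjBlock Q x f),
    isPBlock_blockAbove hM hQf'.1 hQf'.2 centralizer_le_pairStab le_pairStab_self le_rfl,
    fun t => congrFun (blockCoeff_blockAbove hM hQf'.2 centralizer_le_pairStab le_rfl) t,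
    isDefectGroup_stab_of_max hM hmax hx hbest⟩

/-- A block with the coefficients of `f` is the block above `f`. -/
theorem eq_blockAbove (hM : IsPModular p M) {T : Subgroup G} [Fintype T] (hf : IsPBlock M f)
    (hCT : Subgroup.centralizer (Q : Set G) ≤ T) (hT : T ≤ pairStab Q f)
    {F' : Set (IrrCharacter T)} (h : ∀ t : T, blockCoeff F' t =
      subgroupBlockCoeff (Subgroup.centralizer (Q : Set G)) f (t : G)) :
    F' = blockAbove T f :=
  blockCoeff_injective (funext fun t => by rw [h t, blockCoeff_blockAbove hM hf hCT hT]; rfl)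

/-! ### Conjugacy in the fusion system -/

theorem range_eq_map_conj {φ : Q →* G} {g : G} (hg : ∀ u : Q, φ u = g * (u : G) * g⁻¹) :
    φ.range = Q.map (MulAut.conj g).toMonoidHom := by
  ext y
  constructor
  · rintro ⟨u, rfl⟩
    exact ⟨u, u.2, (hg u).symm⟩
  · rintro ⟨u, hu, rfl⟩
    exact ⟨⟨u, hu⟩, hg ⟨u, hu⟩⟩

theorem isConj_iff_exists (hM : IsPModular p M) (hF : IsBlockFusionSystemOn p M B P e F)
    (hle : SubpairLE p M Q f P e) :
    F.IsConj Q R ↔ ∃ g : G, R = Q.map (MulAut.conj g).toMonoidHom ∧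
      SubpairLE p M (Q.map (MulAut.conj g).toMonoidHom) (conjBlock Q g f) P e := by
  constructor
  · rintro ⟨φ, hφ, rfl⟩
    obtain ⟨-, g, hg, -, f', hf', hf''⟩ := (hF.2 Q φ).1 hφ
    obtain rfl := subpairLE_unique hM hF.1.1.1 hle hf'
    exact ⟨g, range_eq_map_conj hg, hf''⟩
  · rintro ⟨g, rfl, hg⟩
    refine ⟨conjHom Q g, (hF.2 Q _).2 ⟨subpairLE_le hle, g, fun u => rfl, subpairLE_le hg,
      f, hle, hg⟩, range_eq_map_conj fun u => rfl⟩

/-- S4678. -/
theorem isFullyCentralized_iff (hM : IsPModular p M) (hF : IsBlockFusionSystemOn p M B P e F)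
    (hle : SubpairLE p M Q f P e) :
    F.IsFullyCentralized Q ↔ IsDefectGroup p M f
      ((P ⊓ Subgroup.centralizer (Q : Set G)).subgroupOf (Subgroup.centralizer (Q : Set G))) := by
  refine ⟨fun h => isDefectGroup_centralizer_of_max hM hF.1 hle fun y hy =>
    h.2 _ ((isConj_iff_exists hM hF hle).2 ⟨y, rfl, hy⟩), fun hD => ⟨subpairLE_le hle, ?_⟩⟩
  intro R hR
  obtain ⟨g, rfl, hg⟩ := (isConj_iff_exists hM hF hle).1 hR
  have h := card_inf_centralizer_conj_le hM hF.1.1.1 (isBrauerPair_of_subpairLE hF.1.1.1 hle).2 hg hD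
  rw [card_subgroupOf inf_le_right] at h
  exact h

/-- S4679. -/
theorem isFullyNormalized_iff (hM : IsPModular p M) (hF : IsBlockFusionSystemOn p M B P e F)
    (hle : SubpairLE p M Q f P e) :
    F.IsFullyNormalized Q ↔ ∃ F' : Set (IrrCharacter (pairStab Q f)), IsPBlock M F' ∧
      (∀ t : pairStab Q f, blockCoeff F' t =
        subgroupBlockCoeff (Subgroup.centralizer (Q : Set G)) f (t : G)) ∧
      IsDefectGroup p M F'
        ((P ⊓ Subgroup.normalizer (Q : Set G)).subgroupOf (pairStab Q f)) := by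
  classical
  have hQf := isBrauerPair_of_subpairLE hF.1.1.1 hle
  constructor
  · intro h
    exact ⟨blockAbove (pairStab Q f) f,
      isPBlock_blockAbove hM hQf.1 hQf.2 centralizer_le_pairStab le_pairStab_self le_rfl,
      fun t => congrFun (blockCoeff_blockAbove hM hQf.2 centralizer_le_pairStab le_rfl) t,
      isDefectGroup_stab_of_max hM hF.1 hle fun y hy =>
        h.2 _ ((isConj_iff_exists hM hF hle).2 ⟨y, rfl, hy⟩)⟩
  · rintro ⟨F', -, hF', hD⟩
    refine ⟨subpairLE_le hle, fun R hR => ?_⟩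
    obtain rfl := eq_blockAbove hM hQf.2 centralizer_le_pairStab le_rfl hF'
    obtain ⟨g, rfl, hg⟩ := (isConj_iff_exists hM hF hle).1 hR
    have h := card_inf_normalizer_conj_le hM hF.1.1.1 hQf hg hD
    rw [card_subgroupOf (inf_normalizer_props hM hF.1.1.1 hle).1] at h
    exact h

theorem card_inf_centralizer_self (Q : Subgroup G) (g : G) :
    Nat.card ((Q.map (MulAut.conj g).toMonoidHom) ⊓ Subgroup.centralizer
      ((Q.map (MulAut.conj g).toMonoidHom : Subgroup G) : Set G) : Subgroup G) =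
      Nat.card (Q ⊓ Subgroup.centralizer (Q : Set G) : Subgroup G) := by
  rw [← card_map_conj (Q ⊓ Subgroup.centralizer (Q : Set G)) g]
  congr 2
  ext x
  simp only [Subgroup.mem_inf, mem_map_conj_iff, mem_centralizer_map_conj]

/-- S4680. -/
theorem isCentric_iff (hM : IsPModular p M) (hF : IsBlockFusionSystemOn p M B P e F)
    (hle : SubpairLE p M Q f P e) :
    F.IsCentric Q ↔ IsDefectGroup p M f
      ((Q ⊓ Subgroup.centralizer (Q : Set G)).subgroupOf (Subgroup.centralizer (Q : Set G))) := by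
  have hQP := subpairLE_le hle
  have hQf := isBrauerPairOf_of_subpairLE hM hF.1 hle
  have hsub : ∀ g : G, SubpairLE p M (Q.map (MulAut.conj g).toMonoidHom) (conjBlock Q g f) P e →
      (Q.map (MulAut.conj g).toMonoidHom) ⊓ Subgroup.centralizer
        ((Q.map (MulAut.conj g).toMonoidHom : Subgroup G) : Set G) ≤
      P ⊓ Subgroup.centralizer ((Q.map (MulAut.conj g).toMonoidHom : Subgroup G) : Set G) :=
    fun g hg => inf_le_inf_right _ (subpairLE_le hg)
  constructor
  · intro h
    obtain ⟨D, hD, hDle⟩ := exists_defectGroup_ge_centralizer hM hF.1.1.1 hle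
    obtain ⟨y, hy, hcard⟩ := exists_conj_card_centralizer hM hF.1 hQf hD
    have h1 := h.2 _ ((isConj_iff_exists hM hF hle).2 ⟨y, rfl, hy⟩)
    have h2 : Nat.card D ≤ Nat.card (Q ⊓ Subgroup.centralizer (Q : Set G) : Subgroup G) := by
      rw [← card_inf_centralizer_self Q y]
      exact hcard.trans (Subgroup.card_le_of_le (le_inf h1 inf_le_right))
    have h3 : (Q ⊓ Subgroup.centralizer (Q : Set G)).subgroupOf
        (Subgroup.centralizer (Q : Set G)) ≤ D := fun x hx => hDle
      ⟨hQP (Subgroup.mem_subgroupOf.1 hx).1, x.2⟩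
    rwa [Subgroup.eq_of_le_of_card_ge h3 (by rw [card_subgroupOf inf_le_right]; exact h2)]
  · intro hD
    refine ⟨hQP, fun R hR => ?_⟩
    obtain ⟨g, rfl, hg⟩ := (isConj_iff_exists hM hF hle).1 hR
    have h := card_inf_centralizer_conj_le hM hF.1.1.1 hQf.1.2 hg hD
    rw [card_subgroupOf inf_le_right, ← card_inf_centralizer_self Q g] at h
    have h1 := Subgroup.eq_of_le_of_card_ge (hsub g hg) h
    show P ⊓ _ ≤ _
    rw [← h1]
    exact inf_le_left

theorem conjBlock_principal (Q : Subgroup G) (g : G) :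
    conjBlock Q g (principalBlock M (Subgroup.centralizer (Q : Set G))) =
      principalBlock M
        (Subgroup.centralizer ((Q.map (MulAut.conj g).toMonoidHom : Subgroup G) : Set G)) := by
  classical
  refine IsPBlock.eq_of_mem (isPBlock_conjBlock Q g isPBlock_principalBlock)
    isPBlock_principalBlock ?_ trivIrr_mem_principalBlock
  exact conjBlock_nonempty_iff.2 ⟨trivIrr _, trivIrr_mem_principalBlock, Subtype.ext rfl⟩

/-- S4681. -/
theorem hom_principal_eq (hM : IsPModular p M) (S : Sylow p G)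
    (F : FusionSystem (S : Subgroup G))
    (hF : IsBlockFusionSystemOn p M (principalBlock M G) (S : Subgroup G)
      (principalBlock M (Subgroup.centralizer ((S : Subgroup G) : Set G))) F) (Q : Subgroup G) :
    F.Hom Q = (groupFusionSystem (S : Subgroup G)).Hom Q := by
  ext φ
  rw [hF.2 Q φ]
  constructor
  · rintro ⟨hQ, g, hg, hle, -⟩
    exact ⟨hQ, fun x => hle ⟨x, x.2, (hg x).symm⟩, g, hg⟩
  · rintro ⟨hQ, hS, g, hg⟩
    have hmap : Q.map (MulAut.conj g).toMonoidHom ≤ (S : Subgroup G) := by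
      rintro _ ⟨x, hx, rfl⟩
      have := hS ⟨x, hx⟩
      rwa [hg] at this
    refine ⟨hQ, g, hg, hmap, _, subpairLE_principal hM S.isPGroup' hQ, ?_⟩
    rw [conjBlock_principal]
    exact subpairLE_principal hM S.isPGroup' hmap

end Cfsg.Agent.Lib.BrauerPairs
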