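import Cfsg.Agent.Lib.BrauerPairs.Relative
import Cfsg.Agent.Lib.BrauerPairs.Fusion
import Cfsg.Agent.Lib.Fusion.Essential

/-!
# Saturation of block fusion systems
-/

set_option autoImplicit false
set_option linter.unusedSectionVars false
set_option linter.style.haveILetI false

namespace Cfsg.Agent.Lib.BrauerPairs

open Cfsg Cfsg.Agent.Lib.Blocks Cfsg.Agent.Lib.Characters

universe u

variable {G : Type u} [Group G] [Fintype G] {M : Ideal AlgInt} [hMp : M.IsPrime] {p : ℕ}
  {P Q : Subgroup G} {B : Set (IrrCharacter G)}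
  {e : Set (IrrCharacter (Subgroup.centralizer (P : Set G)))}
  {f : Set (IrrCharacter (Subgroup.centralizer (Q : Set G)))}

theorem conjPair_eq_self {a : G} (ha : a ∈ P) :
    conjPair a (⟨P, e⟩ : BrauerPairIdx G) = ⟨P, e⟩ :=
  pair_ext (map_conj_of_mem_normalizer (Subgroup.le_normalizer ha))
    ((pairCoeff_conjPair a ⟨P, e⟩).trans (le_pairStab_self ha).2)

/-- Two pairs below a pair with the same subgroup are equal. -/
theorem pair_unique (hM : IsPModular p M) (hPe : IsBrauerPair p M P e) {a b : BrauerPairIdx G}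
    (ha : SubpairLE p M a.1 a.2 P e) (hb : SubpairLE p M b.1 b.2 P e) (h : a.1 = b.1) : a = b := by
  obtain ⟨A, a'⟩ := a
  obtain ⟨B', b'⟩ := b
  simp only at h
  subst h
  obtain rfl := subpairLE_unique hM hPe ha hb
  rfl

theorem subpairLE_conjPair_self {a : G} (ha : a ∈ P) (h : SubpairLE p M Q f P e) :
    SubpairLE p M (Q.map (MulAut.conj a).toMonoidHom) (conjBlock Q a f) P e := by
  have h1 : Relation.ReflTransGen (NormalSubpairRel p M) (conjPair a ⟨Q, f⟩)
      (conjPair a ⟨P, e⟩) := subpairLE_conj h a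
  rw [conjPair_eq_self ha] at h1
  exact h1

/-- **The block fusion system exists.** -/
def blockFusion (hM : IsPModular p M) (hmax : IsMaximalBrauerPair p M B P e) : FusionSystem P where
  Hom Q := {φ | Q ≤ P ∧ ∃ g : G, (∀ u : Q, φ u = g * (u : G) * g⁻¹) ∧
        Q.map (MulAut.conj g).toMonoidHom ≤ P ∧
        ∃ f : Set (IrrCharacter (Subgroup.centralizer (Q : Set G))),
          SubpairLE p M Q f P e ∧
            SubpairLE p M (Q.map (MulAut.conj g).toMonoidHom) (conjBlock Q g f) P e}
  le_of_mem := by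
    rintro Q φ ⟨hQ, g, hg, hle, -⟩
    exact ⟨hQ, fun x => hle ⟨x, x.2, (hg x).symm⟩⟩
  injective_of_mem := by
    rintro Q φ ⟨-, g, hg, -⟩ a b hab
    have h : g * (a : G) * g⁻¹ = g * (b : G) * g⁻¹ := ((hg a).symm.trans hab).trans (hg b)
    exact Subtype.ext (mul_left_cancel (mul_right_cancel h))
  conj_mem := by
    intro Q g hQ hg
    obtain ⟨f, -, hle⟩ := exists_subpairLE hM hmax.1.1 hQ
    exact ⟨hQ, g, fun u => rfl, subpairLE_le (subpairLE_conjPair_self hg hle), f, hle,
      subpairLE_conjPair_self hg hle⟩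
  comp_mem := by
    rintro Q R φ ψ ⟨hQ, g, hg, hgle, f, hf, hf'⟩ ⟨-, k, hk, hkle, r, hr, hr'⟩ h
    have hQR : Q.map (MulAut.conj g).toMonoidHom ≤ R := by
      rintro _ ⟨x, hx, rfl⟩
      have := h ⟨x, hx⟩
      rwa [hg] at this
    have h1 : SubpairLE p M (Q.map (MulAut.conj g).toMonoidHom) (conjBlock Q g f) R r :=
      subpairLE_of_le hM hmax.1.1 hf' hr hQR
    have h2 := conjBlock_subpairLE_trans (subpairLE_trans (subpairLE_conj h1 k) hr')
    refine ⟨hQ, k * g, fun u => ?_, subpairLE_le h2, f, hf, h2⟩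
    show ψ (φ.codRestrict R h u) = k * g * (u : G) * (k * g)⁻¹
    rw [hk]
    show k * φ u * k⁻¹ = _
    rw [hg, mul_inv_rev]
    simp only [mul_assoc]
  inv_mem := by
    rintro Q φ ⟨hQ, g, hg, hgle, f, hf, hf'⟩
    have hr : φ.range = Q.map (MulAut.conj g).toMonoidHom := range_eq_map_conj hg
    refine ⟨conjHom φ.range g⁻¹, ?_, fun x => ?_⟩
    · rw [hr]
      refine ⟨hgle, g⁻¹, fun u => rfl, ?_⟩
      have h3 : Relation.ReflTransGen (NormalSubpairRel p M) (conjPair g⁻¹ (conjPair g ⟨Q, f⟩))
          ⟨P, e⟩ := by rw [conjPair_inv_conjPair]; exact hf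
      exact ⟨subpairLE_le (Q := (conjPair g⁻¹ (conjPair g ⟨Q, f⟩)).1) h3, _, hf', h3⟩
    · show g⁻¹ * φ x * g⁻¹⁻¹ = x
      rw [hg, inv_inv]
      simp only [mul_assoc, inv_mul_cancel, mul_one, inv_mul_cancel_left]

theorem isBlockFusionSystemOn_blockFusion (hM : IsPModular p M)
    (hmax : IsMaximalBrauerPair p M B P e) :
    IsBlockFusionSystemOn p M B P e (blockFusion hM hmax) :=
  ⟨hmax, fun _ _ => Iff.rfl⟩

/-! ### The extension property -/

/-- The bound satisfied when `P ∩ N(Q)` is a defect group of the stabilizer. -/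
def IsFullPair (p : ℕ) (M : Ideal AlgInt) (P Q : Subgroup G)
    (f : Set (IrrCharacter (Subgroup.centralizer (Q : Set G)))) : Prop :=
  ∀ V : Subgroup G, V ≤ pairStab Q f → IsPGroup p V →
    (∃ c ∈ Subgroup.centralizer (V : Set G),
      ¬ MemLocalIdeal M (subgroupBlockCoeff (Subgroup.centralizer (Q : Set G)) f c)) →
    Nat.card V ≤ Nat.card (P ⊓ Subgroup.normalizer (Q : Set G) : Subgroup G)

theorem isFullPair_of_isDefectGroup (hM : IsPModular p M) (hPe : IsBrauerPair p M P e)
    (hle : SubpairLE p M Q f P e)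
    (hD : IsDefectGroup p M (blockAbove (pairStab Q f) f)
      ((P ⊓ Subgroup.normalizer (Q : Set G)).subgroupOf (pairStab Q f))) :
    IsFullPair p M P Q f := by
  classical
  intro V hV hVp hunit
  obtain ⟨c, hc, hne⟩ := hunit
  have hQf := isBrauerPair_of_subpairLE hPe hle
  have h := card_le_of_unit hM
    (isPBlock_blockAbove hM hQf.1 hQf.2 centralizer_le_pairStab le_pairStab_self le_rfl) hV hVp hc
    (by rwa [subgroupBlockCoeff_blockAbove hM hQf.2 centralizer_le_pairStab le_rfl]) hD
  rwa [card_subgroupOf (inf_normalizer_props hM hPe hle).1] at h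

/-- **The extension lemma.** -/
theorem exists_extend (hM : IsPModular p M) (hmax : IsMaximalBrauerPair p M B P e)
    (hle : SubpairLE p M Q f P e) (hfull : IsFullPair p M P Q f)
    {U : Subgroup G} {u : Set (IrrCharacter (Subgroup.centralizer (U : Set G)))}
    (hUH : U ≤ (P ⊓ Subgroup.normalizer (Q : Set G)) ⊔ Subgroup.centralizer (Q : Set G))
    (hu : IsNormalSubpair p M Q f U u) :
    ∃ c ∈ Subgroup.centralizer (Q : Set G),
      SubpairLE p M (U.map (MulAut.conj c).toMonoidHom) (conjBlock U c u) P e := by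
  classical
  set R := P ⊓ Subgroup.normalizer (Q : Set G) with hR
  have hQR : Q ≤ R := le_inf (subpairLE_le hle) Subgroup.le_normalizer
  obtain ⟨r, -, hrle⟩ := exists_subpairLE hM hmax.1.1 (inf_le_left : R ≤ P)
  have hr := isNormalSubpair_of_subpairLE hM hmax.1.1 hle hrle hQR inf_le_right
  have hHT : R ⊔ Subgroup.centralizer (Q : Set G) ≤ pairStab Q f :=
    sup_le (inf_normalizer_props hM hmax.1.1 hle).1 centralizer_le_pairStab
  obtain ⟨h, hh, hconj⟩ := exists_conj_in hM le_sup_right (hQR.trans le_sup_left) hHT hUH hu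
    le_sup_left hr fun V hV hVp hunit => hfull V (hV.trans hHT) hVp hunit
  obtain ⟨a, ha, c, hc, rfl⟩ : ∃ a ∈ R, ∃ c ∈ Subgroup.centralizer (Q : Set G), a * c = h := by
    have hnorm : R ≤ Subgroup.normalizer
        ((Subgroup.centralizer (Q : Set G) : Subgroup G) : Set G) :=
      inf_le_right.trans (normalizer_le_normalizer_centralizer Q)
    have := Subgroup.coe_mul_of_left_le_normalizer_right R _ hnorm
    have hmem : h ∈ ((R ⊔ Subgroup.centralizer (Q : Set G) : Subgroup G) : Set G) := hh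
    rw [this] at hmem
    exact hmem
  refine ⟨c, hc, ?_⟩
  have h1 := subpairLE_conjPair_self (inv_mem ha.1) (subpairLE_trans hconj hrle)
  have h2 : Relation.ReflTransGen (NormalSubpairRel p M) (conjPair a⁻¹ (conjPair (a * c) ⟨U, u⟩))
      ⟨P, e⟩ := h1
  rw [← conjPair_mul, inv_mul_cancel_left] at h2
  exact h2

/-! ### Automizers -/

/-- Conjugation of a stabiliser on its subgroup. -/
def stabHom (Q : Subgroup G) (f : Set (IrrCharacter (Subgroup.centralizer (Q : Set G)))) :
    pairStab Q f →* MulAut Q :=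
  Q.normalizerMonoidHom.comp (Subgroup.inclusion fun _ hx => hx.1)

theorem stabHom_apply (g : pairStab Q f) (x : Q) :
    ((stabHom Q f g x : Q) : G) = (g : G) * x * (g : G)⁻¹ := rfl

theorem autGroup_eq (hM : IsPModular p M) {F : FusionSystem P}
    (hF : IsBlockFusionSystemOn p M B P e F) (hle : SubpairLE p M Q f P e) :
    F.autGroup Q = (stabHom Q f).range := by
  have hQP := subpairLE_le hle
  ext α
  rw [Fusion.mem_autGroup_iff F hQP, hF.2]
  constructor
  · rintro ⟨-, g, hg, hgle, f', hf', hf''⟩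
    obtain rfl := subpairLE_unique hM hF.1.1.1 hle hf'
    have hmap : Q.map (MulAut.conj g).toMonoidHom = Q := by
      rw [← range_eq_map_conj hg, Fusion.range_autHom]
    have hgN : g ∈ Subgroup.normalizer (Q : Set G) := by
      rw [Subgroup.mem_normalizer_iff]
      intro x
      conv_rhs => rw [← hmap, mem_map_conj_iff]
      rw [show g⁻¹ * (g * x * g⁻¹) * g = x by group]
    have h1 : conjPair g ⟨Q, f⟩ = ⟨Q, f⟩ := pair_unique hM hF.1.1.1 hf'' hle hmap
    have h2 := pairCoeff_conjPair g ⟨Q, f⟩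
    rw [h1] at h2
    exact ⟨⟨g, hgN, h2.symm⟩, MulEquiv.ext fun x => Subtype.ext (hg x).symm⟩
  · rintro ⟨⟨g, hgN, hge⟩, rfl⟩
    have h1 : conjPair g ⟨Q, f⟩ = ⟨Q, f⟩ :=
      pair_ext (map_conj_of_mem_normalizer hgN) ((pairCoeff_conjPair g ⟨Q, f⟩).trans hge)
    refine ⟨hQP, g, fun u => rfl, by rw [map_conj_of_mem_normalizer hgN]; exact hQP, f, hle, ?_⟩
    show Relation.ReflTransGen (NormalSubpairRel p M) (conjPair g ⟨Q, f⟩) ⟨P, e⟩
    rw [h1]
    exact hle

/-- The stabilizer of a class in the centraliser of a stable block has index prime to `p` when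
the class has a unit central character. -/
theorem not_dvd_index_sup (hM : IsPModular p M) {T : Type u} [Group T] [Fintype T] {Q : Subgroup T}
    [hn : (Subgroup.centralizer (Q : Set T)).Normal]
    {f : Set (IrrCharacter (Subgroup.centralizer (Q : Set T)))} (hf : IsPBlock M f)
    (hst : ∀ t : T, gconj t (subgroupBlockCoeff (Subgroup.centralizer (Q : Set T)) f) =
      subgroupBlockCoeff (Subgroup.centralizer (Q : Set T)) f)
    {c : T} (hc : c ∈ Subgroup.centralizer (Q : Set T))
    {η : IrrCharacter (Subgroup.centralizer (Q : Set T))} (hη : η ∈ f)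
    (hω : ¬ MemLocalIdeal M (brauerOmega Q (classIndicator c)
      (η : Subgroup.centralizer (Q : Set T) → ℂ))) :
    ¬ p ∣ (Subgroup.centralizer ({c} : Set T) ⊔ Subgroup.centralizer (Q : Set T)).index := by
  classical
  set St := Subgroup.centralizer ({c} : Set T) ⊔ (Subgroup.centralizer (Q : Set T)) with hSt
  have hmem : ∀ t : T, t * c * t⁻¹ ∈ (Subgroup.centralizer (Q : Set T)) := fun t => hn.conj_mem c hc t
  let rep : T ⧸ St → (Subgroup.centralizer (Q : Set T)) := fun q => ⟨q.out * c * q.out⁻¹, hmem _⟩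
  have hsum : resFun (Subgroup.centralizer (Q : Set T)) (classIndicator c) =
      ∑ q : T ⧸ St, (classIndicator (rep q) : (Subgroup.centralizer (Q : Set T)) → ℂ) := by
    funext y
    rw [Finset.sum_apply]
    by_cases hy : IsConj c (y : T)
    · obtain ⟨t, ht⟩ := isConj_iff.1 hy
      have hkey : ∀ q : T ⧸ St, IsConj (rep q) y ↔ (t : T ⧸ St) = q := by
        intro q
        constructor
        · intro h
          obtain ⟨n, hn'⟩ := isConj_iff.1 h
          have h1 : (n : T) * (q.out * c * q.out⁻¹) * (n : T)⁻¹ = t * c * t⁻¹ := by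
            rw [ht]; exact congrArg Subtype.val hn'
          have h2 : t⁻¹ * ((n : T) * q.out) ∈ Subgroup.centralizer ({c} : Set T) := by
            rw [Subgroup.mem_centralizer_singleton_iff]
            calc t⁻¹ * ((n : T) * q.out) * c
                = t⁻¹ * ((n : T) * (q.out * c * q.out⁻¹) * (n : T)⁻¹) * ((n : T) * q.out) := by
                  group
              _ = c * (t⁻¹ * ((n : T) * q.out)) := by rw [h1]; group
          have h3 : t⁻¹ * q.out ∈ St := by
            have h4 : q.out⁻¹ * (n : T)⁻¹ * q.out ∈ (Subgroup.centralizer (Q : Set T)) := by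
              simpa using hn.conj_mem _ (inv_mem n.2) q.out⁻¹
            have h5 := mul_mem (Subgroup.mem_sup_left (T := (Subgroup.centralizer (Q : Set T))) h2)
              (Subgroup.mem_sup_right (S := Subgroup.centralizer ({c} : Set T)) h4)
            simpa [mul_assoc] using h5
          rw [← QuotientGroup.out_eq' q]
          exact QuotientGroup.eq.2 h3
        · rintro rfl
          obtain ⟨s, hs⟩ := QuotientGroup.mk_out_eq_mul St t
          have hsmem : (s : T) ∈ ((Subgroup.centralizer ({c} : Set T) ⊔ (Subgroup.centralizer (Q : Set T)) : Subgroup T) : Set T) :=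
            s.2
          rw [Subgroup.coe_mul_of_left_le_normalizer_right _ _
            (by rw [Subgroup.normalizer_eq_top_iff.2 hn]; exact le_top)] at hsmem
          obtain ⟨a, ha, n, hn', han⟩ := hsmem
          rw [SetLike.mem_coe, Subgroup.mem_centralizer_singleton_iff] at ha
          have hk : t * a * n⁻¹ * a⁻¹ * t⁻¹ ∈ (Subgroup.centralizer (Q : Set T)) := by
            have := hn.conj_mem _ (inv_mem hn') (t * a)
            simpa [mul_assoc] using this
          refine isConj_iff.2 ⟨⟨_, hk⟩, Subtype.ext ?_⟩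
          show t * a * n⁻¹ * a⁻¹ * t⁻¹ * ((t : T ⧸ St).out * c * ((t : T ⧸ St).out)⁻¹) *
            (t * a * n⁻¹ * a⁻¹ * t⁻¹)⁻¹ = (y : T)
          rw [hs, ← han, ← ht]
          calc t * a * n⁻¹ * a⁻¹ * t⁻¹ * (t * (a * n) * c * (t * (a * n))⁻¹) *
                (t * a * n⁻¹ * a⁻¹ * t⁻¹)⁻¹ = t * (a * c) * a⁻¹ * t⁻¹ := by group
            _ = t * c * t⁻¹ := by rw [ha]; group
      rw [show resFun (Subgroup.centralizer (Q : Set T)) (classIndicator c) y = 1 from if_pos hy,
        Finset.sum_eq_single (t : T ⧸ St)]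
      · exact (if_pos ((hkey _).2 rfl)).symm
      · intro q _ hq
        exact if_neg fun h => hq ((hkey q).1 h).symm
      · exact fun h => absurd (Finset.mem_univ _) h
    · rw [show resFun (Subgroup.centralizer (Q : Set T)) (classIndicator c) y = 0 from if_neg hy]
      refine (Finset.sum_eq_zero fun q _ => if_neg fun h => hy ?_).symm
      obtain ⟨n, hn'⟩ := isConj_iff.1 h
      exact isConj_iff.2 ⟨(n : T) * q.out, by
        rw [← congrArg Subtype.val hn']
        simp [rep, mul_assoc]⟩
  have heach : ∀ q : T ⧸ St, MemLocalIdeal M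
      (centralChar (η : (Subgroup.centralizer (Q : Set T)) → ℂ) (rep q) - centralChar (η : (Subgroup.centralizer (Q : Set T)) → ℂ) ⟨c, hc⟩) := by
    intro q
    have hq : q.out ∈ Subgroup.normalizer ((Subgroup.centralizer (Q : Set T)) : Set T) := by
      rw [Subgroup.normalizer_eq_top_iff.2 hn]; trivial
    set ε := conjEquiv q.out (mem_conj_iff_of_mem_normalizer hq) with hε
    have h1 : transBlock ε f = f := by
      refine subgroupBlockCoeff_injective ?_
      rw [hε, subgroupBlockCoeff_transBlock, hst]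
    have h2 : transIrr ε η ∈ f := h1 ▸ Set.mem_image_of_mem _ hη
    have h3 := centralChar_transIrr ε η ⟨c, hc⟩
    rw [show ε ⟨c, hc⟩ = rep q from Subtype.ext rfl] at h3
    rw [← h3]
    exact IsPBlock.sameBlock hf hη h2 (rep q)
  intro hdvd
  refine hω ?_
  rw [brauerOmega_eq_omega, hsum, omega_sum]
  simp only [omega_classIndicator (irr_isClassFunction η)]
  have h4 : MemLocalIdeal M ((Nat.card (T ⧸ St) : ℂ) * centralChar (η : (Subgroup.centralizer (Q : Set T)) → ℂ) ⟨c, hc⟩) :=
    memLocalIdeal_mul_right ((memLocalIdeal_natCast_iff hM _).2 hdvd) (memLocalRing_centralChar η _)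
  have h5 := memLocalIdeal_add (memLocalIdeal_sum Finset.univ fun q _ => heach q) h4
  rw [Finset.sum_sub_distrib, Finset.sum_const, Finset.card_univ, nsmul_eq_mul,
    ← Nat.card_eq_fintype_card, sub_add_cancel] at h5
  exact h5

/-- **The automizer of a full pair.** -/
theorem not_dvd_relIndex_stab (hM : IsPModular p M) (hPe : IsBrauerPair p M P e)
    (hle : SubpairLE p M Q f P e)
    (hD : IsDefectGroup p M (blockAbove (pairStab Q f) f)
      ((P ⊓ Subgroup.normalizer (Q : Set G)).subgroupOf (pairStab Q f))) :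
    ¬ p ∣ (((P ⊓ Subgroup.normalizer (Q : Set G)).subgroupOf (pairStab Q f)).map
      (stabHom Q f)).relIndex (stabHom Q f).range := by
  classical
  haveI := Fact.mk hM.1
  set T := pairStab Q f with hT
  have hQf := isBrauerPair_of_subpairLE hPe hle
  set B₁ := blockAbove T f with hB₁
  have hblock : IsPBlock M B₁ :=
    isPBlock_blockAbove hM hQf.1 hQf.2 centralizer_le_pairStab le_pairStab_self le_rfl
  obtain ⟨c, hcdef, R, hR⟩ := hD
  have hQT : (Q.subgroupOf T).map T.subtype = Q :=
    Subgroup.map_subgroupOf_eq_of_le le_pairStab_self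
  have hcQ : c ∈ Subgroup.centralizer ((Q.subgroupOf T : Subgroup T) : Set T) := by
    rw [← mem_centralizer_map_subtype, hQT]
    by_contra h
    refine hcdef.2.1 ?_
    rw [hB₁, blockCoeff_blockAbove hM hQf.2 centralizer_le_pairStab le_rfl, resFun,
      subgroupBlockCoeff_of_notMem f h]
    exact memLocalIdeal_zero
  obtain ⟨a, ha⟩ := exists_pull (H := T) ⟨Q, f⟩ le_pairStab_self centralizer_le_pairStab
  obtain ⟨A, a'⟩ := a
  obtain rfl : A = Q.subgroupOf T :=
    (Subgroup.comap_map_eq_self_of_injective T.subtype_injective A).symm.trans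
      (congrArg (fun V : Subgroup G => V.subgroupOf T) (ha.1 : A.map T.subtype = Q))
  haveI hnQ : (Q.subgroupOf T).Normal := subgroupOf_normal_of_le_normalizer fun x hx => hx.1
  haveI hnC : (Subgroup.centralizer ((Q.subgroupOf T : Subgroup T) : Set T)).Normal := inferInstance
  have hpair : IsBrauerPairOf p M B₁ (Q.subgroupOf T) a' := by
    refine ⟨isBrauerPair_pull ha centralizer_le_pairStab hQf, hblock, ?_⟩
    rw [hB₁, blockCoeff_blockAbove hM hQf.2 centralizer_le_pairStab le_rfl]
    refine (brauerOmega_push ha centralizer_le_pairStab _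
      fun t => MemLocalIdeal M (t - 1)).1 fun ξ hξ => ?_
    rw [brauerOmega_eq_omega, resFun_subgroupBlockCoeff, omega_blockCoeff, if_pos hξ, sub_self]
    exact memLocalIdeal_zero
  have hstable : ∀ t : T, gconj t (subgroupBlockCoeff _ a') = subgroupBlockCoeff _ a' := by
    intro t
    have h1 : gconj (t : G) (extendByZero T (pairCoeff (⟨Q.subgroupOf T, a'⟩ : BrauerPairIdx T))) =
        extendByZero T (pairCoeff (⟨Q.subgroupOf T, a'⟩ : BrauerPairIdx T)) := by
      rw [← ha.2]; exact t.2.2
    rw [gconj_extendByZero] at h1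
    have h2 := congrArg (resFun T) h1
    rwa [resFun_extendByZero, resFun_extendByZero] at h2
  obtain ⟨η, hη⟩ := IsPBlock.nonempty hpair.1.2
  obtain ⟨χ, hχ⟩ := IsPBlock.nonempty hblock
  have hω : ¬ MemLocalIdeal M (brauerOmega (Q.subgroupOf T) (classIndicator c)
      (η : Subgroup.centralizer ((Q.subgroupOf T : Subgroup T) : Set T) → ℂ)) := by
    have h := brauerOmega_congr_omega hM hpair hη hχ (isRCentral_classIndicator c)
    rw [omega_classIndicator (irr_isClassFunction χ)] at h
    exact fun hh => hcdef.2.2 χ hχ ((memLocalIdeal_iff_of_sub h).1 hh)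
  have hSt := not_dvd_index_sup hM hpair.1.2 hstable hcQ hη hω
  set R' := (P ⊓ Subgroup.normalizer (Q : Set G)).subgroupOf T with hR'
  have hker : (stabHom Q f).ker = Subgroup.centralizer ((Q.subgroupOf T : Subgroup T) : Set T) := by
    ext t
    rw [MonoidHom.mem_ker, ← mem_centralizer_map_subtype, hQT, Subgroup.mem_centralizer_iff]
    constructor
    · intro h q hq
      have h1 : (t : G) * q * (t : G)⁻¹ = q := by
        rw [← stabHom_apply (f := f) t ⟨q, hq⟩, h]; rfl
      exact (mul_inv_eq_iff_eq_mul.1 h1).symm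
    · intro h
      refine MulEquiv.ext fun x => Subtype.ext ?_
      rw [stabHom_apply, ← h x x.2, mul_inv_cancel_right]
      rfl
  have hRle : R' ≤ (Subgroup.centralizer ({c} : Set T)) := hR ▸ sylowSub_le R
  have h1 : ¬ p ∣ (R'.map (stabHom Q f)).relIndex ((Subgroup.centralizer ({c} : Set T)).map (stabHom Q f)) := by
    intro hdvd
    rw [hR] at hdvd
    rw [show (sylowSub R).map (stabHom Q f) =
      (R : Subgroup (Subgroup.centralizer ({c} : Set T))).map ((stabHom Q f).comp (Subgroup.centralizer ({c} : Set T)).subtype) from Subgroup.map_map _ _ _,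
      show (Subgroup.centralizer ({c} : Set T)).map (stabHom Q f) = (⊤ : Subgroup (Subgroup.centralizer ({c} : Set T))).map ((stabHom Q f).comp (Subgroup.centralizer ({c} : Set T)).subtype) by
        rw [← Subgroup.map_map, ← MonoidHom.range_eq_map, Subgroup.range_subtype],
      Subgroup.relIndex_map_map, top_sup_eq, Subgroup.relIndex_top_right] at hdvd
    exact R.not_dvd_index (hdvd.trans (Subgroup.index_dvd_of_le le_sup_left))
  have h2 : ¬ p ∣ ((Subgroup.centralizer ({c} : Set T)).map (stabHom Q f)).relIndex (stabHom Q f).range := by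
    rw [show (stabHom Q f).range = (⊤ : Subgroup T).map (stabHom Q f) from
      (MonoidHom.range_eq_map _), Subgroup.relIndex_map_map, top_sup_eq,
      Subgroup.relIndex_top_right, hker]
    exact hSt
  rw [← Subgroup.relIndex_mul_relIndex _ _ _ (Subgroup.map_mono hRle) (Subgroup.map_le_range _ _)]
  exact fun h => ((Nat.Prime.dvd_mul hM.1).1 h).elim h1 h2

theorem autInducedBy_eq_map (hM : IsPModular p M) (hPe : IsBrauerPair p M P e)
    (hle : SubpairLE p M Q f P e) :
    autInducedBy P Q = ((P ⊓ Subgroup.normalizer (Q : Set G)).subgroupOf (pairStab Q f)).map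
      (stabHom Q f) := by
  ext α
  rw [Fusion.mem_autInducedBy_iff_conjAut]
  constructor
  · rintro ⟨g, hgN, hgP, rfl⟩
    exact ⟨⟨g, (inf_normalizer_props hM hPe hle).1 ⟨hgP, hgN⟩⟩, ⟨hgP, hgN⟩, rfl⟩
  · rintro ⟨g, hg, rfl⟩
    exact ⟨(g : G), hg.2, hg.1, rfl⟩

/-- **Full pairs are fully automized.** -/
theorem isFullyAutomized_of_full (hM : IsPModular p M) {F : FusionSystem P}
    (hF : IsBlockFusionSystemOn p M B P e F) (hle : SubpairLE p M Q f P e)
    (hD : IsDefectGroup p M (blockAbove (pairStab Q f) f)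
      ((P ⊓ Subgroup.normalizer (Q : Set G)).subgroupOf (pairStab Q f))) :
    F.IsFullyAutomized p Q := by
  haveI := Fact.mk hM.1
  have hQP := subpairLE_le hle
  haveI := Fusion.finite_mulAut (Ω := G) (S := P) hQP
  have hp : IsPGroup p (autInducedBy P Q) := Fusion.isPGroup_autInducedBy hF.1.1.1.1 Q
  have hle' := Fusion.autInducedBy_le_autGroup F hQP
  refine ⟨hQP, IsPGroup.toSylow
    (hp.of_equiv (Subgroup.subgroupOfEquivOfLe hle').symm) ?_, rfl⟩
  rw [autInducedBy_eq_map hM hF.1.1.1 hle, autGroup_eq hM hF hle]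
  exact not_dvd_relIndex_stab hM hF.1.1.1 hle hD

/-- **Full pairs are receptive.** -/
theorem isReceptive_of_full (hM : IsPModular p M) {F : FusionSystem P}
    (hF : IsBlockFusionSystemOn p M B P e F) (hle : SubpairLE p M Q f P e)
    (hfull : IsFullPair p M P Q f) : F.IsReceptive Q := by
  classical
  have hQP := subpairLE_le hle
  refine ⟨hQP, fun R φ hφ hr => ?_⟩
  obtain ⟨hRP, g, hg, hgle, r, hrle, hrle'⟩ := (hF.2 R φ).1 hφ
  have hgQ : R.map (MulAut.conj g).toMonoidHom = Q := by rw [← range_eq_map_conj hg, hr]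
  have hpair : conjPair g ⟨R, r⟩ = ⟨Q, f⟩ := pair_unique hM hF.1.1.1 hrle' hle hgQ
  set N := FusionSystem.extender P R φ with hN
  have hNN : N ≤ P ⊓ Subgroup.normalizer (R : Set G) := Fusion.extender_le_normalizerIn P R φ
  have hRN : R ≤ N := Fusion.le_extender hRP fun x => (F.le_of_mem hφ).2 x
  obtain ⟨n, -, hnle⟩ := exists_subpairLE hM hF.1.1.1 (hNN.trans inf_le_left)
  have hstep := isNormalSubpair_conj (isNormalSubpair_of_subpairLE hM hF.1.1.1 hrle hnle hRN
    (hNN.trans inf_le_right)) g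
  have hstep' : IsNormalSubpair p M Q f (N.map (MulAut.conj g).toMonoidHom) (conjBlock N g n) := by
    have h : NormalSubpairRel p M (conjPair g ⟨R, r⟩) (conjPair g ⟨N, n⟩) := hstep
    rwa [hpair] at h
  have hUH : N.map (MulAut.conj g).toMonoidHom ≤
      (P ⊓ Subgroup.normalizer (Q : Set G)) ⊔ Subgroup.centralizer (Q : Set G) := by
    rintro _ ⟨x, hx, rfl⟩
    obtain ⟨hxS, hxN, k, hk, H⟩ := Fusion.mem_extender.1 hx
    have hkN : k ∈ P ⊓ Subgroup.normalizer (Q : Set G) := by
      refine ⟨hk, Fusion.mem_normalizer_of_finite fun y hy => ?_⟩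
      rw [← hr] at hy ⊢
      obtain ⟨z, rfl⟩ := hy
      rw [← H z (Fusion.conj_mem_of_mem_normalizer hxN z.2)]
      exact ⟨_, rfl⟩
    have hc : k⁻¹ * (g * x * g⁻¹) ∈ Subgroup.centralizer (Q : Set G) := by
      rw [Subgroup.mem_centralizer_iff]
      intro y hy
      rw [← hr] at hy
      obtain ⟨z, rfl⟩ := hy
      have := H z (Fusion.conj_mem_of_mem_normalizer hxN z.2)
      rw [hg, hg] at this
      rw [hg]
      calc g * (z : G) * g⁻¹ * (k⁻¹ * (g * x * g⁻¹))
          = k⁻¹ * (k * (g * (z : G) * g⁻¹) * k⁻¹) * (g * x * g⁻¹) := by group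
        _ = k⁻¹ * (g * (x * (z : G) * x⁻¹) * g⁻¹) * (g * x * g⁻¹) := by rw [← this]
        _ = k⁻¹ * (g * x * g⁻¹) * (g * (z : G) * g⁻¹) := by group
    show g * x * g⁻¹ ∈ _
    have := Subgroup.mul_mem_sup hkN hc
    rwa [mul_inv_cancel_left] at this
  obtain ⟨c, hc, hcle⟩ := exists_extend hM hF.1 hle hfull hUH hstep'
  have h2 := conjBlock_subpairLE_trans hcle
  refine ⟨conjHom N (c * g), (hF.2 _ _).2 ⟨hNN.trans inf_le_left, c * g, fun u => rfl,
    subpairLE_le h2, n, hnle, h2⟩, fun x hxR hxN => ?_⟩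
  show c * g * x * (c * g)⁻¹ = _
  rw [hg]
  have h1 : g * x * g⁻¹ ∈ Q := hgQ ▸ ⟨x, hxR, rfl⟩
  have h3 := Subgroup.mem_centralizer_iff.1 hc _ h1
  calc c * g * x * (c * g)⁻¹ = (c * (g * x * g⁻¹)) * c⁻¹ := by group
    _ = (g * x * g⁻¹ * c) * c⁻¹ := by rw [h3]
    _ = g * x * g⁻¹ := by group

/-- **Block fusion systems are saturated.** -/
theorem isSaturated_blockFusionSystem (hM : IsPModular p M) {F : FusionSystem P}
    (hF : IsBlockFusionSystemOn p M B P e F) : F.IsSaturated p := by
  intro R hR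
  obtain ⟨f, -, hle⟩ := exists_subpairLE hM hF.1.1.1 hR
  obtain ⟨x, hx, hbest⟩ := exists_best (p := p) (M := M) (e := e) (f := f)
    (fun V => Nat.card (P ⊓ Subgroup.normalizer (V : Set G) : Subgroup G))
    (fun V => Subgroup.card_le_card_group _) ⟨1, subpairLE_conj_one hle⟩
  have hD := isDefectGroup_stab_of_max hM hF.1 hx hbest
  exact ⟨_, (isConj_iff_exists hM hF hle).2 ⟨x, rfl, hx⟩,
    isFullyAutomized_of_full hM hF hx hD,
    isReceptive_of_full hM hF hx (isFullPair_of_isDefectGroup hM hF.1.1.1 hx hD)⟩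

end Cfsg.Agent.Lib.BrauerPairs
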