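import Cfsg.Agent.Lib.BrauerPairs.Inertial

/-!
# Defect groups of the blocks attached to the pairs below a maximal one
-/

set_option autoImplicit false
set_option linter.unusedSectionVars false
set_option linter.style.haveILetI false

namespace Cfsg.Agent.Lib.BrauerPairs

open Cfsg Cfsg.Agent.Lib.Blocks Cfsg.Agent.Lib.Characters

universe u

variable {G : Type u} [Group G] [Fintype G] {M : Ideal AlgInt} [hMp : M.IsPrime] {p : ℕ}
  {P Q H : Subgroup G}

/-- A `p`-subgroup centralising a unit coefficient lies in a defect group. -/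
theorem exists_defectGroup_ge (hM : IsPModular p M) {b : Set (IrrCharacter H)} (hb : IsPBlock M b)
    {U : Subgroup G} (hUH : U ≤ H) (hU : IsPGroup p U) {c : G}
    (hc : c ∈ Subgroup.centralizer (U : Set G))
    (hne : ¬ MemLocalIdeal M (subgroupBlockCoeff H b c)) :
    ∃ D : Subgroup H, IsDefectGroup p M b D ∧ U.subgroupOf H ≤ D := by
  classical
  haveI := Fact.mk hM.1
  have hcH : c ∈ H := by
    by_contra h
    exact hne (by rw [subgroupBlockCoeff_of_notMem b h]; exact memLocalIdeal_zero)
  rw [subgroupBlockCoeff_of_mem b hcH] at hne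
  obtain ⟨D, hD⟩ := exists_isDefectGroup hM hb
  obtain ⟨g, hg, R, rfl⟩ := id hD
  obtain ⟨a, ha⟩ := isConjLE_of_coeff hM hb hg R (R := U.subgroupOf H)
    (hU.of_equiv (Subgroup.subgroupOfEquivOfLe hUH).symm)
    (h := ⟨c, hcH⟩) ((mem_centralizer_subgroupOf hUH _).2 hc) hne
  refine ⟨_, IsDefectGroup.map_conj hD a⁻¹, fun x hx => ?_⟩
  exact ⟨a * x * a⁻¹, ha ⟨x, hx, rfl⟩, by simp [mul_assoc]⟩

theorem card_map_subtype (D : Subgroup H) : Nat.card (D.map H.subtype) = Nat.card D :=
  (Nat.card_congr (D.equivMapOfInjective _ H.subtype_injective).toEquiv).symm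

theorem card_subgroupOf {U : Subgroup G} (hUH : U ≤ H) :
    Nat.card (U.subgroupOf H) = Nat.card U :=
  Nat.card_congr (Subgroup.subgroupOfEquivOfLe hUH).toEquiv

theorem card_defectGroup_eq (hM : IsPModular p M) {b : Set (IrrCharacter H)} (hb : IsPBlock M b)
    {D D' : Subgroup H} (hD : IsDefectGroup p M b D) (hD' : IsDefectGroup p M b D') :
    Nat.card D = Nat.card D' := by
  classical
  obtain ⟨a, ha⟩ := IsDefectGroup.exists_map_conj_eq hM hb hD hD'
  rw [← ha, card_map_conj]

theorem card_le_of_unit (hM : IsPModular p M) {b : Set (IrrCharacter H)} (hb : IsPBlock M b)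
    {U : Subgroup G} (hUH : U ≤ H) (hU : IsPGroup p U) {c : G}
    (hc : c ∈ Subgroup.centralizer (U : Set G))
    (hne : ¬ MemLocalIdeal M (subgroupBlockCoeff H b c)) {D : Subgroup H}
    (hD : IsDefectGroup p M b D) : Nat.card U ≤ Nat.card D := by
  obtain ⟨D', hD', hle⟩ := exists_defectGroup_ge hM hb hUH hU hc hne
  rw [card_defectGroup_eq hM hb hD hD', ← card_subgroupOf hUH]
  exact Subgroup.card_le_of_le hle

theorem exists_unit_of_defectGroup {b : Set (IrrCharacter H)} {D : Subgroup H}
    (hD : IsDefectGroup p M b D) :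
    ∃ c ∈ Subgroup.centralizer ((D.map H.subtype : Subgroup G) : Set G),
      ¬ MemLocalIdeal M (subgroupBlockCoeff H b c) := by
  classical
  obtain ⟨g, hg, R, rfl⟩ := hD
  refine ⟨g, ?_, by rw [subgroupBlockCoeff_of_mem b g.2]; exact hg.2.1⟩
  rw [mem_centralizer_subgroup_iff]
  rintro _ ⟨a, ha, rfl⟩
  exact congrArg Subtype.val (mem_centralizer_subgroup_iff.1 (mem_centralizer_sylowSub R) a ha)

/-- A subgroup of full order centralising a unit coefficient is a defect group. -/
theorem isDefectGroup_of_card (hM : IsPModular p M) {b : Set (IrrCharacter H)} (hb : IsPBlock M b)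
    {U : Subgroup G} (hUH : U ≤ H) (hU : IsPGroup p U) {c : G}
    (hc : c ∈ Subgroup.centralizer (U : Set G))
    (hne : ¬ MemLocalIdeal M (subgroupBlockCoeff H b c)) {D : Subgroup H}
    (hD : IsDefectGroup p M b D) (hcard : Nat.card D ≤ Nat.card U) :
    IsDefectGroup p M b (U.subgroupOf H) := by
  obtain ⟨D', hD', hle⟩ := exists_defectGroup_ge hM hb hUH hU hc hne
  rwa [Subgroup.eq_of_le_of_card_ge hle (by
    rw [card_subgroupOf hUH, ← card_defectGroup_eq hM hb hD hD']; exact hcard)]

variable {B : Set (IrrCharacter G)}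
  {e : Set (IrrCharacter (Subgroup.centralizer (P : Set G)))}
  {f : Set (IrrCharacter (Subgroup.centralizer (Q : Set G)))}

/-- The normaliser of `Q` in `P` fixes the pair below `(P, e)` and centralises a unit coefficient
of it. -/
theorem inf_normalizer_props (hM : IsPModular p M) (hPe : IsBrauerPair p M P e)
    (hle : SubpairLE p M Q f P e) :
    P ⊓ Subgroup.normalizer (Q : Set G) ≤ pairStab Q f ∧
    ∃ c ∈ Subgroup.centralizer ((P ⊓ Subgroup.normalizer (Q : Set G) : Subgroup G) : Set G),
      ¬ MemLocalIdeal M (subgroupBlockCoeff (Subgroup.centralizer (Q : Set G)) f c) := by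
  classical
  have hQN : Q ≤ P ⊓ Subgroup.normalizer (Q : Set G) :=
    le_inf (subpairLE_le hle) Subgroup.le_normalizer
  obtain ⟨r, hr, hrle⟩ := exists_subpairLE hM hPe
    (inf_le_left : P ⊓ Subgroup.normalizer (Q : Set G) ≤ P)
  obtain ⟨hf, -, -, -, hst, hone⟩ :=
    isNormalSubpair_of_subpairLE hM hPe hle hrle hQN inf_le_right
  refine ⟨fun a ha => mem_pairStab_iff.2 ⟨ha.2, hst a ha⟩, ?_⟩
  obtain ⟨ξ, hξ⟩ := IsPBlock.nonempty hr.2
  by_contra hcon
  simp only [not_exists, not_and, not_not] at hcon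
  exact not_memLocalIdeal_of_sub not_memLocalIdeal_one (hone ξ hξ) (memLocalIdeal_brauerOmega
    (isLocInv_subgroupBlockCoeff hM hQN inf_le_right hf.2 hst) hcon ξ)

theorem isBrauerPairOf_of_subpairLE (hM : IsPModular p M) (hmax : IsMaximalBrauerPair p M B P e)
    (hle : SubpairLE p M Q f P e) : IsBrauerPairOf p M B Q f :=
  (isBrauerPairOf_iff_of_subpairLE hM hmax.1.1 hle hmax.1.2.1).1 hmax.1

/-- A `p`-group fixing a pair and centralising a unit coefficient is moved into `P` with it. -/
theorem exists_conj_into (hM : IsPModular p M) (hmax : IsMaximalBrauerPair p M B P e)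
    (hQf : IsBrauerPairOf p M B Q f) {D : Subgroup G} (hD : IsPGroup p D) (hQD : Q ≤ D)
    (hDT : D ≤ pairStab Q f) {c : G} (hc : c ∈ Subgroup.centralizer (D : Set G))
    (hne : ¬ MemLocalIdeal M (subgroupBlockCoeff (Subgroup.centralizer (Q : Set G)) f c)) :
    ∃ y : G, SubpairLE p M (Q.map (MulAut.conj y).toMonoidHom) (conjBlock Q y f) P e ∧
      D.map (MulAut.conj y).toMonoidHom ≤
        P ⊓ Subgroup.normalizer ((Q.map (MulAut.conj y).toMonoidHom : Subgroup G) : Set G) := by
  classical
  have hDN : D ≤ Subgroup.normalizer (Q : Set G) := fun a ha => (hDT ha).1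
  obtain ⟨d, hd⟩ := exists_normalStep_above hM hD hQD hDN hQf.1.2
    (fun a ha => (mem_pairStab_iff.1 (hDT ha)).2) hc hne
  have hdB := (isBrauerPairOf_iff_of_subpairLE hM hd.2.1 (subpairLE_single hd) hQf.2.1).2 hQf
  obtain ⟨y, hy⟩ := exists_conj_subpairLE hM hmax hdB
  refine ⟨y, subpairLE_trans (subpairLE_single (isNormalSubpair_conj hd y)) hy,
    le_inf (subpairLE_le hy) (isNormalSubpair_conj hd y).2.2.2.1⟩

theorem conjBlock_subpairLE_trans {x y : G}
    (h : SubpairLE p M ((Q.map (MulAut.conj x).toMonoidHom).map (MulAut.conj y).toMonoidHom)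
      (conjBlock (Q.map (MulAut.conj x).toMonoidHom) y (conjBlock Q x f)) P e) :
    SubpairLE p M (Q.map (MulAut.conj (y * x)).toMonoidHom) (conjBlock Q (y * x) f) P e := by
  show Relation.ReflTransGen (NormalSubpairRel p M) (conjPair (y * x) ⟨Q, f⟩) ⟨P, e⟩
  rw [conjPair_mul]
  exact h

/-- The unit coefficient carried back along a conjugation. -/
theorem exists_unit_conj {x : G} {U : Subgroup G} {c : G}
    (hc : c ∈ Subgroup.centralizer (U : Set G))
    (hne : ¬ MemLocalIdeal M (subgroupBlockCoeff (Subgroup.centralizer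
      ((Q.map (MulAut.conj x).toMonoidHom : Subgroup G) : Set G)) (conjBlock Q x f) c)) :
    ∃ c' ∈ Subgroup.centralizer ((U.map (MulAut.conj x⁻¹).toMonoidHom : Subgroup G) : Set G),
      ¬ MemLocalIdeal M (subgroupBlockCoeff (Subgroup.centralizer (Q : Set G)) f c') := by
  rw [subgroupBlockCoeff_conjBlock, gconj_apply] at hne
  refine ⟨x⁻¹ * c * x, ?_, hne⟩
  rw [mem_centralizer_map_conj, inv_inv]
  simpa [mul_assoc] using hc

/-! ### Blocks of centralisers -/

theorem inf_centralizer_le_inf_normalizer :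
    P ⊓ Subgroup.centralizer (Q : Set G) ≤ P ⊓ Subgroup.normalizer (Q : Set G) :=
  inf_le_inf_left P (centralizer_le_normalizer' Q)

/-- `P ∩ C(Q)` lies in a defect group of the block below `(P, e)`. -/
theorem exists_defectGroup_ge_centralizer (hM : IsPModular p M) (hPe : IsBrauerPair p M P e)
    (hle : SubpairLE p M Q f P e) :
    ∃ D : Subgroup (Subgroup.centralizer (Q : Set G)), IsDefectGroup p M f D ∧
      (P ⊓ Subgroup.centralizer (Q : Set G)).subgroupOf (Subgroup.centralizer (Q : Set G)) ≤ D := by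
  obtain ⟨-, c, hc, hne⟩ := inf_normalizer_props hM hPe hle
  exact exists_defectGroup_ge hM (isBrauerPair_of_subpairLE hPe hle).2 inf_le_right
    (hPe.1.to_le inf_le_left) (centralizer_le_centralizer inf_centralizer_le_inf_normalizer hc) hne

theorem card_inf_centralizer_conj_le (hM : IsPModular p M) (hPe : IsBrauerPair p M P e)
    (hf : IsPBlock M f) {x : G}
    (hle : SubpairLE p M (Q.map (MulAut.conj x).toMonoidHom) (conjBlock Q x f) P e)
    {D : Subgroup (Subgroup.centralizer (Q : Set G))} (hD : IsDefectGroup p M f D) :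
    Nat.card (P ⊓ Subgroup.centralizer ((Q.map (MulAut.conj x).toMonoidHom : Subgroup G) : Set G) :
      Subgroup G) ≤ Nat.card D := by
  obtain ⟨-, c, hc, hne⟩ := inf_normalizer_props hM hPe hle
  obtain ⟨c', hc', hne'⟩ :=
    exists_unit_conj (centralizer_le_centralizer inf_centralizer_le_inf_normalizer hc) hne
  rw [← card_map_conj _ x⁻¹]
  refine card_le_of_unit hM hf ?_ ((hPe.1.to_le inf_le_left).map _) hc' hne' hD
  intro a ha
  rw [mem_map_conj_iff, inv_inv] at ha
  have h := (mem_centralizer_map_conj Q x _).1 ha.2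
  simpa [mul_assoc] using h

/-- Some conjugate realises a defect group as `P ∩ C(Q)`. -/
theorem exists_conj_card_centralizer (hM : IsPModular p M)
    (hmax : IsMaximalBrauerPair p M B P e) (hQf : IsBrauerPairOf p M B Q f)
    {D : Subgroup (Subgroup.centralizer (Q : Set G))} (hD : IsDefectGroup p M f D) :
    ∃ y : G, SubpairLE p M (Q.map (MulAut.conj y).toMonoidHom) (conjBlock Q y f) P e ∧
      Nat.card D ≤ Nat.card (P ⊓ Subgroup.centralizer
        ((Q.map (MulAut.conj y).toMonoidHom : Subgroup G) : Set G) : Subgroup G) := by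
  classical
  haveI := Fact.mk hM.1
  set D' := D.map (Subgroup.centralizer (Q : Set G)).subtype with hD'
  have hD'C : D' ≤ Subgroup.centralizer (Q : Set G) := Subgroup.map_subtype_le _
  obtain ⟨c, hc, hne⟩ := exists_unit_of_defectGroup hD
  have hcC : c ∈ Subgroup.centralizer (Q : Set G) := by
    by_contra h
    exact hne (by rw [subgroupBlockCoeff_of_notMem f h]; exact memLocalIdeal_zero)
  have hp' : IsPGroup p D' := (IsDefectGroup.isPGroup hD).map _
  have hS : IsPGroup p (Q ⊔ D' : Subgroup G) :=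
    hQf.1.1.to_sup_of_normal_left' hp' (hD'C.trans (centralizer_le_normalizer' Q))
  have hST : Q ⊔ D' ≤ pairStab Q f := sup_le le_pairStab_self (hD'C.trans centralizer_le_pairStab)
  have hcS : c ∈ Subgroup.centralizer ((Q ⊔ D' : Subgroup G) : Set G) := by
    rw [← le_centralizer_singleton_iff]
    exact sup_le (le_centralizer_singleton_iff.2 hcC) (le_centralizer_singleton_iff.2 hc)
  obtain ⟨y, hy, hyle⟩ := exists_conj_into hM hmax hQf hS le_sup_left hST hcS hne
  refine ⟨y, hy, ?_⟩
  rw [← card_map_subtype D, ← hD', ← card_map_conj D' y]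
  refine Subgroup.card_le_of_le (le_inf ?_ ?_)
  · exact ((Subgroup.map_mono le_sup_right).trans hyle).trans inf_le_left
  · intro a ha
    rw [mem_centralizer_map_conj]
    exact hD'C (mem_map_conj_iff.1 ha)

/-! ### Blocks of stabilizers -/

/-- `P ∩ N(Q)` lies in a defect group of the block of the stabilizer. -/
theorem exists_defectGroup_ge_stab (hM : IsPModular p M) (hPe : IsBrauerPair p M P e)
    (hle : SubpairLE p M Q f P e) :
    ∃ D : Subgroup (pairStab Q f), IsDefectGroup p M (blockAbove (pairStab Q f) f) D ∧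
      (P ⊓ Subgroup.normalizer (Q : Set G)).subgroupOf (pairStab Q f) ≤ D := by
  classical
  obtain ⟨hst, c, hc, hne⟩ := inf_normalizer_props hM hPe hle
  have hQf := isBrauerPair_of_subpairLE hPe hle
  exact exists_defectGroup_ge hM
    (isPBlock_blockAbove hM hQf.1 hQf.2 centralizer_le_pairStab le_pairStab_self le_rfl) hst
    (hPe.1.to_le inf_le_left) hc
    (by rwa [subgroupBlockCoeff_blockAbove hM hQf.2 centralizer_le_pairStab le_rfl])

theorem card_inf_normalizer_conj_le (hM : IsPModular p M) (hPe : IsBrauerPair p M P e)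
    (hQf : IsBrauerPair p M Q f) {x : G}
    (hle : SubpairLE p M (Q.map (MulAut.conj x).toMonoidHom) (conjBlock Q x f) P e)
    {D : Subgroup (pairStab Q f)} (hD : IsDefectGroup p M (blockAbove (pairStab Q f) f) D) :
    Nat.card (P ⊓ Subgroup.normalizer ((Q.map (MulAut.conj x).toMonoidHom : Subgroup G) : Set G) :
      Subgroup G) ≤ Nat.card D := by
  classical
  obtain ⟨hst, c, hc, hne⟩ := inf_normalizer_props hM hPe hle
  obtain ⟨c', hc', hne'⟩ := exists_unit_conj hc hne
  rw [← card_map_conj _ x⁻¹]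
  refine card_le_of_unit hM
    (isPBlock_blockAbove hM hQf.1 hQf.2 centralizer_le_pairStab le_pairStab_self le_rfl) ?_
    ((hPe.1.to_le inf_le_left).map _) hc'
    (by rwa [subgroupBlockCoeff_blockAbove hM hQf.2 centralizer_le_pairStab le_rfl]) hD
  intro a ha
  rw [mem_map_conj_iff, inv_inv] at ha
  have h := mem_pairStab_conjBlock.1 (hst ha)
  simpa [mul_assoc] using h

/-- Some conjugate realises a defect group as `P ∩ N(Q)`. -/
theorem exists_conj_card_stab (hM : IsPModular p M)
    (hmax : IsMaximalBrauerPair p M B P e) (hQf : IsBrauerPairOf p M B Q f)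
    {D : Subgroup (pairStab Q f)} (hD : IsDefectGroup p M (blockAbove (pairStab Q f) f) D) :
    ∃ y : G, SubpairLE p M (Q.map (MulAut.conj y).toMonoidHom) (conjBlock Q y f) P e ∧
      Nat.card D ≤ Nat.card (P ⊓ Subgroup.normalizer
        ((Q.map (MulAut.conj y).toMonoidHom : Subgroup G) : Set G) : Subgroup G) := by
  classical
  haveI := Fact.mk hM.1
  haveI : (Q.subgroupOf (pairStab Q f)).Normal :=
    subgroupOf_normal_of_le_normalizer fun a ha => ha.1
  set D' := D.map (pairStab Q f).subtype with hD'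
  have hblock := isPBlock_blockAbove hM hQf.1.1 hQf.1.2 centralizer_le_pairStab le_pairStab_self
    (le_rfl : pairStab Q f ≤ pairStab Q f)
  have hQD : Q ≤ D' := fun a ha => ⟨⟨a, le_pairStab_self ha⟩,
    le_of_isDefectGroup hM (hQf.1.1.of_equiv (Subgroup.subgroupOfEquivOfLe le_pairStab_self).symm)
      hblock hD (Subgroup.mem_subgroupOf.2 ha), rfl⟩
  obtain ⟨c, hc, hne⟩ := exists_unit_of_defectGroup hD
  rw [subgroupBlockCoeff_blockAbove hM hQf.1.2 centralizer_le_pairStab le_rfl] at hne
  obtain ⟨y, hy, hyle⟩ := exists_conj_into hM hmax hQf ((IsDefectGroup.isPGroup hD).map _) hQD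
    (Subgroup.map_subtype_le _) hc hne
  refine ⟨y, hy, ?_⟩
  rw [← card_map_subtype D, ← hD', ← card_map_conj D' y]
  exact Subgroup.card_le_of_le hyle

/-- Pairs conjugate to one below `(P, e)`, ordered by a bounded measure, have a maximum. -/
theorem exists_max_conj (w : Subgroup G → ℕ) {n : ℕ} (hn : ∀ R, w R ≤ n)
    (h : ∃ x : G, SubpairLE p M (Q.map (MulAut.conj x).toMonoidHom) (conjBlock Q x f) P e) :
    ∃ x : G, SubpairLE p M (Q.map (MulAut.conj x).toMonoidHom) (conjBlock Q x f) P e ∧
      ∀ y : G, SubpairLE p M (Q.map (MulAut.conj y).toMonoidHom) (conjBlock Q y f) P e →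
        w (Q.map (MulAut.conj y).toMonoidHom) ≤ w (Q.map (MulAut.conj x).toMonoidHom) := by
  let S : Set ℕ := {k | ∃ x : G,
    SubpairLE p M (Q.map (MulAut.conj x).toMonoidHom) (conjBlock Q x f) P e ∧
      w (Q.map (MulAut.conj x).toMonoidHom) = k}
  have hbdd : BddAbove S := ⟨n, by rintro k ⟨x, -, rfl⟩; exact hn _⟩
  obtain ⟨x₀, hx₀⟩ := h
  obtain ⟨x, hx, hxk⟩ := Nat.sSup_mem (s := S) ⟨_, x₀, hx₀, rfl⟩ hbdd
  exact ⟨x, hx, fun y hy => hxk ▸ le_csSup hbdd ⟨y, hy, rfl⟩⟩

/-- For suitable conjugates `P ∩ C(Q)` is a defect group. -/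
theorem isDefectGroup_centralizer_of_max (hM : IsPModular p M)
    (hmax : IsMaximalBrauerPair p M B P e) (hle : SubpairLE p M Q f P e)
    (hbest : ∀ y : G, SubpairLE p M (Q.map (MulAut.conj y).toMonoidHom) (conjBlock Q y f) P e →
      Nat.card (P ⊓ Subgroup.centralizer ((Q.map (MulAut.conj y).toMonoidHom : Subgroup G) : Set G) :
        Subgroup G) ≤ Nat.card (P ⊓ Subgroup.centralizer (Q : Set G) : Subgroup G)) :
    IsDefectGroup p M f
      ((P ⊓ Subgroup.centralizer (Q : Set G)).subgroupOf (Subgroup.centralizer (Q : Set G))) := by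
  have hQf := isBrauerPairOf_of_subpairLE hM hmax hle
  obtain ⟨D, hD, hDle⟩ := exists_defectGroup_ge_centralizer hM hmax.1.1 hle
  obtain ⟨y, hy, hcard⟩ := exists_conj_card_centralizer hM hmax hQf hD
  rwa [Subgroup.eq_of_le_of_card_ge hDle
    (by rw [card_subgroupOf inf_le_right]; exact hcard.trans (hbest y hy))]

/-- For suitable conjugates `P ∩ N(Q)` is a defect group of the stabilizer. -/
theorem isDefectGroup_stab_of_max (hM : IsPModular p M)
    (hmax : IsMaximalBrauerPair p M B P e) (hle : SubpairLE p M Q f P e)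
    (hbest : ∀ y : G, SubpairLE p M (Q.map (MulAut.conj y).toMonoidHom) (conjBlock Q y f) P e →
      Nat.card (P ⊓ Subgroup.normalizer ((Q.map (MulAut.conj y).toMonoidHom : Subgroup G) : Set G) :
        Subgroup G) ≤ Nat.card (P ⊓ Subgroup.normalizer (Q : Set G) : Subgroup G)) :
    IsDefectGroup p M (blockAbove (pairStab Q f) f)
      ((P ⊓ Subgroup.normalizer (Q : Set G)).subgroupOf (pairStab Q f)) := by
  have hQf := isBrauerPairOf_of_subpairLE hM hmax hle
  obtain ⟨D, hD, hDle⟩ := exists_defectGroup_ge_stab hM hmax.1.1 hle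
  obtain ⟨y, hy, hcard⟩ := exists_conj_card_stab hM hmax hQf hD
  rwa [Subgroup.eq_of_le_of_card_ge hDle (by
    rw [card_subgroupOf (inf_normalizer_props hM hmax.1.1 hle).1]
    exact hcard.trans (hbest y hy))]

end Cfsg.Agent.Lib.BrauerPairs
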