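import Cfsg.Agent.Lib.BrauerPairs.Inertial
import Cfsg.Agent.Lib.BrauerPairs.Local
import Cfsg.Agent.Lib.BrauerPairs.Principal

/-!
# Maximal pairs on a given defect group, and deficiency classes
-/

set_option autoImplicit false
set_option linter.unusedSectionVars false
set_option linter.style.haveILetI false

namespace Cfsg.Agent.Lib.BrauerPairs

open Cfsg Cfsg.Agent.Lib.Blocks Cfsg.Agent.Lib.Characters

universe u

variable {G : Type u} [Group G] [Fintype G] {M : Ideal AlgInt} [hMp : M.IsPrime] {p : ℕ}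
  {Q D : Subgroup G} {B : Set (IrrCharacter G)}

/-- A block whose idempotent is nonzero modulo `M` on `C(Q)` has a pair on `Q`. -/
theorem exists_pair_of_unit (hM : IsPModular p M) (hQ : IsPGroup p Q) (hB : IsPBlock M B) {g : G}
    (hg : g ∈ Subgroup.centralizer (Q : Set G)) (hne : ¬ MemLocalIdeal M (blockCoeff B g)) :
    ∃ f : Set (IrrCharacter (Subgroup.centralizer (Q : Set G))), IsBrauerPairOf p M B Q f := by
  classical
  haveI := Fintype.ofFinite (Subgroup.centralizer (Q : Set G))
  have hI : IsLocInv M Q (blockCoeff B) := IsLocInv.of_isRCentral (isRCentral_blockCoeff hM hB)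
  by_contra hcon
  refine hne (memLocalIdeal_of_idem hM hI.isRCentral_res (fun y => ?_) (fun ζ => ?_) ⟨g, hg⟩)
  · have h1 := resFun_conv_congr hM hQ hI hI y
    rwa [blockCoeff_conv_self] at h1
  · rw [← brauerOmega_eq_omega]
    refine (brauerOmega_idem hM hQ hI (blockCoeff_conv_self B) ζ).resolve_right fun h => hcon
      ⟨_, isBrauerPairOf_of_exists hM ⟨hQ, isPBlock_blockOf ζ⟩ hB (self_mem_blockOf ζ) h⟩

/-- Every defect group carries a maximal pair. -/
theorem exists_maximal_defect (hM : IsPModular p M) (hB : IsPBlock M B)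
    (hD : IsDefectGroup p M B D) :
    ∃ e : Set (IrrCharacter (Subgroup.centralizer (D : Set G))),
      IsMaximalBrauerPair p M B D e := by
  classical
  haveI := Fact.mk hM.1
  obtain ⟨g, hg, S, hS⟩ := id hD
  have hgC : g ∈ Subgroup.centralizer (D : Set G) := hS ▸ mem_centralizer_sylowSub S
  obtain ⟨f, hf⟩ := exists_pair_of_unit hM (IsDefectGroup.isPGroup hD) hB hgC hg.2.1
  obtain ⟨P, e, hmax, hle⟩ := exists_maximal_above hf
  have hPD : Nat.card P = Nat.card D := by
    rw [IsDefectGroup.card_eq hM hB (isDefectGroup_of_isMaximal hM hmax),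
      IsDefectGroup.card_eq hM hB hD]
  have heq : D = P := Subgroup.eq_of_le_of_card_ge (subpairLE_le hle) hPD.le
  subst heq
  exact ⟨e, hmax⟩

theorem centralizer_zpowers_eq (y : G) :
    Subgroup.centralizer ((Subgroup.zpowers y : Subgroup G) : Set G) =
      Subgroup.centralizer ({y} : Set G) := by
  rw [Subgroup.zpowers_eq_closure, Subgroup.centralizer_closure]

/-- `K` has deficiency class `r`. -/
def HasDefClass (p : ℕ) (M : Ideal AlgInt) (r : ℕ) (K : Subgroup G) : Prop :=
  ∀ B' : Set (IrrCharacter K), IsPBlock M B' → B' ≠ principalBlock M K → blockDefect p B' < r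

theorem hasDefClass_centralizer (hM : IsPModular p M) {r : ℕ}
    (h : ∀ B' : Set (IrrCharacter G), IsPBlock M B' → B' ≠ principalBlock M G →
      blockDefect p B' < r) (hQ : IsPGroup p Q) :
    HasDefClass p M r (Subgroup.centralizer (Q : Set G)) := by
  classical
  intro b hb hne
  obtain ⟨B, hB, -⟩ := existsUnique_isBrauerPairOf hM (e := b) ⟨hQ, hb⟩
  have hBne : B ≠ principalBlock M G := by
    rintro rfl
    exact hne ((isBrauerPairOf_principal_iff hM hQ).1 hB)
  obtain ⟨P, e, hmax, -⟩ := exists_maximal_above hB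
  obtain ⟨D, hD⟩ := exists_isDefectGroup hM hb
  obtain ⟨y, -, hcard⟩ := exists_conj_card_centralizer hM hmax hB hD
  have h1 := hcard.trans (Subgroup.card_le_of_le inf_le_left)
  rw [IsDefectGroup.card_eq hM hb hD,
    IsDefectGroup.card_eq hM hB.2.1 (isDefectGroup_of_isMaximal hM hmax),
    Nat.pow_le_pow_iff_right hM.1.one_lt] at h1
  exact lt_of_le_of_lt h1 (h B hB.2.1 hBne)

theorem defClass_of_centralizers (hM : IsPModular p M) {r : ℕ} (hr : 0 < r)
    (h : ∀ y : G, orderOf y = p → HasDefClass p M r (Subgroup.centralizer ({y} : Set G)))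
    (B : Set (IrrCharacter G)) (hB : IsPBlock M B) (hne : B ≠ principalBlock M G) :
    blockDefect p B < r := by
  classical
  haveI := Fact.mk hM.1
  by_contra hlt
  obtain ⟨D, hD⟩ := exists_isDefectGroup hM hB
  have hcard := IsDefectGroup.card_eq hM hB hD
  have hDp : IsPGroup p D := IsDefectGroup.isPGroup hD
  haveI : Nontrivial D := by
    rw [← Finite.one_lt_card_iff_nontrivial, hcard]
    exact Nat.one_lt_pow (by omega) hM.1.one_lt
  have hdvd : p ∣ Nat.card (Subgroup.center D) := by
    haveI := IsPGroup.center_nontrivial hDp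
    obtain ⟨n, hn, hc⟩ := (hDp.to_subgroup (Subgroup.center D)).nontrivial_iff_card.1 inferInstance
    exact hc ▸ dvd_pow_self p hn.ne'
  obtain ⟨z, hz⟩ := exists_prime_orderOf_dvd_card' p hdvd
  set y : G := ((z : D) : G) with hy
  have hyord : orderOf y = p := by rw [hy, Subgroup.orderOf_coe, Subgroup.orderOf_coe, hz]
  have hDC : D ≤ Subgroup.centralizer ((Subgroup.zpowers y : Subgroup G) : Set G) := by
    rw [centralizer_zpowers_eq]
    intro d hd
    rw [Subgroup.mem_centralizer_singleton_iff]
    exact congrArg Subtype.val (Subgroup.mem_center_iff.1 z.2 ⟨d, hd⟩)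
  obtain ⟨e, hmax⟩ := exists_maximal_defect hM hB hD
  have hQD : Subgroup.zpowers y ≤ D := Subgroup.zpowers_le.2 (z : D).2
  obtain ⟨f, hf, hle⟩ := exists_subpairLE hM hmax.1.1 hQD
  have hfB := isBrauerPairOf_of_subpairLE hM hmax hle
  obtain ⟨E, hE, hDE⟩ := exists_defectGroup_ge_centralizer hM hmax.1.1 hle
  have h1 := Subgroup.card_le_of_le hDE
  rw [card_subgroupOf inf_le_right, inf_eq_left.2 hDC, hcard, IsDefectGroup.card_eq hM hf.2 hE,
    Nat.pow_le_pow_iff_right hM.1.one_lt] at h1
  have hclass : HasDefClass p M r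
      (Subgroup.centralizer ((Subgroup.zpowers y : Subgroup G) : Set G)) := by
    rw [centralizer_zpowers_eq]; exact h y hyord
  by_cases hfp : f = principalBlock M
      (Subgroup.centralizer ((Subgroup.zpowers y : Subgroup G) : Set G))
  · refine hne ((existsUnique_isBrauerPairOf hM hf).unique hfB ?_)
    rw [hfp]
    exact isBrauerPairOf_principal hM hf.1
  · have h2 := hclass f hf.2 hfp
    omega

/-- The defect groups of the principal block are the Sylow subgroups. -/
theorem isDefectGroup_principal_iff (hM : IsPModular p M) :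
    IsDefectGroup p M (principalBlock M G) D ↔ ∃ S : Sylow p G, (S : Subgroup G) = D := by
  classical
  haveI := Fact.mk hM.1
  have hsyl : ∀ S : Sylow p G, IsDefectGroup p M (principalBlock M G) (S : Subgroup G) := fun S =>
    isDefectGroup_of_isMaximal hM (isMaximalBrauerPair_principal hM S)
  refine ⟨fun hD => ?_, fun ⟨S, hS⟩ => hS ▸ hsyl S⟩
  obtain ⟨S⟩ : Nonempty (Sylow p G) := inferInstance
  obtain ⟨a, ha⟩ := IsDefectGroup.exists_map_conj_eq hM isPBlock_principalBlock (hsyl S) hD
  refine ⟨Sylow.ofCard D ?_, rfl⟩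
  rw [← ha, card_map_conj, S.card_eq_multiplicity]

end Cfsg.Agent.Lib.BrauerPairs
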