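import Cfsg.Agent.Lib.BrauerPairs.Transport

/-!
# The Brauer functionals at a `p`-subgroup
-/

set_option autoImplicit false
set_option linter.unusedSectionVars false
set_option linter.style.haveILetI false

namespace Cfsg.Agent.Lib.BrauerPairs

open Cfsg Cfsg.Agent.Lib.Blocks Cfsg.Agent.Lib.Characters

universe u v

variable {G : Type u} [Group G] [Fintype G] {M : Ideal AlgInt} [hMp : M.IsPrime] {p : ℕ}

/-- Sums over a finite set with an action of a `p`-group agree modulo `M` with the sums over the
fixed points. -/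
theorem memLocalIdeal_sum_sub_sum_fixed (hM : IsPModular p M) {P : Type v} [Group P]
    (hP : IsPGroup p P) {ι : Type*} [Fintype ι] [MulAction P ι]
    [DecidablePred (· ∈ MulAction.fixedPoints P ι)]
    (F : ι → ℂ) (hR : ∀ i, MemLocalRing M (F i)) (hF : ∀ (a : P) i, F (a • i) = F i) :
    MemLocalIdeal M (∑ i, F i - ∑ i, if i ∈ MulAction.fixedPoints P ι then F i else 0) := by
  classical
  haveI := Fact.mk hM.1
  haveI := resField_charP (M := M) hM
  let F' : ι → ResField M := fun i =>
    if i ∈ MulAction.fixedPoints P ι then 0 else red M ⟨F i, hR i⟩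
  have h : ∑ i, F' i = 0 := by
    rw [← Finset.sum_fiberwise_of_maps_to (s := Finset.univ) (t := Finset.univ.image F') (g := F')
      (fun x hx => Finset.mem_image_of_mem F' hx) F']
    refine Finset.sum_eq_zero fun c _ => ?_
    rw [Finset.sum_congr rfl (fun x hx => (Finset.mem_filter.1 hx).2), Finset.sum_const]
    by_cases hc0 : c = 0
    · rw [hc0, smul_zero]
    have hinv : ∀ (a : P) i, F' (a • i) = F' i := by
      intro a i
      have hiff : a • i ∈ MulAction.fixedPoints P ι ↔ i ∈ MulAction.fixedPoints P ι := by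
        constructor
        · intro h
          have := h a⁻¹
          rw [inv_smul_smul] at this
          rwa [← this] at h
        · intro h
          rwa [h a]
      simp only [F', hiff, hF a i]
    let S := {i : ι // F' i = c}
    letI : MulAction P S :=
      { smul := fun a x => ⟨a • x.1, by rw [hinv a x.1]; exact x.2⟩
        one_smul := fun x => Subtype.ext (one_smul P x.1)
        mul_smul := fun a b x => Subtype.ext (mul_smul a b x.1) }
    have hfix : Nat.card (MulAction.fixedPoints P S) = 0 := by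
      rw [Nat.card_eq_zero]
      refine Or.inl ⟨fun x => hc0 ?_⟩
      have hx : x.1.1 ∈ MulAction.fixedPoints P ι := fun a => congrArg Subtype.val (x.2 a)
      rw [← x.1.2]
      exact if_pos hx
    have hmod := hP.card_modEq_card_fixedPoints S
    rw [hfix] at hmod
    obtain ⟨k, hk⟩ := Nat.modEq_zero_iff_dvd.1 hmod
    rw [Nat.card_eq_fintype_card, Fintype.card_subtype] at hk
    rw [hk, nsmul_eq_mul, Nat.cast_mul, CharP.cast_eq_zero, zero_mul, zero_mul]
  let F'' : ι → locSubring M := fun i =>
    if i ∈ MulAction.fixedPoints P ι then 0 else ⟨F i, hR i⟩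
  have h2 : red M (∑ i, F'' i) = 0 := by
    rw [map_sum, ← h]
    refine Finset.sum_congr rfl fun x _ => ?_
    simp only [F', F'']
    split_ifs <;> simp
  rw [red_eq_zero_iff] at h2
  convert h2 using 1
  rw [AddSubmonoidClass.coe_finsetSum, ← Finset.sum_sub_distrib]
  refine Finset.sum_congr rfl fun x _ => ?_
  simp only [F'']
  split_ifs <;> simp

theorem mem_centralizer_conj_iff {Q : Subgroup G} {a : G}
    (ha : a ∈ Subgroup.normalizer (Q : Set G)) (x : G) :
    x ∈ Subgroup.centralizer (Q : Set G) ↔ a⁻¹ * x * a ∈ Subgroup.centralizer (Q : Set G) := by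
  rw [mem_centralizer_subgroup_iff, mem_centralizer_subgroup_iff]
  constructor
  · intro h q hq
    have hq' : a * q * a⁻¹ ∈ Q := (Subgroup.mem_normalizer_iff.1 ha q).1 hq
    have h2 := congrArg (fun t => a⁻¹ * t * a) (h _ hq')
    simpa [mul_assoc] using h2
  · intro h q hq
    have hq' : a⁻¹ * q * a ∈ Q := by
      refine (Subgroup.mem_normalizer_iff.1 ha _).2 ?_
      rwa [show a * (a⁻¹ * q * a) * a⁻¹ = q by group]
    have h2 := congrArg (fun t => a * t * a⁻¹) (h _ hq')
    simpa [mul_assoc] using h2

theorem normalizer_le_normalizer_centralizer (Q : Subgroup G) :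
    Subgroup.normalizer (Q : Set G) ≤
      Subgroup.normalizer ((Subgroup.centralizer (Q : Set G) : Subgroup G) : Set G) := by
  intro a ha
  rw [Subgroup.mem_normalizer_iff]
  intro x
  rw [mem_centralizer_conj_iff ha (a * x * a⁻¹)]
  rw [show a⁻¹ * (a * x * a⁻¹) * a = x by group]

theorem centralizer_le_centralizer {Q P : Subgroup G} (h : Q ≤ P) :
    Subgroup.centralizer (P : Set G) ≤ Subgroup.centralizer (Q : Set G) :=
  Subgroup.centralizer_le h

/-- An element of the group ring, with local coefficients, fixed by `P` and by `C(P)`. -/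
structure IsLocInv (M : Ideal AlgInt) (P : Subgroup G) (β : G → ℂ) : Prop where
  ring : ∀ x, MemLocalRing M (β x)
  pinv : IsPInv P β
  cinv : IsPInv (Subgroup.centralizer (P : Set G)) β

namespace IsLocInv

variable {P : Subgroup G} {β β' : G → ℂ}

theorem of_isRCentral (h : IsRCentral M β) : IsLocInv M P β :=
  ⟨h.2, isPInv_of_isClassFunction _ h.1, isPInv_of_isClassFunction _ h.1⟩

theorem add (h : IsLocInv M P β) (h' : IsLocInv M P β') : IsLocInv M P (β + β') :=
  ⟨fun x => memLocalRing_add (h.ring x) (h'.ring x),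
    fun a ha x => by simp only [Pi.add_apply, h.pinv a ha x, h'.pinv a ha x],
    fun a ha x => by simp only [Pi.add_apply, h.cinv a ha x, h'.cinv a ha x]⟩

theorem sub (h : IsLocInv M P β) (h' : IsLocInv M P β') : IsLocInv M P (β - β') :=
  ⟨fun x => memLocalRing_sub (h.ring x) (h'.ring x),
    fun a ha x => by simp only [Pi.sub_apply, h.pinv a ha x, h'.pinv a ha x],
    fun a ha x => by simp only [Pi.sub_apply, h.cinv a ha x, h'.cinv a ha x]⟩

theorem smul {c : ℂ} (hc : MemLocalRing M c) (h : IsLocInv M P β) : IsLocInv M P (c • β) :=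
  ⟨fun x => memLocalRing_mul hc (h.ring x),
    fun a ha x => by simp only [Pi.smul_apply, h.pinv a ha x],
    fun a ha x => by simp only [Pi.smul_apply, h.cinv a ha x]⟩

theorem conv (h : IsLocInv M P β) (h' : IsLocInv M P β') : IsLocInv M P (Blocks.conv β β') :=
  ⟨fun _ => memLocalRing_sum _ fun x _ => memLocalRing_mul (h.ring x) (h'.ring _),
    fun a ha => conv_conj_invariant (h.pinv a ha) (h'.pinv a ha),
    fun a ha => conv_conj_invariant (h.cinv a ha) (h'.cinv a ha)⟩

theorem isRCentral_res (h : IsLocInv M P β) :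
    IsRCentral M (resFun (Subgroup.centralizer (P : Set G)) β) :=
  ⟨fun g c => h.cinv (c : G) c.2 (g : G), fun x => h.ring _⟩

end IsLocInv

/-! ### The functional -/

variable {P : Subgroup G}

theorem brauerOmega_eq_omega [Fintype (Subgroup.centralizer (P : Set G))] (β : G → ℂ)
    (ξ : Subgroup.centralizer (P : Set G) → ℂ) :
    brauerOmega P β ξ = omega ξ (resFun (Subgroup.centralizer (P : Set G)) β) := by
  rw [brauerOmega, finsum_eq_sum_of_fintype, omega, Finset.sum_div]
  rfl

theorem brauerOmega_congr {β β' : G → ℂ}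
    (h : ∀ x ∈ Subgroup.centralizer (P : Set G), β x = β' x)
    (ξ : Subgroup.centralizer (P : Set G) → ℂ) : brauerOmega P β ξ = brauerOmega P β' ξ :=
  finsum_congr fun x => by rw [h x x.2]

theorem brauerOmega_add (β β' : G → ℂ) (ξ : Subgroup.centralizer (P : Set G) → ℂ) :
    brauerOmega P (β + β') ξ = brauerOmega P β ξ + brauerOmega P β' ξ := by
  classical
  rw [brauerOmega_eq_omega, brauerOmega_eq_omega, brauerOmega_eq_omega, resFun_add, omega_add]

theorem brauerOmega_smul (c : ℂ) (β : G → ℂ) (ξ : Subgroup.centralizer (P : Set G) → ℂ) :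
    brauerOmega P (c • β) ξ = c * brauerOmega P β ξ := by
  classical
  rw [brauerOmega_eq_omega, brauerOmega_eq_omega, resFun_smul, omega_smul]

theorem brauerOmega_sub (β β' : G → ℂ) (ξ : Subgroup.centralizer (P : Set G) → ℂ) :
    brauerOmega P (β - β') ξ = brauerOmega P β ξ - brauerOmega P β' ξ := by
  classical
  rw [brauerOmega_eq_omega, brauerOmega_eq_omega, brauerOmega_eq_omega,
    show resFun (Subgroup.centralizer (P : Set G)) (β - β') = resFun _ β - resFun _ β' from rfl,
    omega_sub]

theorem brauerOmega_sum {ι : Type*} (s : Finset ι) (F : ι → G → ℂ)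
    (ξ : Subgroup.centralizer (P : Set G) → ℂ) :
    brauerOmega P (∑ i ∈ s, F i) ξ = ∑ i ∈ s, brauerOmega P (F i) ξ := by
  classical
  simp only [brauerOmega_eq_omega, resFun_sum, omega_sum]

theorem brauerOmega_deltaOne (ξ : IrrCharacter (Subgroup.centralizer (P : Set G))) :
    brauerOmega P (deltaOne : G → ℂ) (ξ : Subgroup.centralizer (P : Set G) → ℂ) = 1 := by
  classical
  rw [brauerOmega_eq_omega,
    show resFun (Subgroup.centralizer (P : Set G)) (deltaOne : G → ℂ) =
      (deltaOne : Subgroup.centralizer (P : Set G) → ℂ) by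
        funext h; simp [resFun, deltaOne_apply],
    omega_deltaOne ξ.2]

theorem memLocalRing_brauerOmega {β : G → ℂ} (h : IsLocInv M P β)
    (ξ : IrrCharacter (Subgroup.centralizer (P : Set G))) :
    MemLocalRing M (brauerOmega P β (ξ : Subgroup.centralizer (P : Set G) → ℂ)) := by
  classical
  rw [brauerOmega_eq_omega]
  exact memLocalRing_omega h.isRCentral_res ξ

theorem memLocalIdeal_omega_of_forall {H : Type u} [Group H] [Fintype H] {f : H → ℂ}
    (hf : IsRCentral M f) (h : ∀ x, MemLocalIdeal M (f x)) (ξ : IrrCharacter H) :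
    MemLocalIdeal M (omega (ξ : H → ℂ) f) := by
  haveI : Finite (ConjClasses H) := Finite.of_surjective _ ConjClasses.mk_surjective
  haveI := Fintype.ofFinite (ConjClasses H)
  rw [omega_eq_sum_classes (irr_isClassFunction ξ) hf.1]
  exact memLocalIdeal_sum _ fun C _ =>
    memLocalIdeal_mul_right (h _) (memLocalRing_centralChar ξ _)

theorem memLocalIdeal_brauerOmega {β : G → ℂ} (h : IsLocInv M P β)
    (h0 : ∀ x ∈ Subgroup.centralizer (P : Set G), MemLocalIdeal M (β x))
    (ξ : IrrCharacter (Subgroup.centralizer (P : Set G))) :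
    MemLocalIdeal M (brauerOmega P β (ξ : Subgroup.centralizer (P : Set G) → ℂ)) := by
  classical
  rw [brauerOmega_eq_omega]
  exact memLocalIdeal_omega_of_forall h.isRCentral_res (fun x => h0 x x.2) ξ

theorem brauerOmega_congr_sameBlock {β : G → ℂ} (h : IsLocInv M P β)
    {e : Set (IrrCharacter (Subgroup.centralizer (P : Set G)))} (he : IsPBlock M e)
    {ξ ξ' : IrrCharacter (Subgroup.centralizer (P : Set G))} (hξ : ξ ∈ e) (hξ' : ξ' ∈ e) :
    MemLocalIdeal M (brauerOmega P β (ξ : Subgroup.centralizer (P : Set G) → ℂ) -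
      brauerOmega P β (ξ' : Subgroup.centralizer (P : Set G) → ℂ)) := by
  classical
  rw [brauerOmega_eq_omega, brauerOmega_eq_omega]
  exact omega_congr_of_sameBlock (IsPBlock.sameBlock he hξ hξ') h.isRCentral_res

/-- On `C(P)` restriction commutes with products modulo `M`. -/
theorem resFun_conv_congr (hM : IsPModular p M) (hP : IsPGroup p P) {β β' : G → ℂ}
    [Fintype (Subgroup.centralizer (P : Set G))]
    (h : IsLocInv M P β) (h' : IsLocInv M P β') (y : Subgroup.centralizer (P : Set G)) :
    MemLocalIdeal M (resFun (Subgroup.centralizer (P : Set G)) (conv β β') y -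
      conv (resFun (Subgroup.centralizer (P : Set G)) β)
        (resFun (Subgroup.centralizer (P : Set G)) β') y) := by
  haveI := Fact.mk hM.1
  have hres : ∀ f : G → ℂ, resFun (Subgroup.centralizer (P : Set G)) f =
      resFun (Subgroup.centralizer (P : Set G)) (trunc P f) := fun f =>
    funext fun x => (trunc_of_mem x.2).symm
  rw [hres β, hres β', conv_resFun le_rfl, hres (conv β β')]
  exact trunc_conv_congr hM P hP h.ring h'.ring h.pinv h'.pinv (y : G)

/-- **The Brauer functional is multiplicative modulo `M`.** -/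
theorem brauerOmega_conv (hM : IsPModular p M) (hP : IsPGroup p P) {β β' : G → ℂ}
    (h : IsLocInv M P β) (h' : IsLocInv M P β')
    (ξ : IrrCharacter (Subgroup.centralizer (P : Set G))) :
    MemLocalIdeal M (brauerOmega P (conv β β') (ξ : Subgroup.centralizer (P : Set G) → ℂ) -
      brauerOmega P β (ξ : Subgroup.centralizer (P : Set G) → ℂ) *
        brauerOmega P β' (ξ : Subgroup.centralizer (P : Set G) → ℂ)) := by
  classical
  rw [brauerOmega_eq_omega, brauerOmega_eq_omega, brauerOmega_eq_omega,
    ← omega_conv ξ.2 h.isRCentral_res.1, ← omega_sub]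
  exact memLocalIdeal_omega_of_forall
    ((h.conv h').isRCentral_res.sub (h.isRCentral_res.conv h'.isRCentral_res))
    (resFun_conv_congr hM hP h h') ξ

/-- An idempotent has value `0` or `1`. -/
theorem brauerOmega_idem (hM : IsPModular p M) (hP : IsPGroup p P) {β : G → ℂ}
    (h : IsLocInv M P β) (hid : conv β β = β)
    (ξ : IrrCharacter (Subgroup.centralizer (P : Set G))) :
    MemLocalIdeal M (brauerOmega P β (ξ : Subgroup.centralizer (P : Set G) → ℂ)) ∨
      MemLocalIdeal M (brauerOmega P β (ξ : Subgroup.centralizer (P : Set G) → ℂ) - 1) := by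
  have h1 := brauerOmega_conv hM hP h h ξ
  rw [hid] at h1
  set t := brauerOmega P β (ξ : Subgroup.centralizer (P : Set G) → ℂ)
  have ht : MemLocalRing M t := memLocalRing_brauerOmega h ξ
  rw [show t - t * t = t * (1 - t) by ring,
    memLocalIdeal_mul_iff ht (memLocalRing_sub memLocalRing_one ht)] at h1
  refine h1.imp_right fun h2 => ?_
  simpa using memLocalIdeal_neg h2

theorem brauerOmega_orth (hM : IsPModular p M) (hP : IsPGroup p P) {β β' : G → ℂ}
    (h : IsLocInv M P β) (h' : IsLocInv M P β') (hid : conv β β' = 0)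
    (ξ : IrrCharacter (Subgroup.centralizer (P : Set G)))
    (h1 : MemLocalIdeal M (brauerOmega P β (ξ : Subgroup.centralizer (P : Set G) → ℂ) - 1))
    (h2 : MemLocalIdeal M (brauerOmega P β' (ξ : Subgroup.centralizer (P : Set G) → ℂ) - 1)) :
    False := by
  have h0 : MemLocalIdeal M (brauerOmega P (conv β β')
      (ξ : Subgroup.centralizer (P : Set G) → ℂ)) :=
    memLocalIdeal_brauerOmega (h.conv h') (fun x _ => by
      rw [hid]; exact memLocalIdeal_zero) ξ
  have h3 := brauerOmega_conv hM hP h h' ξ
  have hne : ∀ t, MemLocalIdeal M (t - 1) → ¬ MemLocalIdeal M t := fun t ht =>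
    not_memLocalIdeal_of_sub not_memLocalIdeal_one ht
  have h4 := memLocalIdeal_sub h0 h3
  rw [sub_sub_cancel] at h4
  exact not_memLocalIdeal_mul (memLocalRing_brauerOmega h ξ) (memLocalRing_brauerOmega h' ξ)
    (hne _ h1) (hne _ h2) h4

/-! ### Block idempotents of a subgroup inside `G` -/

variable {K : Subgroup G}

theorem resFun_subgroupBlockCoeff (f : Set (IrrCharacter K)) :
    resFun K (subgroupBlockCoeff K f) = blockCoeff f :=
  funext fun k => subgroupBlockCoeff_of_mem f k.2

theorem memLocalRing_subgroupBlockCoeff (hM : IsPModular p M) {f : Set (IrrCharacter K)}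
    (hf : IsPBlock M f) (x : G) : MemLocalRing M (subgroupBlockCoeff K f x) := by
  classical
  by_cases hx : x ∈ K
  · rw [subgroupBlockCoeff_of_mem f hx]
    exact (isRCentral_blockCoeff hM hf).2 _
  · rw [subgroupBlockCoeff_of_notMem f hx]
    exact memLocalRing_zero

theorem isPInv_subgroupBlockCoeff_self (f : Set (IrrCharacter K)) :
    IsPInv K (subgroupBlockCoeff K f) := by
  classical
  intro a ha x
  rw [subgroupBlockCoeff_eq_extendByZero]
  exact extendByZero_conj (isClassFunction_blockCoeff f) ha x

theorem conv_blockCoeff_eq_zero {H : Type u} [Group H] [Fintype H]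
    {f f' : Set (IrrCharacter H)} (hf : IsPBlock M f) (hf' : IsPBlock M f') (hne : f ≠ f') :
    conv (blockCoeff f) (blockCoeff f') = 0 := by
  classical
  refine ext_omega (isClassFunction_conv (isClassFunction_blockCoeff f)
    (isClassFunction_blockCoeff f')) (fun _ _ => rfl) fun χ => ?_
  rw [omega_conv χ.2 (isClassFunction_blockCoeff f), omega_blockCoeff, omega_blockCoeff,
    omega_zero]
  split_ifs with h1 h2 <;> simp
  exact hne (IsPBlock.eq_of_mem hf hf' h1 h2)

theorem conv_subgroupBlockCoeff_self (f : Set (IrrCharacter K)) :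
    conv (subgroupBlockCoeff K f) (subgroupBlockCoeff K f) = subgroupBlockCoeff K f := by
  classical
  rw [subgroupBlockCoeff_eq_extendByZero, conv_extendByZero, blockCoeff_conv_self]

theorem conv_subgroupBlockCoeff_eq_zero {f f' : Set (IrrCharacter K)} (hf : IsPBlock M f)
    (hf' : IsPBlock M f') (hne : f ≠ f') :
    conv (subgroupBlockCoeff K f) (subgroupBlockCoeff K f') = 0 := by
  classical
  rw [subgroupBlockCoeff_eq_extendByZero, subgroupBlockCoeff_eq_extendByZero, conv_extendByZero,
    conv_blockCoeff_eq_zero hf hf' hne]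
  funext x
  by_cases hx : x ∈ K
  · rw [extendByZero_of_mem _ _ hx]; rfl
  · rw [extendByZero_of_not_mem _ _ hx]; rfl

/-- The type of blocks of a finite group. -/
abbrev Bl (M : Ideal AlgInt) (H : Type u) [Group H] : Type u :=
  {f : Set (IrrCharacter H) // IsPBlock M f}

instance finite_bl (H : Type u) [Group H] [Finite H] : Finite (Bl M H) := by
  haveI := Fintype.ofFinite H
  haveI : Finite (IrrCharacter H) := finite_irrCharacter
  infer_instance

/-- Sum over the blocks of a subgroup. -/
theorem sum_subgroupBlockCoeff [Fintype (Bl M K)] :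
    ∑ f : Bl M K, subgroupBlockCoeff K f.1 = (deltaOne : G → ℂ) := by
  classical
  haveI := Fintype.ofFinite (IrrCharacter K)
  have hsum : ∑ f : Bl M K, blockCoeff f.1 = (deltaOne : K → ℂ) := by
    rw [← sum_blockCoeff_eq_deltaOne (G := K) (M := M)]
    refine Finset.sum_bij (fun f _ => f.1) (fun f _ => ?_) (fun a _ b _ h => Subtype.ext h)
      (fun b hb => ?_) (fun f _ => rfl)
    · obtain ⟨χ, hχ⟩ := f.2
      exact Finset.mem_image.2 ⟨χ, Finset.mem_univ _, hχ.symm⟩
    · obtain ⟨χ, -, rfl⟩ := Finset.mem_image.1 hb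
      exact ⟨⟨_, isPBlock_blockOf χ⟩, Finset.mem_univ _, rfl⟩
  funext x
  rw [Finset.sum_apply]
  by_cases hx : x ∈ K
  · simp only [subgroupBlockCoeff_of_mem _ hx]
    rw [← Finset.sum_apply, hsum]
    simp [deltaOne_apply, Subtype.ext_iff]
  · simp only [subgroupBlockCoeff_of_notMem _ hx, Finset.sum_const_zero]
    rw [deltaOne_apply, if_neg]
    rintro rfl
    exact hx (one_mem K)

/-! ### Pairs of a block -/

theorem isBrauerPairOf_of_exists (hM : IsPModular p M) {B : Set (IrrCharacter G)}
    {e : Set (IrrCharacter (Subgroup.centralizer (P : Set G)))} (hPe : IsBrauerPair p M P e)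
    (hB : IsPBlock M B) {ξ : IrrCharacter (Subgroup.centralizer (P : Set G))} (hξ : ξ ∈ e)
    (h : MemLocalIdeal M (brauerOmega P (blockCoeff B)
      (ξ : Subgroup.centralizer (P : Set G) → ℂ) - 1)) : IsBrauerPairOf p M B P e := by
  refine ⟨hPe, hB, fun ξ' hξ' => ?_⟩
  have h1 := brauerOmega_congr_sameBlock (IsLocInv.of_isRCentral (isRCentral_blockCoeff hM hB))
    hPe.2 hξ' hξ
  simpa using memLocalIdeal_add h1 h

/-- **Every pair belongs to exactly one block.** -/
theorem existsUnique_isBrauerPairOf (hM : IsPModular p M)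
    {e : Set (IrrCharacter (Subgroup.centralizer (P : Set G)))} (hPe : IsBrauerPair p M P e) :
    ∃! B : Set (IrrCharacter G), IsBrauerPairOf p M B P e := by
  classical
  haveI := Fintype.ofFinite (IrrCharacter G)
  obtain ⟨ξ, hξ⟩ := IsPBlock.nonempty hPe.2
  have hinv : ∀ B : Set (IrrCharacter G), IsPBlock M B → IsLocInv M P (blockCoeff B) :=
    fun B hB => IsLocInv.of_isRCentral (isRCentral_blockCoeff hM hB)
  obtain ⟨B, hB, hne⟩ : ∃ B, IsPBlock M B ∧ ¬ MemLocalIdeal M (brauerOmega P (blockCoeff B)
      (ξ : Subgroup.centralizer (P : Set G) → ℂ)) := by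
    by_contra hcon
    simp only [not_exists, not_and, not_not] at hcon
    have h1 := congrArg (fun β => brauerOmega P β (ξ : Subgroup.centralizer (P : Set G) → ℂ))
      (sum_blockCoeff_eq_deltaOne (G := G) (M := M))
    simp only [brauerOmega_sum, brauerOmega_deltaOne] at h1
    refine not_memLocalIdeal_one (M := M) (h1 ▸ memLocalIdeal_sum _ fun B hB => ?_)
    obtain ⟨χ, -, rfl⟩ := Finset.mem_image.1 hB
    exact hcon _ (isPBlock_blockOf χ)
  have hone := (brauerOmega_idem hM hPe.1 (hinv B hB) (blockCoeff_conv_self B) ξ).resolve_left hne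
  refine ⟨B, isBrauerPairOf_of_exists hM hPe hB hξ hone, fun B' hB' => ?_⟩
  by_contra hBB
  exact brauerOmega_orth hM hPe.1 (hinv B' hB'.2.1) (hinv B hB)
    (conv_blockCoeff_eq_zero hB'.2.1 hB hBB) ξ (hB'.2.2 ξ hξ) hone

/-- Central functions are evaluated through the block of the pair. -/
theorem brauerOmega_congr_omega (hM : IsPModular p M) {B : Set (IrrCharacter G)}
    {e : Set (IrrCharacter (Subgroup.centralizer (P : Set G)))} (h : IsBrauerPairOf p M B P e)
    {ξ : IrrCharacter (Subgroup.centralizer (P : Set G))} (hξ : ξ ∈ e) {χ : IrrCharacter G}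
    (hχ : χ ∈ B) {f : G → ℂ} (hf : IsRCentral M f) :
    MemLocalIdeal M (brauerOmega P f (ξ : Subgroup.centralizer (P : Set G) → ℂ) -
      omega (χ : G → ℂ) f) := by
  classical
  obtain ⟨⟨hP, he⟩, hB, hone⟩ := h
  have hE := isRCentral_blockCoeff hM hB
  set E := blockCoeff B
  set a := omega (χ : G → ℂ) f
  have ha : MemLocalRing M a := memLocalRing_omega hf χ
  let z := conv f E - a • E
  have hz : IsRCentral M z := (hf.conv hE).sub (hE.smul ha)
  obtain ⟨N, hN⟩ := exists_convPow_memLocalIdeal hM hz fun η => by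
    rw [omega_sub, omega_conv η.2 hf.1, omega_smul, omega_blockCoeff]
    split_ifs with hη
    · rw [mul_one, mul_one]
      exact omega_congr_of_sameBlock (IsPBlock.sameBlock hB hη hχ) hf
    · simpa using memLocalIdeal_zero
  set φ := fun β : G → ℂ => brauerOmega P β (ξ : Subgroup.centralizer (P : Set G) → ℂ)
  have hL : ∀ {β : G → ℂ}, IsRCentral M β → IsLocInv M P β := IsLocInv.of_isRCentral
  have hpow : ∀ n, MemLocalIdeal M (φ (convPow z n) - φ z ^ n) := by
    intro n
    induction n with
    | zero =>
      simp only [φ, convPow, brauerOmega_deltaOne, pow_zero, sub_self]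
      exact memLocalIdeal_zero
    | succ n ih =>
      have h1 := brauerOmega_conv hM hP (hL hz) (hL (isRCentral_convPow hz n)) ξ
      have h2 := memLocalIdeal_mul_left (memLocalRing_brauerOmega (hL hz) ξ) ih
      rw [convPow, pow_succ']
      convert memLocalIdeal_add h1 h2 using 1
      simp only [φ]
      ring
  have hzI : MemLocalIdeal M (φ z) := by
    have h1 : MemLocalIdeal M (φ (convPow z (N + 1))) := memLocalIdeal_brauerOmega
      (hL (isRCentral_convPow hz (N + 1))) (fun x _ => hN (N + 1) (by omega) x) ξ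
    have h2 := memLocalIdeal_sub h1 (hpow (N + 1))
    rw [sub_sub_cancel] at h2
    exact (memLocalIdeal_pow_iff (memLocalRing_brauerOmega (hL hz) ξ) (Nat.succ_ne_zero N)).1 h2
  have hφz : φ z = φ (conv f E) - a * φ E := by
    simp only [φ, z, brauerOmega_sub, brauerOmega_smul]
  have h3 := brauerOmega_conv hM hP (hL hf) (hL hE) ξ
  have h4 := hone ξ hξ
  have h5 := memLocalIdeal_mul_left
    (memLocalRing_sub (memLocalRing_brauerOmega (hL hf) ξ) ha) h4
  rw [hφz] at hzI
  have h6 := memLocalIdeal_sub (memLocalIdeal_sub hzI h3) h5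
  convert h6 using 1
  simp only [φ]
  ring

end Cfsg.Agent.Lib.BrauerPairs
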