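import Cfsg.Agent.Lib.BrauerPairs.Maximal
import Cfsg.Agent.Lib.BlockHeights.Support

/-!
# The block of the stabilizer of a pair
-/

set_option autoImplicit false
set_option linter.unusedSectionVars false
set_option linter.style.haveILetI false

namespace Cfsg.Agent.Lib.BrauerPairs

open Cfsg Cfsg.Agent.Lib.Blocks Cfsg.Agent.Lib.Characters

universe u

variable {G : Type u} [Group G] [Fintype G] {M : Ideal AlgInt} [hMp : M.IsPrime] {p : ℕ}
  {Q : Subgroup G} {f : Set (IrrCharacter (Subgroup.centralizer (Q : Set G)))}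

/-- A central function idempotent modulo `M` with all central characters in `M` vanishes
modulo `M`. -/
theorem memLocalIdeal_of_idem {H : Type u} [Group H] [Fintype H] (hM : IsPModular p M)
    {b : H → ℂ} (hb : IsRCentral M b) (hbb : ∀ y, MemLocalIdeal M (b y - conv b b y))
    (hω : ∀ ζ : IrrCharacter H, MemLocalIdeal M (omega (ζ : H → ℂ) b)) (y : H) :
    MemLocalIdeal M (b y) := by
  obtain ⟨N, hN⟩ := exists_convPow_memLocalIdeal hM hb hω
  have hpow : ∀ n y, MemLocalIdeal M (convPow b (n + 1) y - b y) := by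
    intro n
    induction n with
    | zero =>
      intro y
      rw [show convPow b 1 = b from (conv_comm deltaOne hb.1).trans (deltaOne_conv b), sub_self]
      exact memLocalIdeal_zero
    | succ n ih =>
      intro y
      have h1 := memLocalIdeal_conv_congr (f := b) (g := b) (g' := b) hb.2 hb.2
        (fun z => by rw [sub_self]; exact memLocalIdeal_zero) ih y
      have h2 := memLocalIdeal_sub h1 (hbb y)
      rw [convPow]
      convert h2 using 1
      ring
  have h3 := memLocalIdeal_sub (hN (N + 1) (by omega) y) (hpow N y)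
  rwa [sub_sub_cancel] at h3

/-- The stabilizer of a pair. -/
def pairStab (Q : Subgroup G) (f : Set (IrrCharacter (Subgroup.centralizer (Q : Set G)))) :
    Subgroup G where
  carrier := {g | g ∈ Subgroup.normalizer (Q : Set G) ∧
    gconj g (subgroupBlockCoeff (Subgroup.centralizer (Q : Set G)) f) =
      subgroupBlockCoeff (Subgroup.centralizer (Q : Set G)) f}
  one_mem' := ⟨one_mem _, gconj_one _⟩
  mul_mem' := fun {a b} ha hb => ⟨mul_mem ha.1 hb.1, by rw [gconj_mul, hb.2, ha.2]⟩
  inv_mem' := fun {a} ha => ⟨inv_mem ha.1, by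
    conv_lhs => rw [← ha.2, ← gconj_mul, inv_mul_cancel, gconj_one]⟩

theorem mem_pairStab {g : G} : g ∈ pairStab Q f ↔ g ∈ Subgroup.normalizer (Q : Set G) ∧
    gconj g (subgroupBlockCoeff (Subgroup.centralizer (Q : Set G)) f) =
      subgroupBlockCoeff (Subgroup.centralizer (Q : Set G)) f := Iff.rfl

theorem mem_pairStab_iff {g : G} : g ∈ pairStab Q f ↔ g ∈ Subgroup.normalizer (Q : Set G) ∧
    StabilizesBlock (Subgroup.centralizer (Q : Set G)) f g :=
  ⟨fun h => ⟨h.1, (stabilizesBlock_iff (normalizer_le_normalizer_centralizer Q h.1)).2 h.2⟩,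
    fun h => ⟨h.1, (stabilizesBlock_iff (normalizer_le_normalizer_centralizer Q h.1)).1 h.2⟩⟩

theorem centralizer_le_pairStab : Subgroup.centralizer (Q : Set G) ≤ pairStab Q f := fun a ha =>
  ⟨centralizer_le_normalizer' Q ha,
    gconj_eq_self_iff.2 fun x => isPInv_subgroupBlockCoeff_self f a ha x⟩

theorem le_pairStab_self : Q ≤ pairStab Q f := by
  intro a ha
  refine ⟨Subgroup.le_normalizer ha, ?_⟩
  funext x
  by_cases hx : x ∈ Subgroup.centralizer (Q : Set G)
  · exact gconj_subgroupBlockCoeff_of_mem f ha hx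
  · rw [gconj_apply, subgroupBlockCoeff_of_notMem f hx, subgroupBlockCoeff_of_notMem f fun h =>
      hx ((mem_centralizer_conj_iff (Subgroup.le_normalizer ha) x).2 h)]

theorem mem_pairStab_conjBlock {x g : G} :
    g ∈ pairStab (Q.map (MulAut.conj x).toMonoidHom) (conjBlock Q x f) ↔
      x⁻¹ * g * x ∈ pairStab Q f := by
  rw [mem_pairStab, mem_pairStab, mem_normalizer_map_conj_iff, subgroupBlockCoeff_conjBlock]
  refine and_congr Iff.rfl ⟨fun h => ?_, fun h => ?_⟩
  · rw [gconj_mul, gconj_mul, h, ← gconj_mul, inv_mul_cancel, gconj_one]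
  · rw [← gconj_mul, show g * x = x * (x⁻¹ * g * x) by group, gconj_mul, h]

/-- The set of characters of `H` cut out by the idempotent of `f`. -/
noncomputable def blockAbove (H : Subgroup G)
    (f : Set (IrrCharacter (Subgroup.centralizer (Q : Set G)))) : Set (IrrCharacter H) :=
  haveI := Fintype.ofFinite H
  {χ | omega (χ : H → ℂ) (resFun H (subgroupBlockCoeff (Subgroup.centralizer (Q : Set G)) f)) = 1}

variable {H : Subgroup G} [Fintype H]

theorem extendByZero_resFun_stable (hCH : Subgroup.centralizer (Q : Set G) ≤ H)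
    (f : Set (IrrCharacter (Subgroup.centralizer (Q : Set G)))) :
    extendByZero H (resFun H (subgroupBlockCoeff (Subgroup.centralizer (Q : Set G)) f)) =
      subgroupBlockCoeff (Subgroup.centralizer (Q : Set G)) f := by
  funext x
  by_cases hx : x ∈ H
  · rw [extendByZero_of_mem _ _ hx]; rfl
  · rw [extendByZero_of_not_mem _ _ hx, subgroupBlockCoeff_of_notMem f fun h => hx (hCH h)]

theorem isRCentral_resFun_stable (hM : IsPModular p M) (hf : IsPBlock M f)
    (hHT : H ≤ pairStab Q f) :
    IsRCentral M (resFun H (subgroupBlockCoeff (Subgroup.centralizer (Q : Set G)) f)) :=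
  ⟨fun g a => gconj_eq_self_iff.1 (hHT a.2).2 (g : G),
    fun x => memLocalRing_subgroupBlockCoeff hM hf _⟩

theorem conv_resFun_stable (hCH : Subgroup.centralizer (Q : Set G) ≤ H)
    (f : Set (IrrCharacter (Subgroup.centralizer (Q : Set G)))) :
    conv (resFun H (subgroupBlockCoeff (Subgroup.centralizer (Q : Set G)) f))
      (resFun H (subgroupBlockCoeff (Subgroup.centralizer (Q : Set G)) f)) =
      resFun H (subgroupBlockCoeff (Subgroup.centralizer (Q : Set G)) f) := by
  have h := conv_extendByZero (resFun H (subgroupBlockCoeff (Subgroup.centralizer (Q : Set G)) f))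
    (resFun H (subgroupBlockCoeff (Subgroup.centralizer (Q : Set G)) f))
  rw [extendByZero_resFun_stable hCH, conv_subgroupBlockCoeff_self] at h
  conv_rhs => rw [h, resFun_extendByZero]

theorem blockCoeff_blockAbove (hM : IsPModular p M) (hf : IsPBlock M f)
    (hCH : Subgroup.centralizer (Q : Set G) ≤ H) (hHT : H ≤ pairStab Q f) :
    blockCoeff (blockAbove H f) =
      resFun H (subgroupBlockCoeff (Subgroup.centralizer (Q : Set G)) f) := by
  classical
  have hE := isRCentral_resFun_stable hM hf hHT
  refine ext_omega (isClassFunction_blockCoeff _) hE.1 fun χ => ?_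
  rw [omega_blockCoeff]
  have h := omega_conv χ.2 hE.1
    (resFun H (subgroupBlockCoeff (Subgroup.centralizer (Q : Set G)) f))
  rw [conv_resFun_stable hCH] at h
  split_ifs with hχ
  · simp only [blockAbove, Set.mem_ofPred_eq] at hχ
    convert hχ.symm
  · set t := omega (χ : H → ℂ) (resFun H (subgroupBlockCoeff (Subgroup.centralizer (Q : Set G)) f))
    have h2 : t * (t - 1) = 0 := by rw [mul_sub, mul_one, ← h, sub_self]
    rcases mul_eq_zero.1 h2 with h3 | h3
    · exact h3.symm
    · refine absurd ?_ hχ
      simp only [blockAbove, Set.mem_ofPred_eq]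
      convert sub_eq_zero.1 h3

/-- **A stable block of `C(Q)` is the only block of `H` above it.** -/
theorem isPBlock_blockAbove (hM : IsPModular p M) (hQ : IsPGroup p Q) (hf : IsPBlock M f)
    (hCH : Subgroup.centralizer (Q : Set G) ≤ H) (hQH : Q ≤ H) (hHT : H ≤ pairStab Q f) :
    IsPBlock M (blockAbove H f) := by
  classical
  haveI := Fact.mk hM.1
  haveI : (Q.subgroupOf H).Normal := subgroupOf_normal_of_le_normalizer fun a ha => (hHT ha).1
  obtain ⟨η, hη⟩ := IsPBlock.nonempty hf
  have hA := blockCoeff_blockAbove hM hf hCH hHT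
  have hAR : IsRCentral M (blockCoeff (blockAbove H f)) :=
    hA ▸ isRCentral_resFun_stable hM hf hHT
  have hEη : brauerOmega Q (subgroupBlockCoeff (Subgroup.centralizer (Q : Set G)) f)
      (η : Subgroup.centralizer (Q : Set G) → ℂ) = 1 := by
    rw [brauerOmega_eq_omega, resFun_subgroupBlockCoeff, omega_blockCoeff, if_pos hη]
  have hinv : ∀ (β : H → ℂ), IsRCentral M β → IsLocInv M Q (extendByZero H β) := fun β hβ =>
    ⟨memLocalRing_extendByZero hβ.2, fun a ha => extendByZero_conj hβ.1 (hQH ha),
      fun a ha => extendByZero_conj hβ.1 (hCH ha)⟩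
  have hone : ∀ χ ∈ blockAbove H f, MemLocalIdeal M
      (brauerOmega Q (extendByZero H (blockCoeff (blockOf M (χ : H → ℂ))))
        (η : Subgroup.centralizer (Q : Set G) → ℂ) - 1) := by
    intro χ hχ
    set B' := blockOf M (χ : H → ℂ) with hB'def
    have hB' : IsPBlock M B' := isPBlock_blockOf χ
    have hE' := isRCentral_blockCoeff hM hB'
    have hI := hinv _ hE'
    have hsub : B' ⊆ blockAbove H f := blockOf_subset_of_isRCentral hAR hχ
    have hmul : conv (extendByZero H (blockCoeff B'))
        (subgroupBlockCoeff (Subgroup.centralizer (Q : Set G)) f) =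
          extendByZero H (blockCoeff B') := by
      rw [← extendByZero_resFun_stable hCH f, ← hA, conv_extendByZero]
      congr 1
      refine ext_omega (isClassFunction_conv hE'.1 hAR.1) hE'.1 fun ψ => ?_
      rw [omega_conv ψ.2 hE'.1, omega_blockCoeff, omega_blockCoeff]
      split_ifs with h1 h2
      · rw [mul_one]
      · exact absurd (hsub h1) h2
      · rw [zero_mul]
      · rw [mul_zero]
    have hIE : IsLocInv M Q (subgroupBlockCoeff (Subgroup.centralizer (Q : Set G)) f) :=
      extendByZero_resFun_stable hCH f ▸ hinv _ (hA ▸ hAR)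
    refine (brauerOmega_idem hM hQ hI
      (by rw [conv_extendByZero, blockCoeff_conv_self]) η).resolve_left fun h0 => ?_
    set b := resFun (Subgroup.centralizer (Q : Set G)) (extendByZero H (blockCoeff B')) with hb_def
    have hb : IsRCentral M b := hI.isRCentral_res
    have hbb : ∀ y, MemLocalIdeal M (b y - conv b b y) := fun y => by
      have h1 := resFun_conv_congr hM hQ hI hI y
      rwa [conv_extendByZero, blockCoeff_conv_self] at h1
    have hω : ∀ ζ : IrrCharacter (Subgroup.centralizer (Q : Set G)),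
        MemLocalIdeal M (omega (ζ : Subgroup.centralizer (Q : Set G) → ℂ) b) := by
      intro ζ
      have h1 := brauerOmega_conv hM hQ hI hIE ζ
      rw [hmul] at h1
      simp only [brauerOmega_eq_omega, resFun_subgroupBlockCoeff, omega_blockCoeff] at h1
      by_cases hζ : ζ ∈ f
      · have h2 := brauerOmega_congr_sameBlock hI hf hζ hη
        simp only [brauerOmega_eq_omega] at h2 h0
        simpa using memLocalIdeal_add h2 h0
      · rw [if_neg hζ, mul_zero, sub_zero] at h1
        exact h1
    have h4 := memLocalIdeal_of_idem hM hb hbb hω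
    obtain ⟨g, hg⟩ := exists_isDefectClass hM hB'
    apply hg.2.1
    by_cases hgC : (g : G) ∈ Subgroup.centralizer (Q : Set G)
    · have h5 := h4 ⟨g, hgC⟩
      simpa [b, resFun, extendByZero_of_mem _ _ g.2] using h5
    · rw [BlockHeights.blockCoeff_eq_zero_of_notMem_centralizer hM
        (hQ.of_equiv (Subgroup.subgroupOfEquivOfLe hQH).symm) hB'
        (fun h => hgC ((mem_centralizer_subgroupOf hQH g).1 h))]
      exact memLocalIdeal_zero
  obtain ⟨χ, hχ⟩ : (blockAbove H f).Nonempty := by
    rw [Set.nonempty_iff_ne_empty]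
    intro hempty
    have h0 : blockCoeff (blockAbove H f) = 0 := by
      refine ext_omega hAR.1 (fun _ _ => rfl) fun ψ => ?_
      rw [omega_blockCoeff, omega_zero, hempty]
      simp
    have h1 : subgroupBlockCoeff (Subgroup.centralizer (Q : Set G)) f = 0 := by
      rw [← extendByZero_resFun_stable hCH f, ← hA, h0]
      funext x
      by_cases hx : x ∈ H
      · rw [extendByZero_of_mem _ _ hx]; rfl
      · rw [extendByZero_of_not_mem _ _ hx]; rfl
    rw [h1] at hEη
    simp [brauerOmega] at hEη
  refine ⟨χ, Set.Subset.antisymm (fun ψ hψ => ?_) (blockOf_subset_of_isRCentral hAR hχ)⟩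
  by_contra hne
  have hne' : blockOf M (ψ : H → ℂ) ≠ blockOf M (χ : H → ℂ) := fun h =>
    hne (h ▸ self_mem_blockOf ψ)
  refine brauerOmega_orth hM hQ (hinv _ (isRCentral_blockCoeff hM (isPBlock_blockOf ψ)))
    (hinv _ (isRCentral_blockCoeff hM (isPBlock_blockOf χ))) ?_ η (hone ψ hψ) (hone χ hχ)
  rw [conv_extendByZero, conv_blockCoeff_eq_zero (isPBlock_blockOf ψ) (isPBlock_blockOf χ) hne']
  funext x
  by_cases hx : x ∈ H
  · rw [extendByZero_of_mem _ _ hx]; rfl
  · rw [extendByZero_of_not_mem _ _ hx]; rfl

theorem subgroupBlockCoeff_blockAbove (hM : IsPModular p M) (hf : IsPBlock M f)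
    (hCH : Subgroup.centralizer (Q : Set G) ≤ H) (hHT : H ≤ pairStab Q f) :
    subgroupBlockCoeff H (blockAbove H f) =
      subgroupBlockCoeff (Subgroup.centralizer (Q : Set G)) f := by
  rw [subgroupBlockCoeff_eq_extendByZero, blockCoeff_blockAbove hM hf hCH hHT,
    extendByZero_resFun_stable hCH]

end Cfsg.Agent.Lib.BrauerPairs
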