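import Cfsg.Agent.Lib.BrauerPairs.Transport
import Cfsg.Agent.Lib.Blocks.Covering

/-!
# Blocks over a normal subgroup of `p`-power index
-/

set_option autoImplicit false
set_option linter.unusedSectionVars false
set_option linter.style.haveILetI false

namespace Cfsg.Agent.Lib.BrauerPairs

open Cfsg Cfsg.Agent.Lib.Blocks Cfsg.Agent.Lib.Characters

universe u

variable {G : Type u} [Group G] [Fintype G] {M : Ideal AlgInt} [hMp : M.IsPrime] {p : ℕ}
variable {N : Subgroup G} [hN : N.Normal] [Fintype N]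

/-- Over a subgroup of `p`-power index the idempotent of a block is the orbit idempotent of any
block below it. -/
theorem blockCoeff_eq_orbitIdem (hM : IsPModular p M) {k : ℕ} (hk : N.index = p ^ k)
    {c : Set (IrrCharacter N)} (hc : IsPBlock M c) {θ : IrrCharacter N} (hθ : θ ∈ c)
    {χ : IrrCharacter G} (h : classInner (fun n : N => (χ : G → ℂ) n) (θ : N → ℂ) ≠ 0) :
    blockCoeff (blockOf M (χ : G → ℂ)) = orbitIdem N c := by
  classical
  refine ext_omega (isClassFunction_blockCoeff _) (isClassFunction_orbitIdem N c) fun η => ?_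
  obtain ⟨θ', hθ'⟩ := exists_constituent_restrict N η
  rw [omega_blockCoeff, omega_orbitIdem N c hθ']
  have hclosed : ∀ φ ∈ c, blockOf M (φ : N → ℂ) ⊆ c := fun φ hφ => (IsPBlock.eq_blockOf hc hφ).symm.le
  have key : η ∈ blockOf M (χ : G → ℂ) ↔ θ' ∈ conjClosure N c := by
    refine ⟨fun hη => constituent_mem_conjClosure N hM hclosed hη hθ h hθ', ?_⟩
    rintro ⟨g, φ, hφ, rfl⟩
    rw [classInner_restrict_conjIrrN] at hθ'
    exact sameBlock_of_constituents N hM hk (IsPBlock.sameBlock hc hθ hφ) h hθ'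
  simp only [key]

theorem conjClosure_eq_of_stable {c : Set (IrrCharacter N)}
    (hst : ∀ g : G, StabilizesBlock N c g) : conjClosure N c = c := by
  refine Set.Subset.antisymm ?_ (subset_conjClosure N c)
  rintro _ ⟨g, θ, hθ, rfl⟩
  obtain ⟨θ', hθ', hconj⟩ := (hst g⁻¹).2 θ hθ
  convert hθ' using 1
  refine Subtype.ext (funext fun n => ?_)
  exact (hconj ⟨g * n * g⁻¹, hN.conj_mem n n.2 g⟩ n (by simp [mul_assoc])).symm

/-- **A stable block has one block over it, with the same idempotent.** -/
theorem exists_block_of_stable (hM : IsPModular p M) {k : ℕ} (hk : N.index = p ^ k)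
    {c : Set (IrrCharacter N)} (hc : IsPBlock M c) (hst : ∀ g : G, StabilizesBlock N c g) :
    ∃ B : Set (IrrCharacter G), IsPBlock M B ∧
      ∀ g : G, blockCoeff B g = subgroupBlockCoeff N c g := by
  obtain ⟨θ, hθ⟩ := IsPBlock.nonempty hc
  obtain ⟨χ, hχ⟩ := exists_over N θ
  refine ⟨_, isPBlock_blockOf χ, fun g => ?_⟩
  rw [blockCoeff_eq_orbitIdem hM hk hc hθ hχ, orbitIdem, conjClosure_eq_of_stable hst,
    subgroupBlockCoeff_eq_extendByZero]

/-- The class of `c` meets `N` in one class per coset of `C(c) N`. -/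
theorem resFun_classIndicator_eq_sum {c : G} (hc : c ∈ N)
    [Fintype (G ⧸ (Subgroup.centralizer ({c} : Set G) ⊔ N))] :
    resFun N (classIndicator c) = ∑ q : G ⧸ (Subgroup.centralizer ({c} : Set G) ⊔ N),
      (classIndicator (⟨q.out * c * q.out⁻¹, hN.conj_mem c hc _⟩ : N) : N → ℂ) := by
  classical
  funext y
  rw [Finset.sum_apply]
  by_cases hy : IsConj c (y : G)
  · obtain ⟨t, ht⟩ := isConj_iff.1 hy
    have hkey : ∀ q : G ⧸ (Subgroup.centralizer ({c} : Set G) ⊔ N),
        IsConj (⟨q.out * c * q.out⁻¹, hN.conj_mem c hc _⟩ : N) y ↔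
          (t : G ⧸ (Subgroup.centralizer ({c} : Set G) ⊔ N)) = q := by
      intro q
      constructor
      · intro h
        obtain ⟨n, hn'⟩ := isConj_iff.1 h
        have h1 : (n : G) * (q.out * c * q.out⁻¹) * (n : G)⁻¹ = t * c * t⁻¹ := by
          rw [ht]; exact congrArg Subtype.val hn'
        have h2 : t⁻¹ * ((n : G) * q.out) ∈ Subgroup.centralizer ({c} : Set G) := by
          rw [Subgroup.mem_centralizer_singleton_iff]
          calc t⁻¹ * ((n : G) * q.out) * c
              = t⁻¹ * ((n : G) * (q.out * c * q.out⁻¹) * (n : G)⁻¹) * ((n : G) * q.out) := by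
                group
            _ = c * (t⁻¹ * ((n : G) * q.out)) := by rw [h1]; group
        have h3 : t⁻¹ * q.out ∈ Subgroup.centralizer ({c} : Set G) ⊔ N := by
          have h4 : q.out⁻¹ * (n : G)⁻¹ * q.out ∈ N := by
            simpa using hN.conj_mem _ (inv_mem n.2) q.out⁻¹
          have h5 := mul_mem (Subgroup.mem_sup_left (T := N) h2)
            (Subgroup.mem_sup_right (S := Subgroup.centralizer ({c} : Set G)) h4)
          simpa [mul_assoc] using h5
        rw [← QuotientGroup.out_eq' q]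
        exact QuotientGroup.eq.2 h3
      · rintro rfl
        obtain ⟨s, hs⟩ := QuotientGroup.mk_out_eq_mul (Subgroup.centralizer ({c} : Set G) ⊔ N) t
        have hsmem : (s : G) ∈ ((Subgroup.centralizer ({c} : Set G) ⊔ N : Subgroup G) : Set G) :=
          s.2
        rw [Subgroup.coe_mul_of_left_le_normalizer_right _ _
          (by rw [Subgroup.normalizer_eq_top_iff.2 hN]; exact le_top)] at hsmem
        obtain ⟨a, ha, n, hn', han⟩ := hsmem
        rw [SetLike.mem_coe, Subgroup.mem_centralizer_singleton_iff] at ha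
        have hk : t * a * n⁻¹ * a⁻¹ * t⁻¹ ∈ N := by
          have := hN.conj_mem _ (inv_mem hn') (t * a)
          simpa [mul_assoc] using this
        refine isConj_iff.2 ⟨⟨_, hk⟩, Subtype.ext ?_⟩
        show t * a * n⁻¹ * a⁻¹ * t⁻¹ *
          ((t : G ⧸ (Subgroup.centralizer ({c} : Set G) ⊔ N)).out * c *
            ((t : G ⧸ (Subgroup.centralizer ({c} : Set G) ⊔ N)).out)⁻¹) *
          (t * a * n⁻¹ * a⁻¹ * t⁻¹)⁻¹ = (y : G)
        rw [hs, ← han, ← ht]
        calc t * a * n⁻¹ * a⁻¹ * t⁻¹ * (t * (a * n) * c * (t * (a * n))⁻¹) *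
              (t * a * n⁻¹ * a⁻¹ * t⁻¹)⁻¹ = t * (a * c) * a⁻¹ * t⁻¹ := by group
          _ = t * c * t⁻¹ := by rw [ha]; group
    rw [show resFun N (classIndicator c) y = 1 from if_pos hy,
      Finset.sum_eq_single (t : G ⧸ (Subgroup.centralizer ({c} : Set G) ⊔ N))]
    · exact (if_pos ((hkey _).2 rfl)).symm
    · intro q _ hq
      exact if_neg fun h => hq ((hkey q).1 h).symm
    · exact fun h => absurd (Finset.mem_univ _) h
  · rw [show resFun N (classIndicator c) y = 0 from if_neg hy]
    refine (Finset.sum_eq_zero fun q _ => if_neg fun h => hy ?_).symm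
    obtain ⟨n, hn'⟩ := isConj_iff.1 h
    exact isConj_iff.2 ⟨(n : G) * q.out, by
      rw [← congrArg Subtype.val hn']
      simp [mul_assoc]⟩

/-- Stable blocks have conjugation invariant central characters. -/
theorem centralChar_conj_congr {b : Set (IrrCharacter N)} (hb : IsPBlock M b)
    (hst : ∀ g : G, StabilizesBlock N b g) {θ : IrrCharacter N} (hθ : θ ∈ b) (g : G) {c : G}
    (hc : c ∈ N) :
    MemLocalIdeal M (centralChar (θ : N → ℂ) ⟨g * c * g⁻¹, hN.conj_mem c hc g⟩ -
      centralChar (θ : N → ℂ) ⟨c, hc⟩) := by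
  classical
  have hg : g ∈ Subgroup.normalizer (N : Set G) := by
    rw [Subgroup.normalizer_eq_top_iff.2 hN]; trivial
  set ε := conjEquiv g (mem_conj_iff_of_mem_normalizer hg) with hε
  have h1 : transBlock ε b = b := by
    refine subgroupBlockCoeff_injective ?_
    rw [hε, subgroupBlockCoeff_transBlock]
    exact (stabilizesBlock_iff hg).1 (hst g)
  have h2 : transIrr ε θ ∈ b := h1 ▸ Set.mem_image_of_mem _ hθ
  have h3 := centralChar_transIrr ε θ ⟨c, hc⟩
  rw [show ε ⟨c, hc⟩ = (⟨g * c * g⁻¹, hN.conj_mem c hc g⟩ : N) from Subtype.ext rfl] at h3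
  rw [← h3]
  exact IsPBlock.sameBlock hb hθ h2 _

/-- **Defect groups over a stable block**: they cover `G / N` and cut `N` in defect groups. -/
theorem defectGroup_of_stable (hM : IsPModular p M) {k : ℕ} (hk : N.index = p ^ k)
    {b : Set (IrrCharacter N)} (hb : IsPBlock M b) (hst : ∀ g : G, StabilizesBlock N b g)
    {B : Set (IrrCharacter G)} (hB : IsPBlock M B)
    (hBb : ∀ g : G, blockCoeff B g = subgroupBlockCoeff N b g)
    {P : Subgroup G} (hP : IsDefectGroup p M B P) :
    N ⊔ P = ⊤ ∧ IsDefectGroup p M b ((P ⊓ N).subgroupOf N) := by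
  classical
  haveI := Fact.mk hM.1
  obtain ⟨g, hg, R, rfl⟩ := hP
  have hgN : g ∈ N := by
    by_contra h
    exact hg.2.1 (by rw [hBb, subgroupBlockCoeff_of_notMem b h]; exact memLocalIdeal_zero)
  have hclass : ∀ θ ∈ b, ∃ χ ∈ B, MemLocalIdeal M (centralChar (χ : G → ℂ) g -
      ((Subgroup.centralizer ({g} : Set G) ⊔ N).index : ℂ) * centralChar (θ : N → ℂ) ⟨g, hgN⟩) := by
    intro θ hθ
    obtain ⟨χ, hχ⟩ := exists_over N θ
    have hE : blockCoeff (blockOf M (χ : G → ℂ)) = blockCoeff B := by
      rw [blockCoeff_eq_orbitIdem hM hk hb hθ hχ, orbitIdem, conjClosure_eq_of_stable hst,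
        ← subgroupBlockCoeff_eq_extendByZero]
      exact funext fun x => (hBb x).symm
    refine ⟨χ, blockCoeff_injective hE ▸ self_mem_blockOf χ, ?_⟩
    have hF : ∀ x, x ∉ N → classIndicator g x = 0 := fun x hx => if_neg fun h => hx (by
      obtain ⟨t, rfl⟩ := isConj_iff.1 h
      exact hN.conj_mem g hgN t)
    rw [← omega_classIndicator (irr_isClassFunction χ), omega_eq_of_constituent N hχ
      (isClassFunction_classIndicator g) hF, resFun_classIndicator_eq_sum hgN, omega_sum]
    simp only [omega_classIndicator (irr_isClassFunction θ)]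
    rw [show ((Subgroup.centralizer ({g} : Set G) ⊔ N).index : ℂ) *
        centralChar (θ : N → ℂ) ⟨g, hgN⟩ =
        ∑ _q : G ⧸ (Subgroup.centralizer ({g} : Set G) ⊔ N), centralChar (θ : N → ℂ) ⟨g, hgN⟩ by
      rw [Finset.sum_const, Finset.card_univ, nsmul_eq_mul, Subgroup.index,
        Nat.card_eq_fintype_card], ← Finset.sum_sub_distrib]
    exact memLocalIdeal_sum _ fun q _ => centralChar_conj_congr hb hst hθ q.out hgN
  obtain ⟨θ, hθ⟩ := IsPBlock.nonempty hb
  have hnd : ¬ p ∣ (Subgroup.centralizer ({g} : Set G) ⊔ N).index := by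
    intro hd
    obtain ⟨χ, hχ, h⟩ := hclass θ hθ
    exact hg.2.2 χ hχ ((memLocalIdeal_iff_of_sub h).2 (memLocalIdeal_mul_right
      ((memLocalIdeal_natCast_iff hM _).2 hd) (memLocalRing_centralChar θ _)))
  have hidx : (Subgroup.centralizer ({g} : Set G) ⊔ N).index = 1 := by
    obtain ⟨i, -, hi⟩ := (Nat.dvd_prime_pow hM.1).1
      (hk ▸ Subgroup.index_dvd_of_le (le_sup_right :
        N ≤ Subgroup.centralizer ({g} : Set G) ⊔ N))
    cases i with
    | zero => simpa using hi
    | succ i => exact absurd (hi ▸ dvd_pow_self p (Nat.succ_ne_zero i)) hnd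
  refine ⟨?_, ?_⟩
  · let π : Subgroup.centralizer ({g} : Set G) →* G ⧸ N :=
      (QuotientGroup.mk' N).comp (Subgroup.centralizer ({g} : Set G)).subtype
    have hπ : Function.Surjective π := by
      intro z
      obtain ⟨x, rfl⟩ := QuotientGroup.mk'_surjective N z
      have hx : x ∈ ((Subgroup.centralizer ({g} : Set G) ⊔ N : Subgroup G) : Set G) := by
        rw [Subgroup.index_eq_one.1 hidx]; trivial
      rw [Subgroup.coe_mul_of_left_le_normalizer_right _ _
        (by rw [Subgroup.normalizer_eq_top_iff.2 hN]; exact le_top)] at hx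
      obtain ⟨a, ha, n, hn', rfl⟩ := hx
      refine ⟨⟨a, ha⟩, ?_⟩
      show QuotientGroup.mk' N a = QuotientGroup.mk' N (a * n)
      rw [map_mul, show QuotientGroup.mk' N n = 1 from (QuotientGroup.eq_one_iff n).2 hn', mul_one]
    have h1 : ((R : Subgroup (Subgroup.centralizer ({g} : Set G))).map π).index ∣ p ^ k := by
      rw [← hk, Subgroup.index_eq_card N]
      exact Subgroup.index_dvd_card _
    have h2 := Subgroup.index_map_dvd (H := (R : Subgroup (Subgroup.centralizer ({g} : Set G)))) hπ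
    have h3 : ((R : Subgroup (Subgroup.centralizer ({g} : Set G))).map π).index = 1 := by
      obtain ⟨i, -, hi⟩ := (Nat.dvd_prime_pow hM.1).1 h1
      cases i with
      | zero => simpa using hi
      | succ i => exact absurd (hi.symm ▸ dvd_pow_self p (Nat.succ_ne_zero i) : p ∣ ((R : Subgroup (Subgroup.centralizer ({g} : Set G))).map π).index)
                    fun hd => R.not_dvd_index (hd.trans h2)
    rw [eq_top_iff]
    intro x _
    have hx : QuotientGroup.mk' N x ∈ (R : Subgroup (Subgroup.centralizer ({g} : Set G))).map π := by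
      rw [Subgroup.index_eq_one.1 h3]; trivial
    obtain ⟨r, hr, hrx⟩ := hx
    have : (r : G)⁻¹ * x ∈ N := QuotientGroup.eq.1 hrx
    have h5 := mul_mem (Subgroup.mem_sup_right (S := N)
      (show (r : G) ∈ sylowSub R from ⟨r, hr, rfl⟩)) (Subgroup.mem_sup_left (T := sylowSub R) this)
    simpa using h5
  · refine ⟨⟨g, hgN⟩, ⟨?_, ?_, fun θ' hθ' => ?_⟩, ?_⟩
    · have h := hg.1
      rwa [hBb, subgroupBlockCoeff_of_mem b hgN] at h
    · have h := hg.2.1
      rwa [hBb, subgroupBlockCoeff_of_mem b hgN] at h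
    · obtain ⟨χ, hχ, h⟩ := hclass θ' hθ'
      rw [hidx, Nat.cast_one, one_mul] at h
      exact fun hh => hg.2.2 χ hχ ((memLocalIdeal_iff_of_sub h).2 hh)
    · have hle : (sylowSub R ⊓ N).subgroupOf N ≤
          Subgroup.centralizer ({(⟨g, hgN⟩ : N)} : Set N) := by
        intro x hx
        rw [Subgroup.mem_centralizer_singleton_iff]
        exact Subtype.ext (Subgroup.mem_centralizer_singleton_iff.1 (sylowSub_le R hx.1))
      have hp : IsPGroup p ((sylowSub R ⊓ N).subgroupOf N) :=
        ((isPGroup_sylowSub R).to_le inf_le_left).comap_of_injective N.subtype N.subtype_injective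
      obtain ⟨S, hS⟩ := (hp.of_equiv (Subgroup.subgroupOfEquivOfLe hle).symm).exists_le_sylow
      refine ⟨S, Subgroup.eq_of_le_of_card_ge ?_ ?_⟩
      · intro x hx
        exact ⟨⟨x, hle hx⟩, hS (Subgroup.mem_subgroupOf.2 hx), rfl⟩
      · set U := (sylowSub S).map N.subtype with hU
        have hUC : U ≤ Subgroup.centralizer ({g} : Set G) := by
          rintro _ ⟨x, hx, rfl⟩
          rw [Subgroup.mem_centralizer_singleton_iff]
          exact congrArg Subtype.val
            (Subgroup.mem_centralizer_singleton_iff.1 (sylowSub_le S hx))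
        obtain ⟨h, hh, hle'⟩ := exists_conj_le_sylowSub R ((isPGroup_sylowSub S).map _) hUC
        have h1 : Nat.card U ≤ Nat.card ((sylowSub R ⊓ N : Subgroup G)) := by
          rw [← card_map_conj U h]
          refine Subgroup.card_le_of_le (le_inf hle' ?_)
          rintro _ ⟨_, ⟨x, -, rfl⟩, rfl⟩
          exact hN.conj_mem _ x.2 h
        have h2 : Nat.card U = Nat.card (sylowSub S) :=
          (Nat.card_congr ((sylowSub S).equivMapOfInjective _ N.subtype_injective).toEquiv).symm
        rw [Nat.card_congr (Subgroup.subgroupOfEquivOfLe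
          (inf_le_right : sylowSub R ⊓ N ≤ N)).toEquiv]
        exact h2.symm.le.trans h1

end Cfsg.Agent.Lib.BrauerPairs
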