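import Cfsg.Agent.Lib.Blocks.Induced
import Cfsg.Agent.Lib.Blocks.SecondMain
import Cfsg.Prelude.Def_BrauerPairs

/-!
# Transport of blocks along isomorphisms and conjugation
-/

set_option autoImplicit false
set_option linter.unusedSectionVars false
set_option linter.style.haveILetI false

namespace Cfsg.Agent.Lib.BrauerPairs

open Cfsg Cfsg.Agent.Lib.Blocks Cfsg.Agent.Lib.Characters

universe u v

section Iso

variable {H : Type u} [Group H] {K : Type v} [Group K]

/-- An irreducible character moved along an isomorphism. -/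
def transIrr (e : H ≃* K) (ξ : IrrCharacter H) : IrrCharacter K :=
  ⟨(ξ : H → ℂ) ∘ e.symm, IsIrrCharacter.comp_equiv ξ.2 e.symm⟩

theorem transIrr_apply (e : H ≃* K) (ξ : IrrCharacter H) (h : H) :
    (transIrr e ξ : K → ℂ) (e h) = (ξ : H → ℂ) h :=
  congrArg (ξ : H → ℂ) (e.symm_apply_apply h)

theorem transIrr_injective (e : H ≃* K) : Function.Injective (transIrr e) := fun ξ ξ' h =>
  Subtype.ext (funext fun x => by rw [← transIrr_apply e ξ, ← transIrr_apply e ξ', h])

theorem transIrr_symm (e : H ≃* K) (η : IrrCharacter K) : transIrr e (transIrr e.symm η) = η :=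
  Subtype.ext (funext fun x => congrArg (η : K → ℂ) (e.apply_symm_apply x))

/-- A set of characters moved along an isomorphism. -/
def transBlock (e : H ≃* K) (b : Set (IrrCharacter H)) : Set (IrrCharacter K) := transIrr e '' b

theorem centralizer_map_equiv (e : H ≃* K) (h : H) :
    (Subgroup.centralizer ({h} : Set H)).map e.toMonoidHom =
      Subgroup.centralizer ({e h} : Set K) := by
  ext x
  simp only [Subgroup.mem_map, Subgroup.mem_centralizer_singleton_iff]
  refine ⟨?_, fun hx => ⟨e.symm x, e.injective ?_, e.apply_symm_apply x⟩⟩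
  · rintro ⟨y, hy, rfl⟩
    simpa using congrArg e hy
  · simpa using hx

theorem centralChar_transIrr (e : H ≃* K) (ξ : IrrCharacter H) (h : H) :
    centralChar (transIrr e ξ : K → ℂ) (e h) = centralChar (ξ : H → ℂ) h := by
  rw [centralChar, centralChar, ← centralizer_map_equiv e h]
  rw [show (1 : K) = e 1 from e.map_one.symm, transIrr_apply, transIrr_apply]
  rw [show ((Subgroup.centralizer ({h} : Set H)).map e.toMonoidHom).index =
    (Subgroup.centralizer ({h} : Set H)).index from Subgroup.index_map_equiv _ e]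

theorem isPBlock_transBlock {M : Ideal AlgInt} (e : H ≃* K) {b : Set (IrrCharacter H)}
    (hb : IsPBlock M b) : IsPBlock M (transBlock e b) := by
  obtain ⟨χ, rfl⟩ := hb
  refine ⟨transIrr e χ, Set.ext fun η => ?_⟩
  constructor
  · rintro ⟨ξ, hξ, rfl⟩ k
    obtain ⟨h, rfl⟩ := e.surjective k
    rw [centralChar_transIrr, centralChar_transIrr]
    exact hξ h
  · intro hη
    refine ⟨transIrr e.symm η, fun h => ?_, transIrr_symm e η⟩
    have := hη (e h)
    rwa [centralChar_transIrr, ← transIrr_symm e η, centralChar_transIrr] at this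

theorem blockCoeff_transBlock (e : H ≃* K) (b : Set (IrrCharacter H)) (h : H) :
    blockCoeff (transBlock e b) (e h) = blockCoeff b h := by
  rw [blockCoeff, blockCoeff, transBlock, finsum_mem_image (transIrr_injective e).injOn,
    Nat.card_congr e.toEquiv]
  congr 1
  refine finsum_mem_congr rfl fun ξ _ => ?_
  rw [show (1 : K) = e 1 from e.map_one.symm, transIrr_apply, transIrr_apply]

end Iso

/-- Equal idempotents come from equal sets. -/
theorem blockCoeff_injective {H : Type u} [Group H] [Finite H] {b b' : Set (IrrCharacter H)}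
    (h : blockCoeff b = blockCoeff b') : b = b' := by
  classical
  haveI := Fintype.ofFinite H
  ext ξ
  have h1 := omega_blockCoeff b ξ
  rw [h, omega_blockCoeff b' ξ] at h1
  by_cases h2 : ξ ∈ b <;> by_cases h3 : ξ ∈ b' <;> simp_all

section Sub

variable {G : Type u} [Group G] {K L : Subgroup G}

/-- The conjugate of a function. -/
def gconj (g : G) (β : G → ℂ) : G → ℂ := fun x => β (g⁻¹ * x * g)

theorem gconj_apply (g : G) (β : G → ℂ) (x : G) : gconj g β x = β (g⁻¹ * x * g) := rfl

theorem gconj_one (β : G → ℂ) : gconj 1 β = β := by funext x; simp [gconj]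

theorem gconj_mul (g h : G) (β : G → ℂ) : gconj (g * h) β = gconj g (gconj h β) := by
  funext x; simp only [gconj, mul_inv_rev, mul_assoc]

theorem gconj_eq_self_iff {g : G} {β : G → ℂ} :
    gconj g β = β ↔ ∀ x, β (g * x * g⁻¹) = β x := by
  constructor
  · intro h x
    conv_rhs => rw [show x = g⁻¹ * (g * x * g⁻¹) * g by group]
    exact (congrFun h (g * x * g⁻¹)).symm
  · intro h
    funext x
    rw [gconj, ← h (g⁻¹ * x * g)]
    congr 1
    group

theorem isPInv_iff_gconj {P : Subgroup G} {β : G → ℂ} :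
    IsPInv P β ↔ ∀ a ∈ P, gconj a β = β :=
  ⟨fun h a ha => gconj_eq_self_iff.2 fun x => h a ha x,
    fun h a ha => gconj_eq_self_iff.1 (h a ha)⟩

/-- Conjugation by `g` as an isomorphism `K ≃* L`. -/
def conjEquiv (g : G) (h : ∀ x, x ∈ L ↔ g⁻¹ * x * g ∈ K) : K ≃* L where
  toFun k := ⟨g * k * g⁻¹, (h _).2 (by simp [mul_assoc])⟩
  invFun l := ⟨g⁻¹ * l * g, (h _).1 l.2⟩
  left_inv k := Subtype.ext (by simp [mul_assoc])
  right_inv l := Subtype.ext (by simp [mul_assoc])
  map_mul' a b := Subtype.ext (by simp [mul_assoc])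

theorem conjEquiv_coe (g : G) (h : ∀ x, x ∈ L ↔ g⁻¹ * x * g ∈ K) (k : K) :
    ((conjEquiv g h k : L) : G) = g * k * g⁻¹ := rfl

theorem subgroupBlockCoeff_of_mem (f : Set (IrrCharacter K)) {x : G} (hx : x ∈ K) :
    subgroupBlockCoeff K f x = blockCoeff f ⟨x, hx⟩ := by
  classical
  exact dif_pos hx

theorem subgroupBlockCoeff_of_notMem (f : Set (IrrCharacter K)) {x : G} (hx : x ∉ K) :
    subgroupBlockCoeff K f x = 0 := by
  classical
  exact dif_neg hx

theorem subgroupBlockCoeff_eq_extendByZero (f : Set (IrrCharacter K)) :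
    subgroupBlockCoeff K f = extendByZero K (blockCoeff f) := by
  funext x
  by_cases hx : x ∈ K
  · rw [subgroupBlockCoeff_of_mem f hx, extendByZero_of_mem _ _ hx]
  · rw [subgroupBlockCoeff_of_notMem f hx, extendByZero_of_not_mem _ _ hx]

theorem subgroupBlockCoeff_injective [Finite G] {f f' : Set (IrrCharacter K)}
    (h : subgroupBlockCoeff K f = subgroupBlockCoeff K f') : f = f' := by
  refine blockCoeff_injective (funext fun k => ?_)
  have := congrFun h k
  rwa [subgroupBlockCoeff_of_mem f k.2, subgroupBlockCoeff_of_mem f' k.2] at this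

theorem subgroupBlockCoeff_transBlock (g : G) (h : ∀ x, x ∈ L ↔ g⁻¹ * x * g ∈ K)
    (f : Set (IrrCharacter K)) :
    subgroupBlockCoeff L (transBlock (conjEquiv g h) f) = gconj g (subgroupBlockCoeff K f) := by
  funext x
  by_cases hx : x ∈ L
  · rw [subgroupBlockCoeff_of_mem _ hx, gconj, subgroupBlockCoeff_of_mem f ((h x).1 hx)]
    have e : (⟨x, hx⟩ : L) = conjEquiv g h ⟨g⁻¹ * x * g, (h x).1 hx⟩ := by
      apply Subtype.ext
      simp [conjEquiv_coe, mul_assoc]
    rw [e, blockCoeff_transBlock]
  · rw [subgroupBlockCoeff_of_notMem _ hx, gconj,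
      subgroupBlockCoeff_of_notMem f fun h' => hx ((h x).2 h')]

theorem mem_conj_iff_of_mem_normalizer {g : G} (hg : g ∈ Subgroup.normalizer (K : Set G)) (x : G) :
    x ∈ K ↔ g⁻¹ * x * g ∈ K := by
  have h := Subgroup.mem_normalizer_iff.1 hg (g⁻¹ * x * g)
  rw [show g * (g⁻¹ * x * g) * g⁻¹ = x by group] at h
  exact h.symm

theorem stabilizesBlock_iff [Finite G] {f : Set (IrrCharacter K)} {g : G}
    (hg : g ∈ Subgroup.normalizer (K : Set G)) :
    StabilizesBlock K f g ↔ gconj g (subgroupBlockCoeff K f) = subgroupBlockCoeff K f := by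
  rw [← subgroupBlockCoeff_transBlock g (mem_conj_iff_of_mem_normalizer hg)]
  have hval : ∀ (ξ χ' : IrrCharacter K), IsConjCharOf K g (ξ : K → ℂ) (χ' : K → ℂ) ↔
      χ' = transIrr (conjEquiv g (mem_conj_iff_of_mem_normalizer hg)) ξ := by
    intro ξ χ'
    constructor
    · intro h
      refine Subtype.ext (funext fun k' => ?_)
      obtain ⟨k, rfl⟩ := (conjEquiv g (mem_conj_iff_of_mem_normalizer hg)).surjective k'
      rw [transIrr_apply]
      exact h k _ rfl
    · rintro rfl k k' hk
      rw [show k' = conjEquiv g (mem_conj_iff_of_mem_normalizer hg) k from Subtype.ext hk,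
        transIrr_apply]
  constructor
  · rintro ⟨-, h⟩
    congr 1
    haveI : Finite (IrrCharacter K) := by
      haveI := Fintype.ofFinite K
      exact finite_irrCharacter
    refine Set.eq_of_subset_of_ncard_le ?_ ?_ (Set.toFinite _)
    · rintro _ ⟨ξ, hξ, rfl⟩
      obtain ⟨χ', hχ', hc⟩ := h ξ hξ
      rwa [← (hval ξ χ').1 hc]
    · exact (Set.ncard_image_of_injective _ (transIrr_injective _)).ge
  · intro h
    refine ⟨hg, fun ξ hξ => ⟨_, ?_, (hval ξ _).2 rfl⟩⟩
    rw [← subgroupBlockCoeff_injective h]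
    exact Set.mem_image_of_mem _ hξ

theorem mem_centralizer_map_conj (Q : Subgroup G) (g x : G) :
    x ∈ Subgroup.centralizer ((Q.map (MulAut.conj g).toMonoidHom : Subgroup G) : Set G) ↔
      g⁻¹ * x * g ∈ Subgroup.centralizer (Q : Set G) := by
  rw [Subgroup.mem_centralizer_iff, Subgroup.mem_centralizer_iff]
  constructor
  · intro h q hq
    have h1 := h (g * q * g⁻¹) ⟨q, hq, rfl⟩
    have h2 := congrArg (fun t => g⁻¹ * t * g) h1
    simpa [mul_assoc] using h2
  · rintro h _ ⟨q, hq, rfl⟩
    have h2 := congrArg (fun t => g * t * g⁻¹) (h q hq)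
    simpa [mul_assoc] using h2

theorem conjBlock_eq_transBlock (Q : Subgroup G) (g : G)
    (f : Set (IrrCharacter (Subgroup.centralizer (Q : Set G)))) :
    conjBlock Q g f = transBlock (conjEquiv g (mem_centralizer_map_conj Q g)) f := by
  ext ξ'
  constructor
  · rintro ⟨ξ, hξ, h⟩
    refine ⟨ξ, hξ, Subtype.ext (funext fun c' => ?_)⟩
    obtain ⟨c, rfl⟩ := (conjEquiv g (mem_centralizer_map_conj Q g)).surjective c'
    rw [transIrr_apply]
    exact (h c _ rfl).symm
  · rintro ⟨ξ, hξ, rfl⟩
    refine ⟨ξ, hξ, fun c c' hc => ?_⟩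
    rw [show c' = conjEquiv g (mem_centralizer_map_conj Q g) c from Subtype.ext hc, transIrr_apply]

theorem subgroupBlockCoeff_conjBlock (Q : Subgroup G) (g : G)
    (f : Set (IrrCharacter (Subgroup.centralizer (Q : Set G)))) :
    subgroupBlockCoeff _ (conjBlock Q g f) = gconj g (subgroupBlockCoeff _ f) := by
  rw [conjBlock_eq_transBlock, subgroupBlockCoeff_transBlock]

theorem isPBlock_conjBlock {M : Ideal AlgInt} (Q : Subgroup G) (g : G)
    {f : Set (IrrCharacter (Subgroup.centralizer (Q : Set G)))} (hf : IsPBlock M f) :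
    IsPBlock M (conjBlock Q g f) := by
  rw [conjBlock_eq_transBlock]
  exact isPBlock_transBlock _ hf

end Sub

end Cfsg.Agent.Lib.BrauerPairs
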