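import Cfsg.Agent.Lib.BrauerPairs.PIndex
import Cfsg.Agent.Lib.BlockHeights.Extension
import Cfsg.Prelude.Def_BlockRank
import Mathlib.GroupTheory.FiniteAbelian.Duality
import Mathlib.RingTheory.RootsOfUnity.AlgebraicallyClosed

/-!
# A stable block of a normal subgroup of `p`-power index, abelian defect group
-/

set_option autoImplicit false
set_option linter.unusedSectionVars false
set_option linter.style.haveILetI false

namespace Cfsg.Agent.Lib.BrauerPairs

open Cfsg Cfsg.Agent.Lib.Blocks Cfsg.Agent.Lib.Characters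
open Cfsg.Agent.Lib.BlockHeights (exists_sum_pow_prime_pow exists_eigen_sum twistIrr twistIrr_apply
  exists_twist_of_restrict_eq irr_apply_one conj_unitsHom_mul)
open scoped ComplexConjugate

universe u

section Congr

variable {G : Type u} [Group G] [Fintype G] {M : Ideal AlgInt} [hMp : M.IsPrime] {p : ℕ}

/-- Values agree modulo `M` with those at the `p'`-part. -/
theorem char_mul_congr (hM : IsPModular p M) {χ : G → ℂ} (hχ : IsCharacter G χ) {x y : G}
    (hxy : Commute x y) {k : ℕ} (hx : orderOf x = p ^ k) :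
    MemLocalIdeal M (χ (x * y) - χ y) := by
  have hpow : (x * y) ^ p ^ k = y ^ p ^ k := by
    rw [hxy.mul_pow, ← hx, pow_orderOf_eq_one, one_mul]
  have hkey : ∀ g : G, ∃ a : AlgInt, (a : ℂ) = χ g ∧ ∃ c r : AlgInt,
      (c : ℂ) = χ (g ^ p ^ k) ∧ a ^ p ^ k = c + p * r := by
    intro g
    obtain ⟨ι, hι, μ, hμ, h⟩ := exists_eigen_sum hχ g
    have hint : ∀ i, IsIntegral ℤ (μ i) := fun i =>
      IsIntegral.of_pow (orderOf_pos g) (by rw [hμ i]; exact isIntegral_one)
    let ν : ι → AlgInt := fun i => ⟨μ i, hint i⟩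
    obtain ⟨r, hr⟩ := exists_sum_pow_prime_pow hM.1 (Finset.univ : Finset ι) ν k
    refine ⟨∑ i, ν i, ?_, ∑ i, ν i ^ p ^ k, r, ?_, hr⟩
    · simpa [ν] using (h 1).symm
    · simpa [ν] using (h (p ^ k)).symm
  obtain ⟨a, ha, c, r, hc, har⟩ := hkey (x * y)
  obtain ⟨b, hb, c', r', hc', hbr⟩ := hkey y
  have hcc : c = c' := Subtype.ext (by rw [hc, hc', hpow])
  obtain ⟨s, hs⟩ := exists_sum_pow_prime_pow hM.1 (Finset.univ : Finset Bool)
    (fun i => if i then a - b else b) k
  simp only [Fintype.sum_bool, if_true, Bool.false_eq_true, if_false, sub_add_cancel] at hs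
  have hmem : (a - b) ^ p ^ k ∈ M := by
    have e : (a - b) ^ p ^ k = (p : AlgInt) * (r - r' - s) := by
      linear_combination har - hbr + hcc - hs
    rw [e]
    exact M.mul_mem_right _ hM.2.2
  have := memLocalIdeal_coe (hMp.mem_of_pow_mem _ hmem)
  rwa [show ((a - b : AlgInt) : ℂ) = χ (x * y) - χ y by rw [← ha, ← hb]; rfl] at this

theorem memLocalRing_div_of_factorization (hM : IsPModular p M) {i d : ℕ} (hd : d ≠ 0)
    (h : d.factorization p ≤ i.factorization p) : MemLocalRing M ((i : ℂ) / (d : ℂ)) := by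
  rcases eq_or_ne i 0 with rfl | hi
  · simpa using memLocalRing_zero
  obtain ⟨i', hi'⟩ : p ^ d.factorization p ∣ i :=
    (hM.1.pow_dvd_iff_le_factorization hi).2 h
  have hd' := (Nat.ordProj_mul_ordCompl_eq_self d p).symm
  rw [show (i : ℂ) / (d : ℂ) = (i' : ℂ) * ((d / p ^ d.factorization p : ℕ) : ℂ)⁻¹ by
    conv_lhs => rw [hd', hi']
    push_cast
    rw [mul_div_mul_left _ _ (pow_ne_zero _ (Nat.cast_ne_zero.2 hM.1.ne_zero))]
    rfl]
  exact memLocalRing_mul (memLocalRing_natCast _)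
    (memLocalRing_inv_natCast hM (Nat.not_dvd_ordCompl hM.1 hd))

/-- With an abelian defect group `P`, no member of the block vanishes on all of `x g₀`. -/
theorem exists_regular_nonvanishing (hM : IsPModular p M) {B : Set (IrrCharacter G)}
    (hB : IsPBlock M B) {P : Subgroup G} (hPD : IsDefectGroup p M B P)
    (hPab : ∀ x ∈ P, ∀ y ∈ P, x * y = y * x) :
    ∃ g₀ : G, ¬ p ∣ orderOf g₀ ∧ ∀ x ∈ P, ∀ χ ∈ B, (χ : G → ℂ) (x * g₀) ≠ 0 := by
  classical
  haveI := Fact.mk hM.1
  have hPp : IsPGroup p P := IsDefectGroup.isPGroup hPD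
  obtain ⟨g₀, hg, S, hS⟩ := hPD
  have hreg : ¬ p ∣ orderOf g₀ := fun h => hg.2.1 (by
    rw [blockCoeff_eq_zero_of_dvd hM hB h]; exact memLocalIdeal_zero)
  refine ⟨g₀, hreg, fun x hx χ hχ h0 => ?_⟩
  have hPC : P ≤ Subgroup.centralizer ({g₀} : Set G) := hS ▸ sylowSub_le S
  have hcomm : Commute x g₀ := Subgroup.mem_centralizer_singleton_iff.1 (hPC hx)
  obtain ⟨k, hk⟩ := IsPGroup.iff_orderOf.1 hPp ⟨x, hx⟩
  rw [Subgroup.orderOf_mk] at hk
  have hle : Subgroup.centralizer ({x * g₀} : Set G) ≤ Subgroup.centralizer ({g₀} : Set G) := by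
    intro c hc
    obtain ⟨m, hm⟩ := exists_pow_eq_self_of_coprime (x := g₀)
      ((hM.1.coprime_iff_not_dvd.2 hreg).pow_left k)
    have hpow : (x * g₀) ^ (p ^ k * m) = g₀ := by
      rw [hcomm.mul_pow, pow_mul, ← hk, pow_orderOf_eq_one, one_pow, one_mul, hk, pow_mul, hm]
    rw [Subgroup.mem_centralizer_singleton_iff] at hc ⊢
    have : Commute c (x * g₀) := hc
    have h2 := this.pow_right (p ^ k * m)
    rw [hpow] at h2
    exact h2
  have hPle : P ≤ Subgroup.centralizer ({x * g₀} : Set G) := fun a ha => by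
    rw [Subgroup.mem_centralizer_singleton_iff]
    have h1 : Commute a x := hPab a ha x hx
    exact h1.mul_right (Subgroup.mem_centralizer_singleton_iff.1 (hPC ha))
  have hr : ¬ p ∣ (Subgroup.centralizer ({x * g₀} : Set G)).relIndex (Subgroup.centralizer ({g₀} : Set G)) := by
    intro hd
    have h1 : Nat.card P ∣ Nat.card (Subgroup.centralizer ({x * g₀} : Set G)) := Subgroup.card_dvd_of_le hPle
    have h2 : Nat.card (Subgroup.centralizer ({x * g₀} : Set G)) * (Subgroup.centralizer ({x * g₀} : Set G)).relIndex (Subgroup.centralizer ({g₀} : Set G)) = Nat.card (Subgroup.centralizer ({g₀} : Set G)) := by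
      rw [← Subgroup.relIndex_bot_left, ← Subgroup.relIndex_bot_left,
        Subgroup.relIndex_mul_relIndex _ _ _ bot_le hle]
    have h3 : p ^ ((Nat.card (Subgroup.centralizer ({g₀} : Set G))).factorization p + 1) ∣ Nat.card (Subgroup.centralizer ({g₀} : Set G)) := by
      rw [pow_succ]
      conv_rhs => rw [← h2]
      refine mul_dvd_mul ?_ hd
      rw [← card_sylowSub S, show sylowSub S = P from hS.symm]
      exact h1
    exact Nat.pow_succ_factorization_not_dvd Nat.card_pos.ne' hM.1 h3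
  have hidx : (Subgroup.centralizer ({x * g₀} : Set G)).index = (Subgroup.centralizer ({x * g₀} : Set G)).relIndex (Subgroup.centralizer ({g₀} : Set G)) * (Subgroup.centralizer ({g₀} : Set G)).index := (Subgroup.relIndex_mul_index hle).symm
  obtain ⟨ψ, hψ, hψ0⟩ := exists_blockHeight_eq_zero (p := p) hB
  have hdeg := factorization_degree_of_height_zero hM hB hg hψ hψ0
  have hlr : MemLocalRing M (((Subgroup.centralizer ({g₀} : Set G)).index : ℂ) / (ψ : G → ℂ) 1) := by
    rw [irr_apply_one]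
    exact memLocalRing_div_of_factorization hM (charDegree_pos ψ).ne' hdeg.le
  have h1 : MemLocalIdeal M
      (centralChar (ψ : G → ℂ) (x * g₀) - ((Subgroup.centralizer ({x * g₀} : Set G)).relIndex (Subgroup.centralizer ({g₀} : Set G)) : ℂ) * centralChar (ψ : G → ℂ) g₀) := by
    have hval := memLocalIdeal_mul_left
      (memLocalRing_mul (memLocalRing_natCast ((Subgroup.centralizer ({x * g₀} : Set G)).relIndex (Subgroup.centralizer ({g₀} : Set G)))) hlr)
      (char_mul_congr hM (irr_isCharacter ψ) hcomm hk)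
    convert hval using 1
    rw [centralChar, centralChar, hidx]
    push_cast
    ring
  have h2 : ¬ MemLocalIdeal M (((Subgroup.centralizer ({x * g₀} : Set G)).relIndex (Subgroup.centralizer ({g₀} : Set G)) : ℂ) * centralChar (ψ : G → ℂ) g₀) :=
    not_memLocalIdeal_mul (memLocalRing_natCast _) (memLocalRing_centralChar ψ _)
      (by rwa [memLocalIdeal_natCast_iff hM]) (hg.2.2 ψ hψ)
  have h3 := IsPBlock.sameBlock hB hψ hχ (x * g₀)
  rw [show centralChar (χ : G → ℂ) (x * g₀) = 0 by simp [centralChar, h0], sub_zero] at h3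
  exact h2 ((memLocalIdeal_iff_of_sub h1).1 h3)

end Congr

section Twist

variable {G : Type u} [Group G] [Fintype G]

/-- The linear characters trivial on `N`. -/
abbrev LinOver (N : Subgroup G) : Type u := {lam : G →* ℂˣ // ∀ n ∈ N, lam n = 1}

variable (N : Subgroup G) [hN : N.Normal]

/-- They are the duals of the quotient. -/
noncomputable def linOverEquiv : LinOver N ≃ (G ⧸ N →* ℂˣ) where
  toFun lam := QuotientGroup.lift N lam.1 fun n hn => lam.2 n hn
  invFun φ := ⟨φ.comp (QuotientGroup.mk' N), fun n hn => by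
    simp [(QuotientGroup.eq_one_iff n).2 hn]⟩
  left_inv lam := Subtype.ext (MonoidHom.ext fun g => rfl)
  right_inv φ := MonoidHom.ext fun q => by
    obtain ⟨g, rfl⟩ := QuotientGroup.mk_surjective q
    rfl

theorem card_linOver (hab : ∀ a b : G ⧸ N, a * b = b * a) :
    Nat.card (LinOver N) = N.index := by
  classical
  letI : CommGroup (G ⧸ N) := { (inferInstance : Group (G ⧸ N)) with mul_comm := hab }
  rw [Nat.card_congr (linOverEquiv N), Subgroup.index_eq_card]
  exact CommGroup.card_monoidHom_of_hasEnoughRootsOfUnity (G ⧸ N) ℂ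

theorem exists_linOver_ne_one (hab : ∀ a b : G ⧸ N, a * b = b * a) {g : G} (hg : g ∉ N) :
    ∃ lam : LinOver N, lam.1 g ≠ 1 := by
  classical
  letI : CommGroup (G ⧸ N) := { (inferInstance : Group (G ⧸ N)) with mul_comm := hab }
  obtain ⟨φ, hφ⟩ := CommGroup.exists_apply_ne_one_of_hasEnoughRootsOfUnity (G ⧸ N) ℂ
    (a := (g : G ⧸ N)) (fun h => hg ((QuotientGroup.eq_one_iff g).1 h))
  exact ⟨(linOverEquiv N).symm φ, hφ⟩

variable [Fintype N]

/-- A character fixed by no nontrivial twist restricts irreducibly. -/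
theorem isIrr_restrict_of_free (hab : ∀ a b : G ⧸ N, a * b = b * a) (χ : IrrCharacter G)
    (hfree : ∀ lam : LinOver N, twistIrr χ lam.1 = χ → lam.1 = 1) :
    IsIrrCharacter N (fun n : N => (χ : G → ℂ) n) := by
  classical
  haveI : Finite (LinOver N) := Finite.of_equiv _ (linOverEquiv N).symm
  haveI := Fintype.ofFinite (LinOver N)
  rw [IsCharacter.isIrr_iff (IsCharacter.restrict (irr_isCharacter χ) N)]
  set q : G → ℂ := fun g => (χ : G → ℂ) g * conj ((χ : G → ℂ) g) with hq
  have hS : ∀ g : G, (∑ lam : LinOver N, (lam.1 g : ℂ)) =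
      if g ∈ N then (N.index : ℂ) else 0 := by
    intro g
    split_ifs with hg
    · rw [Finset.sum_congr rfl fun lam _ => show ((lam.1 g : ℂˣ) : ℂ) = 1 by rw [lam.2 g hg]; rfl,
        Finset.sum_const, Finset.card_univ, ← Nat.card_eq_fintype_card, card_linOver N hab,
        nsmul_eq_mul, mul_one]
    · obtain ⟨μ, hμ⟩ := exists_linOver_ne_one N hab hg
      set S := ∑ lam : LinOver N, (lam.1 g : ℂ)
      have hmul : (μ.1 g : ℂ) * S = S := by
        rw [Finset.mul_sum]
        refine Fintype.sum_equiv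
          { toFun := fun lam => ⟨μ.1 * lam.1, fun n hn => by simp [μ.2 n hn, lam.2 n hn]⟩
            invFun := fun lam => ⟨μ.1⁻¹ * lam.1, fun n hn => by simp [μ.2 n hn, lam.2 n hn]⟩
            left_inv := fun lam => Subtype.ext (inv_mul_cancel_left μ.1 lam.1)
            right_inv := fun lam => Subtype.ext (mul_inv_cancel_left μ.1 lam.1) } _ _ fun lam => ?_
        simp
      rcases mul_eq_zero.1 (show ((μ.1 g : ℂ) - 1) * S = 0 by rw [sub_mul, hmul, one_mul, sub_self])
        with h | h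
      · exact absurd (Units.ext (sub_eq_zero.1 h)) hμ
      · exact h
  have h1 : ∑ g : G, q g * ∑ lam : LinOver N, (lam.1 g : ℂ) = (Nat.card G : ℂ) := by
    simp only [Finset.mul_sum]
    rw [Finset.sum_comm]
    have hterm : ∀ lam : LinOver N, ∑ g : G, q g * (lam.1 g : ℂ) =
        (Nat.card G : ℂ) * (if lam.1 = 1 then 1 else 0) := by
      intro lam
      have h := classInner_irr (twistIrr χ lam.1) χ
      rw [classInner] at h
      have hG : (Nat.card G : ℂ) ≠ 0 := Nat.cast_ne_zero.2 Nat.card_pos.ne'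
      rw [inv_mul_eq_iff_eq_mul₀ hG] at h
      convert h using 2 with g
      · simp only [hq, twistIrr_apply]; ring
      · by_cases hl : lam.1 = 1
        · rw [if_pos hl, if_pos]
          exact Subtype.ext (funext fun g => by simp [twistIrr_apply, hl])
        · rw [if_neg hl, if_neg fun e => hl (hfree lam e)]
    rw [Finset.sum_congr rfl fun lam _ => hterm lam, ← Finset.mul_sum,
      Finset.sum_eq_single (⟨1, fun _ _ => rfl⟩ : LinOver N)]
    · simp
    · intro lam _ hne
      rw [if_neg fun e => hne (Subtype.ext e)]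
    · simp
  simp only [hS, mul_ite, mul_zero] at h1
  rw [← Finset.sum_filter, ← Finset.sum_mul,
    Finset.sum_subtype (p := fun g => g ∈ N) _ (fun g => by simp) q] at h1
  have hidx : (N.index : ℂ) ≠ 0 := Nat.cast_ne_zero.2 Subgroup.index_ne_zero_of_finite
  rw [← N.card_mul_index, Nat.cast_mul] at h1
  have h2 := mul_right_cancel₀ hidx h1
  rw [classInner]
  show (Nat.card N : ℂ)⁻¹ * ∑ n : N, q n = 1
  rw [h2, inv_mul_cancel₀ (Nat.cast_ne_zero.2 Nat.card_pos.ne')]

end Twist

variable {G : Type u} [Group G] [Fintype G] {M : Ideal AlgInt} [hMp : M.IsPrime] {p : ℕ}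
  {N : Subgroup G} [hN : N.Normal] [Fintype N]

/-- S4640. -/
theorem stable_abelian (hM : IsPModular p M) {k : ℕ} (hk : N.index = p ^ k)
    {b : Set (IrrCharacter N)} (hb : IsPBlock M b) (hst : ∀ g : G, StabilizesBlock N b g)
    {B : Set (IrrCharacter G)} (hB : IsPBlock M B)
    (hcov : ∃ χ ∈ B, ∃ θ ∈ b, classInner (fun n : N => (χ : G → ℂ) n) (θ : N → ℂ) ≠ 0)
    {P : Subgroup G} (hPD : IsDefectGroup p M B P) (hPab : ∀ x ∈ P, ∀ y ∈ P, x * y = y * x) :
    N ⊔ P = ⊤ ∧ IsDefectGroup p M b ((P ⊓ N).subgroupOf N) ∧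
      (∀ χ ∈ B, ∃ θ ∈ b, ∀ n : N, (χ : G → ℂ) n = (θ : N → ℂ) n) ∧
      (∀ θ ∈ b, Nat.card {χ : IrrCharacter G //
          χ ∈ B ∧ ∀ n : N, (χ : G → ℂ) n = (θ : N → ℂ) n} = N.index) ∧
      Nat.card B = N.index * Nat.card b ∧ blockRank p B = blockRank p b := by
  classical
  obtain ⟨B₀, hB₀, hB₀b⟩ := exists_block_of_stable hM hk hb hst
  have hres : resFun N (blockCoeff B₀) = blockCoeff b := funext fun n => by
    rw [resFun, hB₀b, subgroupBlockCoeff_of_mem b n.2]
  have hiff : ∀ (χ : IrrCharacter G) (θ : IrrCharacter N),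
      classInner (fun n : N => (χ : G → ℂ) n) (θ : N → ℂ) ≠ 0 → (χ ∈ B₀ ↔ θ ∈ b) := by
    intro χ θ h
    have h1 := omega_eq_of_constituent N h (isClassFunction_blockCoeff B₀)
      (fun x hx => by rw [hB₀b, subgroupBlockCoeff_of_notMem b hx])
    rw [hres, omega_blockCoeff, omega_blockCoeff] at h1
    by_cases h2 : χ ∈ B₀ <;> by_cases h3 : θ ∈ b <;> simp_all
  have hBB : B = B₀ := by
    obtain ⟨χ, hχ, θ, hθ, h⟩ := hcov
    exact IsPBlock.eq_of_mem hB hB₀ hχ ((hiff χ θ h).2 hθ)
  subst hBB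
  obtain ⟨hNP, hdef⟩ := defectGroup_of_stable hM hk hb hst hB hB₀b hPD
  have hdecomp : ∀ g : G, ∃ n ∈ N, ∃ x ∈ P, n * x = g := fun g =>
    Subgroup.mem_sup_of_normal_left.1 (hNP ▸ Subgroup.mem_top g)
  have hab : ∀ a b : G ⧸ N, a * b = b * a := by
    have hsurj : ∀ a : G ⧸ N, ∃ x ∈ P, (x : G ⧸ N) = a := by
      intro a
      obtain ⟨g, rfl⟩ := QuotientGroup.mk_surjective a
      obtain ⟨n, hn, x, hx, rfl⟩ := hdecomp g
      exact ⟨x, hx, by rw [QuotientGroup.mk_mul, (QuotientGroup.eq_one_iff n).2 hn, one_mul]⟩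
    intro a c
    obtain ⟨x, hx, rfl⟩ := hsurj a
    obtain ⟨y, hy, rfl⟩ := hsurj c
    rw [← QuotientGroup.mk_mul, ← QuotientGroup.mk_mul, hPab x hx y hy]
  obtain ⟨g₀, hg₀, hne⟩ := exists_regular_nonvanishing hM hB hPD hPab
  have hg₀N : g₀ ∈ N := mem_of_index_eq_pow hM.1 N hk hg₀
  have hfree : ∀ χ ∈ B, ∀ lam : LinOver N, twistIrr χ lam.1 = χ → lam.1 = 1 := by
    intro χ hχ lam he
    refine MonoidHom.ext fun g => ?_
    obtain ⟨n, hn, x, hx, rfl⟩ := hdecomp g
    have h1 := congrFun (congrArg Subtype.val he) (x * g₀)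
    change (χ : G → ℂ) (x * g₀) * ((lam.1 (x * g₀) : ℂˣ) : ℂ) = (χ : G → ℂ) (x * g₀) at h1
    rw [map_mul, lam.2 g₀ hg₀N, mul_one] at h1
    rw [map_mul, lam.2 n hn, one_mul, MonoidHom.one_apply]
    exact Units.ext (mul_left_cancel₀ (hne x hx χ hχ) (h1.trans (mul_one _).symm))
  have hirr : ∀ χ ∈ B, IsIrrCharacter N (fun n : N => (χ : G → ℂ) n) := fun χ hχ =>
    isIrr_restrict_of_free N hab χ (hfree χ hχ)
  have hR : ∀ χ ∈ B, ∃ θ ∈ b, ∀ n : N, (χ : G → ℂ) n = (θ : N → ℂ) n := fun χ hχ => by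
    refine ⟨⟨_, hirr χ hχ⟩, (hiff χ _ ?_).1 hχ, fun n => rfl⟩
    show classInner (fun n : N => (χ : G → ℂ) n) (fun n : N => (χ : G → ℂ) n) ≠ 0
    rw [IsIrrCharacter.classInner_self (hirr χ hχ)]
    exact one_ne_zero
  have hExt : ∀ θ ∈ b, ∃ χ ∈ B, ∀ n : N, (χ : G → ℂ) n = (θ : N → ℂ) n := fun θ hθ => by
    obtain ⟨χ, h⟩ := exists_over N θ
    have hχ := (hiff χ θ h).2 hθ
    refine ⟨χ, hχ, fun n => ?_⟩
    by_contra hne'
    refine h (IsIrrCharacter.classInner_ne (hirr χ hχ) θ.2 fun e => hne' (congrFun e n))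
  have hcount : ∀ θ ∈ b, Nat.card {χ : IrrCharacter G //
      χ ∈ B ∧ ∀ n : N, (χ : G → ℂ) n = (θ : N → ℂ) n} = N.index := by
    intro θ hθ
    obtain ⟨χ₀, hχ₀, hχ₀θ⟩ := hExt θ hθ
    have hmem : ∀ lam : LinOver N, twistIrr χ₀ lam.1 ∈ B ∧
        ∀ n : N, (twistIrr χ₀ lam.1 : G → ℂ) n = (θ : N → ℂ) n := by
      intro lam
      have e : ∀ n : N, (twistIrr χ₀ lam.1 : G → ℂ) n = (θ : N → ℂ) n := fun n => by
        rw [twistIrr_apply, lam.2 n n.2, Units.val_one, mul_one, hχ₀θ]
      refine ⟨(hiff _ θ ?_).2 hθ, e⟩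
      rw [funext e, IsIrrCharacter.classInner_self θ.2]
      exact one_ne_zero
    rw [← card_linOver N hab]
    refine (Nat.card_congr (Equiv.ofBijective
      (fun lam : LinOver N => (⟨twistIrr χ₀ lam.1, hmem lam⟩ : {χ : IrrCharacter G //
        χ ∈ B ∧ ∀ n : N, (χ : G → ℂ) n = (θ : N → ℂ) n})) ⟨?_, ?_⟩)).symm
    · intro lam μ h
      have h' : twistIrr χ₀ lam.1 = twistIrr χ₀ μ.1 := congrArg Subtype.val h
      have h1 := hfree χ₀ hχ₀ ⟨lam.1 * μ.1⁻¹, fun n hn => by simp [lam.2 n hn, μ.2 n hn]⟩ ?_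
      · exact Subtype.ext (mul_inv_eq_one.1 h1)
      refine Subtype.ext (funext fun g => ?_)
      have h2 := congrFun (congrArg Subtype.val h') g
      show (χ₀ : G → ℂ) g * (((lam.1 * μ.1⁻¹) g : ℂˣ) : ℂ) = _
      change (χ₀ : G → ℂ) g * ((lam.1 g : ℂˣ) : ℂ) = (χ₀ : G → ℂ) g * ((μ.1 g : ℂˣ) : ℂ) at h2
      rw [MonoidHom.mul_apply, MonoidHom.inv_apply, Units.val_mul, ← mul_assoc, h2, mul_assoc,
        ← Units.val_mul, mul_inv_cancel, Units.val_one, mul_one]
    · rintro ⟨χ, hχ, hχθ⟩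
      obtain ⟨lam, hlam, he⟩ := exists_twist_of_restrict_eq N θ.2 hχ₀θ hχθ
      exact ⟨⟨lam, hlam⟩, Subtype.ext he⟩
  refine ⟨hNP, hdef, hR, hcount, ?_, ?_⟩
  · haveI : Finite (IrrCharacter G) := inferInstance
    haveI := Fintype.ofFinite b
    let e : B ≃ Σ θ : b, {χ : IrrCharacter G //
        χ ∈ B ∧ ∀ n : N, (χ : G → ℂ) n = ((θ : IrrCharacter N) : N → ℂ) n} :=
      { toFun := fun χ => ⟨⟨(hR χ χ.2).choose, (hR χ χ.2).choose_spec.1⟩,
          ⟨χ, χ.2, (hR χ χ.2).choose_spec.2⟩⟩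
        invFun := fun s => ⟨s.2.1, s.2.2.1⟩
        left_inv := fun _ => rfl
        right_inv := fun ⟨θ, χ, hχ, hχθ⟩ => by
          have e : (⟨(hR χ hχ).choose, (hR χ hχ).choose_spec.1⟩ : b) = θ :=
            Subtype.ext (Subtype.ext (funext fun n =>
              ((hR χ hχ).choose_spec.2 n).symm.trans (hχθ n)))
          subst e
          rfl }
    rw [Nat.card_congr e, Nat.card_sigma, Finset.sum_congr rfl fun θ _ => hcount θ.1 θ.2,
      Finset.sum_const, Finset.card_univ, ← Nat.card_eq_fintype_card, smul_eq_mul, mul_comm]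
  · let L : (N → ℂ) →ₗ[ℂ] (G → ℂ) :=
      { toFun := extendByZero N
        map_add' := fun f f' => by
          funext x
          by_cases hx : x ∈ N
          · simp [extendByZero_of_mem _ _ hx]
          · simp [extendByZero_of_not_mem _ _ hx]
        map_smul' := fun c f => by
          funext x
          by_cases hx : x ∈ N
          · simp [extendByZero_of_mem _ _ hx]
          · simp [extendByZero_of_not_mem _ _ hx] }
    have hL : Function.Injective L := fun f f' h => by
      have := congrArg (resFun N) h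
      change resFun N (extendByZero N f) = resFun N (extendByZero N f') at this
      rwa [resFun_extendByZero, resFun_extendByZero] at this
    have hval : ∀ (χ : IrrCharacter G) (θ : IrrCharacter N),
        (∀ n : N, (χ : G → ℂ) n = (θ : N → ℂ) n) →
          pRegularPart p (χ : G → ℂ) = L (pRegularPart p (θ : N → ℂ)) := by
      intro χ θ h
      funext x
      show _ = extendByZero N _ x
      by_cases hx : x ∈ N
      · rw [extendByZero_of_mem _ _ hx]
        have hord : IsPRegular p (⟨x, hx⟩ : N) ↔ IsPRegular p x := by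
          simp only [IsPRegular, Subgroup.orderOf_mk]
        simp only [pRegularPart]
        split_ifs with h1 h2 h2
        · exact h ⟨x, hx⟩
        · exact absurd (hord.2 h1) h2
        · exact absurd (hord.1 h2) h1
        · rfl
      · rw [extendByZero_of_not_mem _ _ hx]
        simp only [pRegularPart]
        split_ifs with h1
        · exact absurd (mem_of_index_eq_pow hM.1 N hk h1) hx
        · rfl
    have himg : ((fun χ : IrrCharacter G => pRegularPart p (χ : G → ℂ)) '' B) =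
        L '' ((fun θ : IrrCharacter N => pRegularPart p (θ : N → ℂ)) '' b) := by
      ext F
      constructor
      · rintro ⟨χ, hχ, rfl⟩
        obtain ⟨θ, hθ, h⟩ := hR χ hχ
        exact ⟨_, ⟨θ, hθ, rfl⟩, (hval χ θ h).symm⟩
      · rintro ⟨_, ⟨θ, hθ, rfl⟩, rfl⟩
        obtain ⟨χ, hχ, h⟩ := hExt θ hθ
        exact ⟨χ, hχ, hval χ θ h⟩
    rw [blockRank, blockRank, himg, Submodule.span_image]
    exact (Submodule.equivMapOfInjective L hL _).finrank_eq.symm

end Cfsg.Agent.Lib.BrauerPairs
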