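import Cfsg.Agent.Lib.BrauerPairs.Inertial
import Cfsg.Agent.Lib.Blocks.MainTheorems

/-!
# Brauer correspondence over a subgroup containing the normaliser
-/

set_option autoImplicit false
set_option linter.unusedSectionVars false
set_option linter.style.haveILetI false

namespace Cfsg.Agent.Lib.BrauerPairs

open Cfsg Cfsg.Agent.Lib.Blocks Cfsg.Agent.Lib.Characters

universe u

section General

variable {H : Type u} [Group H] [Fintype H] {M : Ideal AlgInt} [hMp : M.IsPrime] {p : ℕ}

theorem conv_sub_left (a b c : H → ℂ) : conv (a - b) c = conv a c - conv b c := by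
  funext y
  simp [conv, sub_mul, Finset.sum_sub_distrib]

theorem conv_sub_right (a b c : H → ℂ) : conv a (b - c) = conv a b - conv a c := by
  funext y
  simp [conv, mul_sub, Finset.sum_sub_distrib]

/-- A central idempotent modulo `M` minus a product with another one. -/
theorem memLocalIdeal_sub_conv (hM : IsPModular p M) {b b' : H → ℂ} (hb : IsRCentral M b)
    (hb' : IsRCentral M b') (hbb : ∀ y, MemLocalIdeal M (b y - conv b b y))
    (hbb' : ∀ y, MemLocalIdeal M (b' y - conv b' b' y))
    (hω : ∀ ζ : IrrCharacter H,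
      MemLocalIdeal M (omega (ζ : H → ℂ) b - omega (ζ : H → ℂ) b')) (y : H) :
    MemLocalIdeal M (b y - conv b b' y) := by
  set c := conv b b' with hc
  have hcR : IsRCentral M c := hb.conv hb'
  have hzero : ∀ {f : H → ℂ} (z : H), MemLocalIdeal M (f z - f z) := fun z => by
    rw [sub_self]; exact memLocalIdeal_zero
  have hcb : ∀ z, MemLocalIdeal M (c z - conv c b z) := fun z => by
    rw [conv_comm (f := c) b hcR.1, show conv b c = conv (conv b b) b' from
      (conv_assoc hb.1 hb.1 hb'.1).symm]
    exact memLocalIdeal_conv_congr hb.2 hb'.2 hbb hzero z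
  have hcb' : ∀ z, MemLocalIdeal M (c z - conv c b' z) := fun z => by
    rw [show conv c b' = conv b (conv b' b') from conv_assoc hb.1 hb'.1 hb'.1]
    exact memLocalIdeal_conv_congr hb.2 (hb'.conv hb').2 hzero hbb' z
  have hcc : ∀ z, MemLocalIdeal M (c z - conv c c z) := fun z => by
    have h1 : MemLocalIdeal M (conv c b' z - conv (conv c b) b' z) :=
      memLocalIdeal_conv_congr hcR.2 hb'.2 hcb hzero z
    rw [show conv (conv c b) b' = conv c c from conv_assoc hcR.1 hb.1 hb'.1] at h1
    simpa using memLocalIdeal_add (hcb' z) h1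
  refine memLocalIdeal_of_idem hM (hb.sub hcR) (fun z => ?_) (fun ζ => ?_) y
  · rw [conv_sub_left, conv_sub_right, conv_sub_right, ← conv_comm (f := c) b hcR.1]
    convert memLocalIdeal_sub (memLocalIdeal_add (memLocalIdeal_sub (hbb z) (hcb z))
      (hcc z)) (hcb z) using 1
    simp only [Pi.sub_apply]
    ring
  · rw [omega_sub, hc, omega_conv ζ.2 hb.1]
    have h1 : MemLocalIdeal M (omega (ζ : H → ℂ) (b - conv b b)) :=
      memLocalIdeal_omega_of_forall (hb.sub (hb.conv hb)) hbb ζ
    rw [omega_sub, omega_conv ζ.2 hb.1] at h1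
    convert memLocalIdeal_add h1 (memLocalIdeal_mul_left (memLocalRing_omega hb ζ) (hω ζ)) using 1
    ring

/-- Central idempotents modulo `M` with congruent central characters are congruent. -/
theorem memLocalIdeal_sub_of_omega (hM : IsPModular p M) {b b' : H → ℂ} (hb : IsRCentral M b)
    (hb' : IsRCentral M b') (hbb : ∀ y, MemLocalIdeal M (b y - conv b b y))
    (hbb' : ∀ y, MemLocalIdeal M (b' y - conv b' b' y))
    (hω : ∀ ζ : IrrCharacter H,
      MemLocalIdeal M (omega (ζ : H → ℂ) b - omega (ζ : H → ℂ) b')) (y : H) :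
    MemLocalIdeal M (b y - b' y) := by
  have h1 := memLocalIdeal_sub_conv hM hb hb' hbb hbb' hω y
  have h2 := memLocalIdeal_sub_conv hM hb' hb hbb' hbb (fun ζ => by
    simpa using memLocalIdeal_neg (hω ζ)) y
  rw [conv_comm (f := b') b hb'.1] at h2
  simpa using memLocalIdeal_sub h1 h2

end General

variable {G : Type u} [Group G] [Fintype G] {M : Ideal AlgInt} [hMp : M.IsPrime] {p : ℕ}
  {P : Subgroup G}

theorem isDefectGroup_isPGroup_subgroupOf {H : Subgroup G} (hP : IsPGroup p P) :
    IsPGroup p (P.subgroupOf H) :=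
  hP.comap_of_injective H.subtype H.subtype_injective

/-- Two blocks with defect group `P` with congruent Brauer images at `P` are equal. -/
theorem eq_of_congr_centralizer (hM : IsPModular p M) {B B' : Set (IrrCharacter G)}
    (hB : IsPBlock M B) (hD : IsDefectGroup p M B P) (hB' : IsPBlock M B')
    (h : ∀ x ∈ Subgroup.centralizer (P : Set G),
      MemLocalIdeal M (blockCoeff B x - blockCoeff B' x)) : B = B' := by
  classical
  haveI := Fact.mk hM.1
  by_contra hne
  have hP : IsPGroup p P := IsDefectGroup.isPGroup hD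
  obtain ⟨g, hg, S, hS⟩ := hD
  have hgC : g ∈ Subgroup.centralizer (P : Set G) := hS ▸ mem_centralizer_sylowSub S
  have he := isRCentral_blockCoeff hM hB
  have he' := isRCentral_blockCoeff hM hB'
  have hI := isPInv_of_isClassFunction P he.1
  have h1 := trunc_conv_congr hM P hP he.2 he'.2 hI (isPInv_of_isClassFunction P he'.1) g
  have h2 := trunc_conv_congr hM P hP he.2 he.2 hI hI g
  rw [conv_blockCoeff_eq_zero hB hB' hne, trunc_of_mem hgC] at h1
  rw [blockCoeff_conv_self, trunc_of_mem hgC] at h2
  have h3 : MemLocalIdeal M (conv (trunc P (blockCoeff B)) (trunc P (blockCoeff B)) g -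
      conv (trunc P (blockCoeff B)) (trunc P (blockCoeff B')) g) := by
    refine memLocalIdeal_conv_congr (memLocalRing_trunc he.2) (memLocalRing_trunc he'.2)
      (fun z => by rw [sub_self]; exact memLocalIdeal_zero) (fun z => ?_) g
    by_cases hz : z ∈ Subgroup.centralizer (P : Set G)
    · rw [trunc_of_mem hz, trunc_of_mem hz]; exact h z hz
    · rw [trunc_of_notMem hz, trunc_of_notMem hz, sub_self]; exact memLocalIdeal_zero
  refine hg.2.1 ?_
  convert memLocalIdeal_sub (memLocalIdeal_add h2 h3) h1 using 1
  rw [Pi.zero_apply]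
  ring

/-- The Brauer correspondent in `N(P)`. -/
theorem exists_correspondent_normalizer (hM : IsPModular p M)
    [Fintype (Subgroup.normalizer (P : Set G))] {B : Set (IrrCharacter G)} (hB : IsPBlock M B)
    (hD : IsDefectGroup p M B P) :
    ∃ b : Set (IrrCharacter (Subgroup.normalizer (P : Set G))),
      IsInducedBlock M (Subgroup.normalizer (P : Set G)) b B ∧
      IsDefectGroup p M b (P.subgroupOf (Subgroup.normalizer (P : Set G))) ∧
      ∀ x ∈ Subgroup.centralizer (P : Set G), MemLocalIdeal M
        (blockCoeff B x - subgroupBlockCoeff (Subgroup.normalizer (P : Set G)) b x) := by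
  classical
  haveI := Fact.mk hM.1
  have hPN : P ≤ Subgroup.normalizer (P : Set G) := Subgroup.le_normalizer
  have hCN := centralizer_le_normalizer' P
  have hP : IsPGroup p P := IsDefectGroup.isPGroup hD
  obtain ⟨b, hb⟩ := exists_isInducedBlock hM hP hPN hCN le_rfl hB hD (x := 1) (by rintro _ ⟨z, hz, rfl⟩; simpa using hz)
  have hbD := isDefectGroup_of_isInducedBlock hM hPN le_rfl hb hD
  refine ⟨b, hb, hbD, fun x hx => ?_⟩
  haveI := subgroupOf_normal_of_le_normalizer (P := P) (le_refl (Subgroup.normalizer (P : Set G)))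
  have he := isRCentral_blockCoeff hM hB
  have heb := isRCentral_blockCoeff hM hb.1
  set F := resFun (Subgroup.normalizer (P : Set G)) (trunc P (blockCoeff B)) with hFdef
  have hF : IsRCentral M F := by
    refine ⟨?_, fun y => memLocalRing_trunc he.2 _⟩
    rw [hFdef, resFun_trunc hPN]
    exact isClassFunction_trunc_of_normal (isRCentral_resFun _ he).1
  have hFF : ∀ y, MemLocalIdeal M (F y - conv F F y) := fun y => by
    have h1 := trunc_conv_congr hM P hP he.2 he.2 (isPInv_of_isClassFunction P he.1)
      (isPInv_of_isClassFunction P he.1) (y : G)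
    rw [blockCoeff_conv_self] at h1
    rw [hFdef, conv_resFun hCN]
    exact h1
  have hω : ∀ ξ : IrrCharacter (Subgroup.normalizer (P : Set G)), MemLocalIdeal M
      (omega (ξ : Subgroup.normalizer (P : Set G) → ℂ) F -
        omega (ξ : Subgroup.normalizer (P : Set G) → ℂ) (blockCoeff b)) := by
    intro ξ
    have h0 := omega_resFun_trunc_congr hM hP hPN le_rfl ξ he
    rw [omega_blockCoeff]
    obtain ⟨ψ, hψ⟩ := exists_induced_char hM hP hPN hCN le_rfl ξ
    have h1 := hψ _ he
    rw [omega_blockCoeff] at h1
    have h2 := memLocalIdeal_sub h1 h0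
    by_cases hξ : ξ ∈ b
    · have hψB : ψ ∈ B := by
        by_contra hne
        rw [if_neg hne, sub_zero] at h1
        obtain ⟨χ, hχ⟩ := IsPBlock.nonempty hB
        have h3 := IsInducedBlock.omega_congr hb hξ hχ he
        rw [omega_blockCoeff, if_pos hχ] at h3
        exact not_memLocalIdeal_one (by simpa using memLocalIdeal_sub h1 h3)
      rw [if_pos hψB] at h2
      rw [if_pos hξ]
      simpa [hFdef] using h2
    · have hψB : ψ ∉ B := fun hψB => by
        have hind : IsInducedBlock M _ (blockOf M (ξ : Subgroup.normalizer (P : Set G) → ℂ)) B :=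
          isInducedBlock_of_pair (isPBlock_blockOf ξ) hB (self_mem_blockOf ξ) hψB fun a => by
            have h := hψ _ (isRCentral_classIndicator (M := M) a)
            rwa [omega_classIndicator (irr_isClassFunction ψ)] at h
        exact hξ (eq_of_isInducedBlock hM hb hind hbD ▸ self_mem_blockOf ξ)
      rw [if_neg hψB] at h2
      rw [if_neg hξ]
      simpa [hFdef] using h2
  have h := memLocalIdeal_sub_of_omega hM hF heb hFF
    (fun y => by rw [blockCoeff_conv_self, sub_self]; exact memLocalIdeal_zero) hω ⟨x, hCN hx⟩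
  rw [subgroupBlockCoeff_of_mem b (hCN hx)]
  simpa [hFdef, resFun, trunc_of_mem hx] using h

/-- The block of `G` above a block of `N(P)` with defect group `P`. -/
theorem exists_correspondent_above (hM : IsPModular p M)
    [Fintype (Subgroup.normalizer (P : Set G))]
    {b : Set (IrrCharacter (Subgroup.normalizer (P : Set G)))} (hb : IsPBlock M b)
    (hbD : IsDefectGroup p M b (P.subgroupOf (Subgroup.normalizer (P : Set G)))) :
    ∃ B : Set (IrrCharacter G), IsPBlock M B ∧ IsDefectGroup p M B P ∧
      ∀ x ∈ Subgroup.centralizer (P : Set G), MemLocalIdeal M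
        (blockCoeff B x - subgroupBlockCoeff (Subgroup.normalizer (P : Set G)) b x) := by
  classical
  haveI := Fact.mk hM.1
  have hP : IsPGroup p P := (IsDefectGroup.isPGroup hbD).of_equiv
    (Subgroup.subgroupOfEquivOfLe Subgroup.le_normalizer)
  obtain ⟨ξ, hξ⟩ := IsPBlock.nonempty hb
  obtain ⟨ψ, hψ⟩ := exists_induced_char hM hP Subgroup.le_normalizer
    (centralizer_le_normalizer' P) le_rfl ξ
  have hind : IsInducedBlock M _ b (blockOf M (ψ : G → ℂ)) :=
    isInducedBlock_of_pair hb (isPBlock_blockOf ψ) hξ (self_mem_blockOf ψ) fun a => by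
      have h := hψ _ (isRCentral_classIndicator (M := M) a)
      rwa [omega_classIndicator (irr_isClassFunction ψ)] at h
  have hD := isDefectGroup_induced hM hind hbD
  obtain ⟨b', hb', -, hrel⟩ := exists_correspondent_normalizer hM hind.2.1 hD
  rw [← eq_of_isInducedBlock hM hind hb' hbD] at hrel
  exact ⟨_, hind.2.1, hD, hrel⟩

/-- Defect groups are transported along isomorphisms. -/
theorem isDefectGroup_transBlock {H K : Type u} [Group H] [Group K] [Fintype H] [Fintype K]
    [Fact p.Prime] (e : H ≃* K) {b : Set (IrrCharacter H)} {D : Subgroup H}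
    (hD : IsDefectGroup p M b D) :
    IsDefectGroup p M (transBlock e b) (D.map e.toMonoidHom) := by
  obtain ⟨g, hg, S, hS⟩ := hD
  have hS' : sylowSub S = D := hS.symm
  obtain ⟨T, hT⟩ := Blocks.exists_sylowSub_eq (H := Subgroup.centralizer ({e g} : Set K))
    (P := D.map e.toMonoidHom) (p := p)
    (by rw [← centralizer_map_equiv, ← hS']; exact Subgroup.map_mono (sylowSub_le S))
    (by
      rw [← centralizer_map_equiv, Subgroup.card_map_of_injective (f := e.toMonoidHom) e.injective,
        Subgroup.card_map_of_injective (f := e.toMonoidHom) e.injective, ← hS']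
      exact card_sylowSub S)
  refine ⟨e g, ⟨?_, ?_, ?_⟩, T, hT.symm⟩
  · rw [blockCoeff_transBlock]; exact hg.1
  · rw [blockCoeff_transBlock]; exact hg.2.1
  · rintro _ ⟨ξ, hξ, rfl⟩
    rw [centralChar_transIrr]
    exact hg.2.2 ξ hξ

theorem mem_normalizer_subgroupOf {H : Subgroup G} (hPH : P ≤ H) (h : H) :
    h ∈ Subgroup.normalizer ((P.subgroupOf H : Subgroup H) : Set H) ↔
      (h : G) ∈ Subgroup.normalizer (P : Set G) := by
  rw [← Subgroup.subgroupOf_normalizer_eq hPH, Subgroup.mem_subgroupOf]

/-- The normaliser seen inside a subgroup containing it. -/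
def normalizerEquiv {H : Subgroup G} (hH : Subgroup.normalizer (P : Set G) ≤ H) :
    Subgroup.normalizer ((P.subgroupOf H : Subgroup H) : Set H) ≃*
      Subgroup.normalizer (P : Set G) where
  toFun x := ⟨((x : H) : G),
    (mem_normalizer_subgroupOf (Subgroup.le_normalizer.trans hH) _).1 x.2⟩
  invFun y := ⟨⟨(y : G), hH y.2⟩,
    (mem_normalizer_subgroupOf (Subgroup.le_normalizer.trans hH) _).2 y.2⟩
  left_inv _ := rfl
  right_inv _ := rfl
  map_mul' _ _ := rfl

/-- S4670. -/
theorem brauer_correspondence (hM : IsPModular p M) {H : Subgroup G}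
    (hH : Subgroup.normalizer (P : Set G) ≤ H) :
    (∀ B : Set (IrrCharacter G), IsPBlock M B → IsDefectGroup p M B P →
      ∃! c : Set (IrrCharacter H), IsPBlock M c ∧ IsDefectGroup p M c (P.subgroupOf H) ∧
        ∀ x : G, x ∈ Subgroup.centralizer (P : Set G) →
          MemLocalIdeal M (blockCoeff B x - subgroupBlockCoeff H c x)) ∧
    (∀ c : Set (IrrCharacter H), IsPBlock M c → IsDefectGroup p M c (P.subgroupOf H) →
      ∃! B : Set (IrrCharacter G), IsPBlock M B ∧ IsDefectGroup p M B P ∧
        ∀ x : G, x ∈ Subgroup.centralizer (P : Set G) →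
          MemLocalIdeal M (blockCoeff B x - subgroupBlockCoeff H c x)) := by
  classical
  haveI := Fact.mk hM.1
  haveI := Fintype.ofFinite H
  haveI := Fintype.ofFinite (Subgroup.normalizer (P : Set G))
  haveI := Fintype.ofFinite (Subgroup.normalizer ((P.subgroupOf H : Subgroup H) : Set H))
  have hPH : P ≤ H := Subgroup.le_normalizer.trans hH
  have hCH : Subgroup.centralizer (P : Set G) ≤ H := (centralizer_le_normalizer' P).trans hH
  set e := normalizerEquiv hH with he
  have hmapP : ((P.subgroupOf H).subgroupOf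
        (Subgroup.normalizer ((P.subgroupOf H : Subgroup H) : Set H))).map e.toMonoidHom =
      P.subgroupOf (Subgroup.normalizer (P : Set G)) := by
    ext y
    constructor
    · rintro ⟨z, hz, rfl⟩
      exact hz
    · intro hy
      exact ⟨e.symm y, hy, e.apply_symm_apply y⟩
  have hmapP' : (P.subgroupOf (Subgroup.normalizer (P : Set G))).map e.symm.toMonoidHom =
      (P.subgroupOf H).subgroupOf
        (Subgroup.normalizer ((P.subgroupOf H : Subgroup H) : Set H)) := by
    rw [← hmapP, Subgroup.map_map]
    convert Subgroup.map_id _ using 2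
    ext; simp
  have hval : ∀ (b' : Set (IrrCharacter (Subgroup.normalizer ((P.subgroupOf H : Subgroup H) : Set H))))
      (x : G) (hx : x ∈ Subgroup.centralizer (P : Set G)),
      subgroupBlockCoeff (Subgroup.normalizer ((P.subgroupOf H : Subgroup H) : Set H)) b'
          ⟨x, hCH hx⟩ =
        subgroupBlockCoeff (Subgroup.normalizer (P : Set G)) (transBlock e b') x := by
    intro b' x hx
    have hxN := centralizer_le_normalizer' P hx
    rw [subgroupBlockCoeff_of_mem b' ((mem_normalizer_subgroupOf hPH ⟨x, hCH hx⟩).2 hxN),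
      subgroupBlockCoeff_of_mem _ hxN]
    exact (blockCoeff_transBlock e b' ⟨⟨x, hCH hx⟩, _⟩).symm
  have huniqH : ∀ (c c' : Set (IrrCharacter H)) (E : G → ℂ), IsPBlock M c →
      IsDefectGroup p M c (P.subgroupOf H) → IsPBlock M c' →
      (∀ x : G, x ∈ Subgroup.centralizer (P : Set G) →
        MemLocalIdeal M (E x - subgroupBlockCoeff H c x)) →
      (∀ x : G, x ∈ Subgroup.centralizer (P : Set G) →
        MemLocalIdeal M (E x - subgroupBlockCoeff H c' x)) → c = c' := by
    intro c c' E hc hcD hc' h1 h2
    refine eq_of_congr_centralizer hM hc hcD hc' fun z hz => ?_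
    have hzC := (mem_centralizer_subgroupOf hPH z).1 hz
    have h := memLocalIdeal_sub (h2 _ hzC) (h1 _ hzC)
    rw [subgroupBlockCoeff_of_mem c z.2, subgroupBlockCoeff_of_mem c' z.2] at h
    simpa using h
  constructor
  · intro B hB hD
    obtain ⟨b, hb, hbD, hrel⟩ := exists_correspondent_normalizer hM hB hD
    have hbD' := isDefectGroup_transBlock e.symm hbD
    rw [hmapP'] at hbD'
    obtain ⟨c, hc, hcD, hrel'⟩ :=
      exists_correspondent_above hM (isPBlock_transBlock e.symm hb.1) hbD'
    have hmain : ∀ x : G, x ∈ Subgroup.centralizer (P : Set G) →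
        MemLocalIdeal M (blockCoeff B x - subgroupBlockCoeff H c x) := fun x hx => by
      have h1 := hrel' ⟨x, hCH hx⟩ ((mem_centralizer_subgroupOf hPH _).2 hx)
      rw [hval _ x hx] at h1
      rw [show transBlock e (transBlock e.symm b) = b from ?_] at h1
      · rw [subgroupBlockCoeff_of_mem c (hCH hx)]
        simpa using memLocalIdeal_sub (hrel x hx) h1
      · simp [transBlock, Set.image_image, transIrr_symm]
    refine ⟨c, ⟨hc, hcD, hmain⟩, fun c' hc' => ?_⟩
    exact (huniqH c c' _ hc hcD hc'.1 hmain hc'.2.2).symm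
  · intro c hc hcD
    obtain ⟨b', hb', hbD', hrel'⟩ := exists_correspondent_normalizer hM hc hcD
    have hbD := isDefectGroup_transBlock e hbD'
    rw [hmapP] at hbD
    obtain ⟨B, hB, hD, hrel⟩ := exists_correspondent_above hM (isPBlock_transBlock e hb'.1) hbD
    have hmain : ∀ x : G, x ∈ Subgroup.centralizer (P : Set G) →
        MemLocalIdeal M (blockCoeff B x - subgroupBlockCoeff H c x) := fun x hx => by
      have h1 := hrel' ⟨x, hCH hx⟩ ((mem_centralizer_subgroupOf hPH _).2 hx)
      rw [hval _ x hx] at h1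
      rw [subgroupBlockCoeff_of_mem c (hCH hx)]
      simpa using memLocalIdeal_sub (hrel x hx) h1
    refine ⟨B, ⟨hB, hD, hmain⟩, fun B' hB' => ?_⟩
    exact (eq_of_congr_centralizer hM hB hD hB'.1 fun x hx => by
      simpa using memLocalIdeal_sub (hmain x hx) (hB'.2.2 x hx)).symm

end Cfsg.Agent.Lib.BrauerPairs
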