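import Cfsg.Agent.Lib.BrauerPairs.Nilpotent

/-!
# Abelian defect, pairs of nilpotent blocks
-/

set_option autoImplicit false
set_option linter.unusedSectionVars false
set_option linter.style.haveILetI false

namespace Cfsg.Agent.Lib.BrauerPairs

open Cfsg Cfsg.Agent.Lib.Blocks Cfsg.Agent.Lib.Characters

universe u

variable {G : Type u} [Group G] [Fintype G] {M : Ideal AlgInt} [hMp : M.IsPrime] {p : ℕ}
  {P Q : Subgroup G} {B : Set (IrrCharacter G)}
  {e : Set (IrrCharacter (Subgroup.centralizer (P : Set G)))}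
  {f : Set (IrrCharacter (Subgroup.centralizer (Q : Set G)))}

/-- With abelian defect, fusion is controlled by the stabilizer of the maximal pair. -/
theorem exists_mem_stab_mul (hM : IsPModular p M) (hmax : IsMaximalBrauerPair p M B P e)
    (hab : ∀ x ∈ P, ∀ y ∈ P, x * y = y * x) (hle : SubpairLE p M Q f P e) {g : G}
    (hg : g ∈ pairStab Q f) :
    ∃ c ∈ Subgroup.centralizer (Q : Set G), c * g ∈ pairStab P e := by
  classical
  haveI := Fact.mk hM.1
  have hQP := subpairLE_le hle
  have hPC := le_normalizer_of_comm hab hQP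
  have hPN := hPC.trans (centralizer_le_normalizer' Q)
  have hfull := isFullPair_of_isDefectGroup hM hmax.1.1 hle
    (isDefectGroup_stab_of_le hM hmax hle hPN)
  have hstep := isNormalSubpair_of_subpairLE hM hmax.1.1 hle Relation.ReflTransGen.refl hQP hPN
  have hpair : conjPair g ⟨Q, f⟩ = ⟨Q, f⟩ :=
    pair_ext (map_conj_of_mem_normalizer hg.1) ((pairCoeff_conjPair g ⟨Q, f⟩).trans hg.2)
  have hstep' : NormalSubpairRel p M (conjPair g ⟨Q, f⟩) (conjPair g ⟨P, e⟩) :=
    isNormalSubpair_conj hstep g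
  rw [hpair] at hstep'
  have hU : P.map (MulAut.conj g).toMonoidHom ≤
      (P ⊓ Subgroup.normalizer (Q : Set G)) ⊔ Subgroup.centralizer (Q : Set G) := fun z hz =>
    Subgroup.mem_sup_right ((mem_centralizer_conj_iff hg.1 z).2 (hPC (mem_map_conj_iff.1 hz)))
  obtain ⟨c, hc, hcle⟩ := exists_extend hM hmax hle hfull hU hstep'
  have h2 := conjBlock_subpairLE_trans hcle
  have hmap : P.map (MulAut.conj (c * g)).toMonoidHom = P :=
    Subgroup.eq_of_le_of_card_ge (subpairLE_le h2) (card_map_conj P _).ge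
  have h3 : conjPair (c * g) ⟨P, e⟩ = ⟨P, e⟩ := pair_unique hM hmax.1.1 h2
    Relation.ReflTransGen.refl hmap
  refine ⟨c, hc, ?_, ?_⟩
  · rw [Subgroup.mem_normalizer_iff]
    intro z
    conv_rhs => rw [← hmap, mem_map_conj_iff]
    rw [show (c * g)⁻¹ * (c * g * z * (c * g)⁻¹) * (c * g) = z by group]
  · have h5 := pairCoeff_conjPair (c * g) ⟨P, e⟩
    rw [h3] at h5
    exact h5.symm

/-- S4682. -/
theorem stab_decomposition (hM : IsPModular p M) (hmax : IsMaximalBrauerPair p M B P e)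
    (hab : ∀ x ∈ P, ∀ y ∈ P, x * y = y * x) (hle : SubpairLE p M Q f P e) :
    (∀ x ∈ pairStab Q f, ∃ y ∈ pairStab P e, ∃ c ∈ Subgroup.centralizer (Q : Set G), x = y * c) ∧
    ((Subgroup.centralizer (Q : Set G)).subgroupOf (pairStab Q f)).index =
      ((pairStab P e ⊓ Subgroup.centralizer (Q : Set G)).subgroupOf
        (pairStab P e ⊓ Subgroup.normalizer (Q : Set G))).index := by
  classical
  have hdec : ∀ x ∈ pairStab Q f, ∃ y ∈ pairStab P e,
      ∃ c ∈ Subgroup.centralizer (Q : Set G), x = y * c ∧ y ∈ Subgroup.normalizer (Q : Set G) := by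
    intro x hx
    obtain ⟨c, hc, hcx⟩ := exists_mem_stab_mul hM hmax hab hle hx
    have hcxN : c * x ∈ Subgroup.normalizer (Q : Set G) :=
      mul_mem (centralizer_le_normalizer' Q hc) hx.1
    refine ⟨c * x, hcx, x⁻¹ * c⁻¹ * x, ?_, by group, hcxN⟩
    exact (mem_centralizer_conj_iff hx.1 _).1 (inv_mem hc)
  refine ⟨fun x hx => ?_, ?_⟩
  · obtain ⟨y, hy, c, hc, h, -⟩ := hdec x hx
    exact ⟨y, hy, c, hc, h⟩
  have hsub : pairStab P e ⊓ Subgroup.normalizer (Q : Set G) ≤ pairStab Q f := by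
    intro y hy
    have h1 : conjPair y ⟨P, e⟩ = ⟨P, e⟩ :=
      pair_ext (map_conj_of_mem_normalizer hy.1.1) ((pairCoeff_conjPair y ⟨P, e⟩).trans hy.1.2)
    have h2 : Relation.ReflTransGen (NormalSubpairRel p M) (conjPair y ⟨Q, f⟩)
        (conjPair y ⟨P, e⟩) := subpairLE_conj hle y
    rw [h1] at h2
    have h3 : conjPair y ⟨Q, f⟩ = ⟨Q, f⟩ :=
      pair_unique hM hmax.1.1 h2 hle (map_conj_of_mem_normalizer hy.2)
    have h4 := pairCoeff_conjPair y ⟨Q, f⟩
    rw [h3] at h4
    exact ⟨hy.2, h4.symm⟩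
  have hk1 : (Subgroup.centralizer (Q : Set G)).subgroupOf (pairStab Q f) = (stabHom Q f).ker := by
    ext t
    rw [MonoidHom.mem_ker, stabHom_eq_one_iff]
    rfl
  have hk2 : (pairStab P e ⊓ Subgroup.centralizer (Q : Set G)).subgroupOf
      (pairStab P e ⊓ Subgroup.normalizer (Q : Set G)) =
      ((stabHom Q f).comp (Subgroup.inclusion hsub)).ker := by
    ext t
    rw [MonoidHom.mem_ker, MonoidHom.comp_apply, stabHom_eq_one_iff]
    exact ⟨fun h => h.2, fun h => ⟨t.2.1, h⟩⟩
  rw [hk1, hk2, Subgroup.index_ker, Subgroup.index_ker]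
  congr 2
  refine le_antisymm ?_ (by rintro _ ⟨t, rfl⟩; exact ⟨_, rfl⟩)
  rintro _ ⟨⟨x, hx⟩, rfl⟩
  obtain ⟨y, hy, c, hc, h, hyN⟩ := hdec x hx
  refine ⟨⟨y, hy, hyN⟩, ?_⟩
  have h1 : (⟨x, hx⟩ : pairStab Q f) =
      Subgroup.inclusion hsub ⟨y, hy, hyN⟩ * ⟨c, centralizer_le_pairStab hc⟩ := Subtype.ext h
  rw [h1, map_mul, stabHom_eq_one_iff.2 (show ((⟨c, centralizer_le_pairStab hc⟩ : pairStab Q f) : G)
    ∈ _ from hc), mul_one]
  rfl

section Nested

variable {H : Subgroup G} [Fintype H] {U : Subgroup H} {V : Subgroup G}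

/-- The equivalence when the centraliser of `U` in `H` is the centraliser of `V`. -/
def nestEquiv (h : ∀ x : H, x ∈ Subgroup.centralizer (U : Set H) ↔
      (x : G) ∈ Subgroup.centralizer (V : Set G))
    (hC : Subgroup.centralizer (V : Set G) ≤ H) :
    Subgroup.centralizer (U : Set H) ≃* Subgroup.centralizer (V : Set G) where
  toFun x := ⟨((x : H) : G), (h x).1 x.2⟩
  invFun y := ⟨⟨(y : G), hC y.2⟩, (h _).2 y.2⟩
  left_inv _ := rfl
  right_inv _ := rfl
  map_mul' _ _ := rfl

theorem brauerOmega_nestEquiv (h : ∀ x : H, x ∈ Subgroup.centralizer (U : Set H) ↔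
      (x : G) ∈ Subgroup.centralizer (V : Set G))
    (hC : Subgroup.centralizer (V : Set G) ≤ H) (β : G → ℂ)
    (ξ : IrrCharacter (Subgroup.centralizer (U : Set H))) :
    brauerOmega V β (transIrr (nestEquiv h hC) ξ : Subgroup.centralizer (V : Set G) → ℂ) =
      brauerOmega U (resFun H β) (ξ : Subgroup.centralizer (U : Set H) → ℂ) := by
  rw [brauerOmega, brauerOmega]
  refine Eq.trans (finsum_comp_equiv (nestEquiv h hC).toEquiv).symm (finsum_congr fun x => ?_)
  show β ((nestEquiv h hC x : _) : G) * _ / _ = _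
  rw [show (transIrr (nestEquiv h hC) ξ : _ → ℂ) ((nestEquiv h hC).toEquiv x) = (ξ : _ → ℂ) x from
    transIrr_apply _ ξ x, ← map_one (nestEquiv h hC), transIrr_apply]
  rfl

theorem subgroupBlockCoeff_nestEquiv (h : ∀ x : H, x ∈ Subgroup.centralizer (U : Set H) ↔
      (x : G) ∈ Subgroup.centralizer (V : Set G))
    (hC : Subgroup.centralizer (V : Set G) ≤ H)
    (v : Set (IrrCharacter (Subgroup.centralizer (U : Set H)))) :
    subgroupBlockCoeff (Subgroup.centralizer (V : Set G)) (transBlock (nestEquiv h hC) v) =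
      extendByZero H (subgroupBlockCoeff (Subgroup.centralizer (U : Set H)) v) := by
  funext x
  by_cases hx : x ∈ Subgroup.centralizer (V : Set G)
  · rw [subgroupBlockCoeff_of_mem _ hx, extendByZero_of_mem _ _ (hC hx),
      subgroupBlockCoeff_of_mem v ((h ⟨x, hC hx⟩).2 hx)]
    exact blockCoeff_transBlock (nestEquiv h hC) v ⟨⟨x, hC hx⟩, (h ⟨x, hC hx⟩).2 hx⟩
  · rw [subgroupBlockCoeff_of_notMem _ hx]
    by_cases hxH : x ∈ H
    · rw [extendByZero_of_mem _ _ hxH, subgroupBlockCoeff_of_notMem]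
      intro hh
      exact hx ((h ⟨x, hxH⟩).1 hh)
    · rw [extendByZero_of_not_mem _ _ hxH]

end Nested

theorem isNilpotentBlock_of_isBrauerPairOf (hM : IsPModular p M) (hnil : IsNilpotentBlock p M B)
    (hQf : IsBrauerPairOf p M B Q f) : IsNilpotentBlock p M f := by
  classical
  haveI := Fact.mk hM.1
  refine ⟨hQf.1.2, fun R r hr x hxN hxst hxreg => ?_⟩
  set V := Q ⊔ R.map (Subgroup.centralizer (Q : Set G)).subtype with hV
  have hRC : R.map (Subgroup.centralizer (Q : Set G)).subtype ≤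
      Subgroup.centralizer (Q : Set G) := Subgroup.map_subtype_le _
  have h : ∀ y : Subgroup.centralizer (Q : Set G), y ∈ Subgroup.centralizer
      (R : Set (Subgroup.centralizer (Q : Set G))) ↔ (y : G) ∈ Subgroup.centralizer (V : Set G) := by
    intro y
    rw [← mem_centralizer_map_subtype, hV, ← le_centralizer_singleton_iff,
      ← le_centralizer_singleton_iff, sup_le_iff]
    exact ⟨fun hy => ⟨le_centralizer_singleton_iff.2 y.2, hy⟩, fun hy => hy.2⟩
  have hC : Subgroup.centralizer (V : Set G) ≤ Subgroup.centralizer (Q : Set G) :=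
    centralizer_le_centralizer le_sup_left
  have hVp : IsPGroup p V :=
    hQf.1.1.to_sup_of_normal_left' (hr.1.1.map _) (hRC.trans (centralizer_le_normalizer' Q))
  have hVN : V ≤ Subgroup.normalizer (Q : Set G) :=
    sup_le Subgroup.le_normalizer (hRC.trans (centralizer_le_normalizer' Q))
  have hVst : ∀ a ∈ V, StabilizesBlock (Subgroup.centralizer (Q : Set G)) f a := fun a ha =>
    (mem_pairStab_iff.1 ((sup_le le_pairStab_self (hRC.trans centralizer_le_pairStab) :
      V ≤ pairStab Q f) ha)).2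
  set r' := transBlock (nestEquiv h hC) r with hr'
  obtain ⟨ξ, hξ⟩ := IsPBlock.nonempty hr.1.2
  have hstep : IsNormalSubpair p M Q f V r' := by
    refine isNormalSubpair_of_exists hM le_sup_left hVN hQf.1.2
      ⟨hVp, isPBlock_transBlock _ hr.1.2⟩ hVst (Set.mem_image_of_mem _ hξ) ?_
    rw [brauerOmega_nestEquiv, resFun_subgroupBlockCoeff]
    exact hr.2.2 ξ hξ
  have hVB := (isBrauerPairOf_iff_of_subpairLE hM hstep.2.1 (subpairLE_single hstep) hQf.2.1).2 hQf
  have hxV : (x : G) ∈ Subgroup.normalizer (V : Set G) := by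
    rw [Subgroup.mem_normalizer_iff]
    intro z
    have hmap : V.map (MulAut.conj (x : G)).toMonoidHom = V := by
      rw [hV, Subgroup.map_sup, map_conj_of_mem_normalizer (centralizer_le_normalizer' Q x.2)]
      congr 1
      ext y
      rw [mem_map_conj_iff]
      constructor
      · rintro ⟨w, hw, hwy⟩
        refine ⟨x * w * x⁻¹, (Subgroup.mem_normalizer_iff.1 hxN w).1 hw, ?_⟩
        simp only [Subgroup.coe_subtype] at hwy ⊢
        simp [hwy, mul_assoc]
      · rintro ⟨w, hw, rfl⟩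
        refine ⟨x⁻¹ * w * x, (Subgroup.mem_normalizer_iff.1 hxN _).2 ?_, by simp⟩
        rwa [show x * (x⁻¹ * w * x) * x⁻¹ = w by group]
    conv_rhs => rw [← hmap, mem_map_conj_iff]
    rw [show (x : G)⁻¹ * ((x : G) * z * (x : G)⁻¹) * (x : G) = z by group]
  have hxst' : StabilizesBlock (Subgroup.centralizer (V : Set G)) r' (x : G) := by
    rw [stabilizesBlock_iff (normalizer_le_normalizer_centralizer V hxV), hr',
      subgroupBlockCoeff_nestEquiv, gconj_extendByZero]
    congr 1
    exact (stabilizesBlock_iff (normalizer_le_normalizer_centralizer R hxN)).1 hxst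
  exact (h x).2 (hnil.2 V r' hVB (x : G) hxV hxst'
    (by unfold IsPRegular at hxreg ⊢; rwa [Subgroup.orderOf_coe]))

/-- S4688. -/
theorem nilpotent_pairs (hM : IsPModular p M) (hmax : IsMaximalBrauerPair p M B P e)
    (hnil : IsNilpotentBlock p M B) (hQf : IsBrauerPairOf p M B Q f) :
    IsNilpotentBlock p M f ∧ (SubpairLE p M Q f P e → IsDefectGroup p M f
      ((P ⊓ Subgroup.centralizer (Q : Set G)).subgroupOf (Subgroup.centralizer (Q : Set G)))) := by
  classical
  refine ⟨isNilpotentBlock_of_isBrauerPairOf hM hnil hQf, fun hle => ?_⟩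
  have hF := isBlockFusionSystemOn_blockFusion hM hmax
  refine (isFullyCentralized_iff hM hF hle).1 ⟨subpairLE_le hle, fun R hR => ?_⟩
  obtain ⟨φ, hφ, rfl⟩ := hR
  rw [(isNilpotentBlock_iff hM hF).1 hnil Q] at hφ
  obtain ⟨-, u, hu, hux⟩ := hφ
  rw [range_eq_map_conj hux]
  refine le_of_eq ?_
  rw [FusionSystem.centralizerIn, FusionSystem.centralizerIn,
    ← card_map_conj (P ⊓ Subgroup.centralizer (Q : Set G)) u]
  congr 2
  ext z
  simp only [Subgroup.mem_inf, mem_map_conj_iff, mem_centralizer_map_conj]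
  refine and_congr_left fun _ => ?_
  constructor
  · intro hz; exact mul_mem (mul_mem (inv_mem hu) hz) hu
  · intro hz
    have := mul_mem (mul_mem hu hz) (inv_mem hu)
    simpa [mul_assoc] using this

end Cfsg.Agent.Lib.BrauerPairs
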