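import Cfsg.Agent.Lib.BrauerPairs.CentralDefectZero
import Cfsg.Agent.Lib.BrauerPairs.Fusion
import Cfsg.Agent.Lib.BrauerPairs.Nilpotent

/-!
# Characterisation of maximal Brauer pairs
-/

set_option autoImplicit false
set_option linter.unusedSectionVars false
set_option linter.style.haveILetI false

namespace Cfsg.Agent.Lib.BrauerPairs

open Cfsg Cfsg.Agent.Lib.Blocks Cfsg.Agent.Lib.Characters

universe u

variable {G : Type u} [Group G] [Fintype G] {M : Ideal AlgInt} [hMp : M.IsPrime] {p : ℕ}
  {P Q : Subgroup G} {B : Set (IrrCharacter G)}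
  {e : Set (IrrCharacter (Subgroup.centralizer (Q : Set G)))}

theorem map_eq_self_of_le {g : G} (h : Q.map (MulAut.conj g).toMonoidHom ≤ Q) :
    Q.map (MulAut.conj g).toMonoidHom = Q :=
  Subgroup.eq_of_le_of_card_ge h (card_map_conj Q g).ge

/-- The centre of a maximal pair is a defect group of its block. -/
theorem isDefectGroup_center_of_isMaximal (hM : IsPModular p M)
    (hmax : IsMaximalBrauerPair p M B Q e) :
    IsDefectGroup p M e (Q.subgroupOf (Subgroup.centralizer (Q : Set G))) := by
  classical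
  have hF := isBlockFusionSystemOn_blockFusion hM hmax
  have hrefl : SubpairLE p M Q e Q e := Relation.ReflTransGen.refl
  have h := (isCentric_iff hM hF hrefl).1 ⟨le_rfl, fun R hR => by
    obtain ⟨g, rfl, hg⟩ := (isConj_iff_exists hM hF hrefl).1 hR
    rw [map_eq_self_of_le (subpairLE_le hg)]
    exact inf_le_left⟩
  rwa [Subgroup.inf_subgroupOf_right] at h

theorem card_center (Q : Subgroup G) :
    Nat.card (Q.subgroupOf (Subgroup.centralizer (Q : Set G))) =
      Nat.card ↥(Q ⊓ Subgroup.centralizer (Q : Set G) : Subgroup G) := by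
  rw [← Subgroup.inf_subgroupOf_right Q (Subgroup.centralizer (Q : Set G)),
    card_subgroupOf inf_le_right]

theorem center_le_center (Q : Subgroup G) :
    Q.subgroupOf (Subgroup.centralizer (Q : Set G)) ≤
      Subgroup.center (Subgroup.centralizer (Q : Set G)) := fun z hz =>
  Subgroup.mem_center_iff.2 fun c =>
    Subtype.ext (Subgroup.mem_centralizer_iff.1 c.2 _ hz).symm

/-- S4828. -/
theorem exists_isMaximal_iff (hM : IsPModular p M) (he : IsBrauerPair p M Q e) :
    (∃ B : Set (IrrCharacter G), IsMaximalBrauerPair p M B Q e) ↔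
      ∃ θ ∈ e, (∀ z : Subgroup.centralizer (Q : Set G), (z : G) ∈ Q →
          (θ : Subgroup.centralizer (Q : Set G) → ℂ) z =
            (θ : Subgroup.centralizer (Q : Set G) → ℂ) 1) ∧
        (charDegree (θ : Subgroup.centralizer (Q : Set G) → ℂ)).factorization p +
            (Nat.card ↥(Q ⊓ Subgroup.centralizer (Q : Set G))).factorization p =
          (Nat.card (Subgroup.centralizer (Q : Set G))).factorization p ∧
        (∀ g : G, g ∈ Subgroup.normalizer (Q : Set G) →
          StabilizesBlock (Subgroup.centralizer (Q : Set G)) e g →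
            (∃ k : ℕ, orderOf g = p ^ k) → g ∈ Q ⊔ Subgroup.centralizer (Q : Set G)) := by
  classical
  haveI := Fact.mk hM.1
  haveI : (Q.subgroupOf (Subgroup.centralizer (Q : Set G))).Normal :=
    ⟨fun z hz c => by
      rw [Subgroup.mem_center_iff.1 (center_le_center Q hz) c, mul_inv_cancel_right]; exact hz⟩
  have hZp : IsPGroup p (Q.subgroupOf (Subgroup.centralizer (Q : Set G))) :=
    he.1.comap_of_injective _ (Subgroup.centralizer (Q : Set G)).subtype_injective
  constructor
  · rintro ⟨B, hmax⟩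
    obtain ⟨θ, hθ, hker, hdeg⟩ :=
      exists_defectZero_of_defectGroup hM he.2 (isDefectGroup_center_of_isMaximal hM hmax)
    rw [card_center] at hdeg
    refine ⟨θ, hθ, fun z hz => hker z hz, hdeg, fun g hgN hst hord => ?_⟩
    have hrefl : SubpairLE p M Q e Q e := Relation.ReflTransGen.refl
    have hgT : g ∈ pairStab Q e := mem_pairStab_iff.2 ⟨hgN, hst⟩
    have hidx := not_dvd_relIndex_stab hM hmax.1.1 hrefl
      (isDefectGroup_stab_of_le hM hmax hrefl Subgroup.le_normalizer)
    set A := ((Q ⊓ Subgroup.normalizer (Q : Set G)).subgroupOf (pairStab Q e)).map (stabHom Q e)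
    haveI hDn : ((Q ⊓ Subgroup.normalizer (Q : Set G)).subgroupOf (pairStab Q e)).Normal := by
      rw [inf_eq_left.2 Subgroup.le_normalizer]
      exact subgroupOf_normal_of_le_normalizer fun t ht => ht.1
    haveI hAn : (A.subgroupOf (stabHom Q e).range).Normal := by
      refine ⟨fun a ha r => ?_⟩
      obtain ⟨t, ht⟩ := r.2
      obtain ⟨d, hd, hda⟩ := ha
      show (r : MulAut Q) * (a : MulAut Q) * (r : MulAut Q)⁻¹ ∈ A
      rw [← ht, ← show stabHom Q e d = (a : MulAut Q) from hda, ← map_inv, ← map_mul, ← map_mul]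
      exact ⟨_, hDn.conj_mem d hd t, rfl⟩
    set r : (stabHom Q e).range := ⟨stabHom Q e ⟨g, hgT⟩, _, rfl⟩
    have hrA : r ∈ A.subgroupOf (stabHom Q e).range := by
      obtain ⟨k, hk⟩ := hord
      have hcop : Nat.Coprime (A.relIndex (stabHom Q e).range) (orderOf r) := by
        refine Nat.Coprime.coprime_dvd_right ?_
          ((hM.1.coprime_iff_not_dvd.2 hidx).symm.pow_right k)
        rw [← hk, ← Subgroup.orderOf_coe, ← Subgroup.orderOf_mk (g : G) hgT]
        exact orderOf_map_dvd (stabHom Q e) _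
      have h1 := Subgroup.pow_index_mem (A.subgroupOf (stabHom Q e).range) r
      obtain ⟨m, hm⟩ := exists_pow_eq_self_of_coprime hcop
      rw [← hm]
      exact pow_mem h1 m
    obtain ⟨d, hd, hdr⟩ := Subgroup.mem_subgroupOf.1 hrA
    have hdr' : stabHom Q e d = stabHom Q e ⟨g, hgT⟩ := hdr
    have h1 : stabHom Q e (d⁻¹ * ⟨g, hgT⟩) = 1 := by
      rw [map_mul, map_inv, hdr', inv_mul_cancel]
    have h2 : ((d : pairStab Q e) : G)⁻¹ * g ∈ Subgroup.centralizer (Q : Set G) :=
      stabHom_eq_one_iff.1 h1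
    simpa using mul_mem (Subgroup.mem_sup_left (T := Subgroup.centralizer (Q : Set G))
      (Subgroup.mem_subgroupOf.1 hd).1) (Subgroup.mem_sup_right (S := Q) h2)
  · rintro ⟨θ, hθ, hker, hdeg, hstab⟩
    obtain ⟨B, hB, -⟩ := existsUnique_isBrauerPairOf hM he
    obtain ⟨P, e', hmax, hle⟩ := exists_maximal_above hB
    refine ⟨B, ?_⟩
    have hQP := subpairLE_le hle
    rcases hQP.eq_or_lt with heq | hlt
    · subst heq
      rwa [eq_of_subpairLE_self hM hle]
    exfalso
    have hDle : ∀ D : Subgroup (Subgroup.centralizer (Q : Set G)), IsDefectGroup p M e D →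
        D ≤ Q.subgroupOf (Subgroup.centralizer (Q : Set G)) := fun D hD =>
      defectGroup_le_of_defectZero hM hZp
        (fun x _ => Subgroup.mem_centralizer_iff.2 fun z hz =>
          (Subgroup.mem_center_iff.1 (center_le_center Q hz) x).symm)
        he.2 hθ (fun z hz => hker z hz) (by rw [card_center]; exact hdeg) hD
    obtain ⟨D, hD, hPD⟩ := exists_defectGroup_ge_centralizer hM hmax.1.1 hle
    refine (lt_inf_normalizer hmax.1.1.1 hlt).not_ge fun a ha => ?_
    have haT := (inf_normalizer_props hM hmax.1.1 hle).1 ha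
    have hord : ∃ k : ℕ, orderOf a = p ^ k := by
      obtain ⟨k, hk⟩ := IsPGroup.iff_orderOf.1 hmax.1.1.1 ⟨a, ha.1⟩
      exact ⟨k, by rwa [Subgroup.orderOf_mk] at hk⟩
    have hmem : a ∈ Q ⊔ Subgroup.centralizer (Q : Set G) :=
      hstab a ha.2 (mem_pairStab_iff.1 haT).2 hord
    rw [← SetLike.mem_coe, Subgroup.coe_mul_of_left_le_normalizer_right Q _
      (fun q hq => normalizer_le_normalizer_centralizer Q (Subgroup.le_normalizer hq))] at hmem
    obtain ⟨q, hq, c, hc, rfl⟩ := hmem
    have hcP : c ∈ P := by simpa using mul_mem (inv_mem (hQP hq)) ha.1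
    exact mul_mem hq (Subgroup.mem_subgroupOf.1
      (hDle D hD (hPD (show (⟨c, hc⟩ : Subgroup.centralizer (Q : Set G)) ∈
        (P ⊓ Subgroup.centralizer (Q : Set G)).subgroupOf _ from ⟨hcP, hc⟩))))

end Cfsg.Agent.Lib.BrauerPairs
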