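import Cfsg.Agent.Lib.BrauerPairs.Fusion
import Cfsg.Agent.Lib.BrauerPairs.Relative

/-!
# A centric pair stable under the whole group
-/

set_option autoImplicit false
set_option linter.unusedSectionVars false
set_option linter.style.haveILetI false

namespace Cfsg.Agent.Lib.BrauerPairs

open Cfsg Cfsg.Agent.Lib.Blocks Cfsg.Agent.Lib.Characters

universe u

variable {G : Type u} [Group G] [Fintype G] {M : Ideal AlgInt} [hMp : M.IsPrime] {p : ℕ}
  {P Q : Subgroup G} {B : Set (IrrCharacter G)}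
  {e : Set (IrrCharacter (Subgroup.centralizer (P : Set G)))}
  {f : Set (IrrCharacter (Subgroup.centralizer (Q : Set G)))}

/-- The block of `G` below a pair stabilised by all of `G` has the idempotent of the pair. -/
theorem blockCoeff_eq_of_pairStab_eq_top (hM : IsPModular p M)
    (hQf : IsBrauerPairOf p M B Q f) (hT : ∀ g : G, g ∈ pairStab Q f) :
    blockCoeff B = subgroupBlockCoeff (Subgroup.centralizer (Q : Set G)) f := by
  classical
  haveI := Fintype.ofFinite (⊤ : Subgroup G)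
  have hf := hQf.1.2
  have hB' := isPBlock_blockAbove (H := (⊤ : Subgroup G)) hM hQf.1.1 hf le_top le_top
    (fun g _ => hT g)
  set B₂ := transBlock Subgroup.topEquiv (blockAbove (⊤ : Subgroup G) f) with hB₂
  have hcoe : blockCoeff B₂ = subgroupBlockCoeff (Subgroup.centralizer (Q : Set G)) f := by
    funext g
    obtain ⟨t, rfl⟩ := (Subgroup.topEquiv (G := G)).surjective g
    rw [hB₂, blockCoeff_transBlock,
      blockCoeff_blockAbove hM hf le_top (fun g _ => hT g)]
    rfl
  obtain ⟨η, hη⟩ := IsPBlock.nonempty hf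
  have hpair : IsBrauerPairOf p M B₂ Q f := by
    refine isBrauerPairOf_of_exists hM hQf.1 (isPBlock_transBlock _ hB') hη ?_
    rw [hcoe, brauerOmega_eq_omega, resFun_subgroupBlockCoeff, omega_blockCoeff, if_pos hη,
      sub_self]
    exact memLocalIdeal_zero
  rw [(existsUnique_isBrauerPairOf hM hQf.1).unique hQf hpair, hcoe]

/-- A centric pair stable under all of `G` gives a nilpotent block of `Q C(Q)`. -/
theorem isNilpotentBlock_sup_centralizer (hM : IsPModular p M) (hQ : IsPGroup p Q)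
    (hf : IsPBlock M f) (hT : ∀ g : G, g ∈ pairStab Q f)
    (hdef : IsDefectGroup p M f
      ((Q ⊓ Subgroup.centralizer (Q : Set G)).subgroupOf (Subgroup.centralizer (Q : Set G))))
    [Fintype ↥(Q ⊔ Subgroup.centralizer (Q : Set G))] :
    IsNilpotentBlock p M (blockAbove (Q ⊔ Subgroup.centralizer (Q : Set G)) f) := by
  classical
  haveI := Fact.mk hM.1
  have hHT : Q ⊔ Subgroup.centralizer (Q : Set G) ≤ pairStab Q f := fun g _ => hT g
  have hF' := isPBlock_blockAbove (H := Q ⊔ Subgroup.centralizer (Q : Set G)) hM hQ hf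
    le_sup_right le_sup_left hHT
  refine ⟨hF', fun U u hUu x hxU _ hxreg => ?_⟩
  obtain ⟨P', e', hmax', hle'⟩ := exists_maximal_above hUu
  have hD := isDefectGroup_of_isMaximal hM hmax'
  have hUP : U ≤ P' := subpairLE_le hle'
  obtain ⟨c, hc, hne⟩ := exists_unit_of_defectGroup hD
  rw [subgroupBlockCoeff_eq_extendByZero, blockCoeff_blockAbove hM hf le_sup_right hHT,
    extendByZero_resFun_stable le_sup_right] at hne
  have hcC : c ∈ Subgroup.centralizer (Q : Set G) := by
    by_contra h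
    exact hne (by rw [subgroupBlockCoeff_of_notMem f h]; exact memLocalIdeal_zero)
  set D := P'.map (Q ⊔ Subgroup.centralizer (Q : Set G)).subtype with hDdef
  have hDp : IsPGroup p D := (IsDefectGroup.isPGroup hD).map _
  have hQD : Q ≤ D := by
    haveI : (Q.subgroupOf (Q ⊔ Subgroup.centralizer (Q : Set G))).Normal :=
      subgroupOf_normal_of_le_normalizer fun a _ => (hT a).1
    have h := le_of_isDefectGroup hM
      (hQ.of_equiv (Subgroup.subgroupOfEquivOfLe (le_sup_left (b := Subgroup.centralizer (Q : Set G)))).symm)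
      hF' hD
    intro q hq
    exact ⟨⟨q, Subgroup.mem_sup_left hq⟩, h (Subgroup.mem_subgroupOf.2 hq), rfl⟩
  -- the centralizer part of the defect group
  have hcard := card_le_of_unit (H := Subgroup.centralizer (Q : Set G)) hM hf
    (U := D ⊓ Subgroup.centralizer (Q : Set G)) inf_le_right (hDp.to_le inf_le_left)
    (c := c) (Subgroup.centralizer_le (fun z hz => (inf_le_left : D ⊓ _ ≤ D) hz) hc) hne hdef
  rw [card_subgroupOf inf_le_right] at hcard
  have hle : Q ⊓ Subgroup.centralizer (Q : Set G) = D ⊓ Subgroup.centralizer (Q : Set G) :=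
    Subgroup.eq_of_le_of_card_ge (inf_le_inf_right _ hQD) hcard
  have hDQ : D ≤ Q := by
    rintro _ ⟨⟨d, hd⟩, hdP, rfl⟩
    have hd' : d ∈ Subgroup.centralizer (Q : Set G) ⊔ Q := sup_comm Q _ ▸ hd
    have hnormal : (Subgroup.centralizer (Q : Set G)).Normal :=
      ⟨fun a ha b => (Subgroup.mem_normalizer_iff.1
        (normalizer_le_normalizer_centralizer Q (hT b).1) a).1 ha⟩
    obtain ⟨a, ha, q, hq, rfl⟩ := Subgroup.mem_sup_of_normal_left.1 hd'
    have haD : a ∈ D := by
      have h1 : a * q ∈ D := ⟨⟨a * q, hd⟩, hdP, rfl⟩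
      simpa using mul_mem h1 (inv_mem (hQD hq))
    exact mul_mem ((hle.ge ⟨haD, ha⟩).1) hq
  have hUQ : ∀ w ∈ U, ((w : G)) ∈ Q := fun w hw => hDQ ⟨w, hUP hw, rfl⟩
  -- `x` acts on `U` as an element of `Q`
  obtain ⟨a, ha, q, hq, haq⟩ : ∃ a ∈ Subgroup.centralizer (Q : Set G), ∃ q ∈ Q,
      a * q = (x : G) := by
    have hnormal : (Subgroup.centralizer (Q : Set G)).Normal :=
      ⟨fun a ha b => (Subgroup.mem_normalizer_iff.1
        (normalizer_le_normalizer_centralizer Q (hT b).1) a).1 ha⟩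
    exact Subgroup.mem_sup_of_normal_left.1
      ((sup_comm Q (Subgroup.centralizer (Q : Set G))).le x.2)
  set y : ↥(Q ⊔ Subgroup.centralizer (Q : Set G)) := ⟨q, Subgroup.mem_sup_left hq⟩ with hy
  have hact : ∀ w ∈ U, x * w * x⁻¹ = y * w * y⁻¹ := by
    intro w hw
    refine Subtype.ext ?_
    show (x : G) * (w : G) * (x : G)⁻¹ = q * (w : G) * q⁻¹
    have h1 : q * (w : G) * q⁻¹ ∈ Q := mul_mem (mul_mem hq (hUQ w hw)) (inv_mem hq)
    have h2 := Subgroup.mem_centralizer_iff.1 ha _ h1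
    rw [← haq, show a * q * (w : G) * (a * q)⁻¹ = a * (q * (w : G) * q⁻¹) * a⁻¹ by group, ← h2,
      mul_inv_cancel_right]
  -- iterate
  have hiter : ∀ n : ℕ, ∀ w ∈ U, x ^ n * w * (x ^ n)⁻¹ = y ^ n * w * (y ^ n)⁻¹ := by
    intro n
    induction n with
    | zero => simp
    | succ n ih =>
      intro w hw
      have hw' : x * w * x⁻¹ ∈ U := (Subgroup.mem_normalizer_iff.1 hxU w).1 hw
      calc x ^ (n + 1) * w * (x ^ (n + 1))⁻¹ = x ^ n * (x * w * x⁻¹) * (x ^ n)⁻¹ := by
            rw [pow_succ]; group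
        _ = y ^ n * (x * w * x⁻¹) * (y ^ n)⁻¹ := ih _ hw'
        _ = y ^ (n + 1) * w * (y ^ (n + 1))⁻¹ := by rw [hact w hw, pow_succ]; group
  obtain ⟨k, hk⟩ : ∃ k, y ^ p ^ k = 1 := by
    obtain ⟨k, hk⟩ := hQ ⟨q, hq⟩
    exact ⟨k, Subtype.ext (by simpa [y] using congrArg Subtype.val hk)⟩
  rw [Subgroup.mem_centralizer_iff]
  intro w hw
  have hpk := hiter (p ^ k) w hw
  rw [hk, one_mul, inv_one, mul_one] at hpk
  obtain ⟨m, hm⟩ := exists_pow_eq_self_of_coprime (x := x)
    ((hM.1.coprime_iff_not_dvd.2 hxreg).pow_left k)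
  have hcomm : Commute (x ^ p ^ k) w := mul_inv_eq_iff_eq_mul.1 hpk
  have := hcomm.pow_left m
  rw [hm] at this
  exact this.eq.symm

end Cfsg.Agent.Lib.BrauerPairs
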