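import Cfsg.Agent.Lib.BrauerPairs.Step

/-!
# Conjugation of Brauer pairs
-/

set_option autoImplicit false
set_option linter.unusedSectionVars false
set_option linter.style.haveILetI false

namespace Cfsg.Agent.Lib.BrauerPairs

open Cfsg Cfsg.Agent.Lib.Blocks Cfsg.Agent.Lib.Characters

universe u

variable {G : Type u} [Group G] [Fintype G] {M : Ideal AlgInt} [hMp : M.IsPrime] {p : ℕ}

theorem mem_map_conj_iff {Q : Subgroup G} {g x : G} :
    x ∈ Q.map (MulAut.conj g).toMonoidHom ↔ g⁻¹ * x * g ∈ Q := by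
  constructor
  · rintro ⟨y, hy, rfl⟩
    simpa [mul_assoc] using hy
  · intro h
    exact ⟨g⁻¹ * x * g, h, by simp [mul_assoc]⟩

theorem map_conj_map_conj (Q : Subgroup G) (g h : G) :
    (Q.map (MulAut.conj h).toMonoidHom).map (MulAut.conj g).toMonoidHom =
      Q.map (MulAut.conj (g * h)).toMonoidHom := by
  ext x
  rw [mem_map_conj_iff, mem_map_conj_iff, mem_map_conj_iff]
  rw [show h⁻¹ * (g⁻¹ * x * g) * h = (g * h)⁻¹ * x * (g * h) by group]

theorem map_conj_one (Q : Subgroup G) : Q.map (MulAut.conj (1 : G)).toMonoidHom = Q := by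
  ext x
  simp [mem_map_conj_iff]

theorem map_conj_of_mem_normalizer {Q : Subgroup G} {g : G}
    (hg : g ∈ Subgroup.normalizer (Q : Set G)) : Q.map (MulAut.conj g).toMonoidHom = Q := by
  ext x
  rw [mem_map_conj_iff]
  exact (mem_conj_iff_of_mem_normalizer hg x).symm

theorem mem_normalizer_map_conj {Q : Subgroup G} {g a : G}
    (ha : g⁻¹ * a * g ∈ Subgroup.normalizer (Q : Set G)) :
    a ∈ Subgroup.normalizer ((Q.map (MulAut.conj g).toMonoidHom : Subgroup G) : Set G) := by
  rw [Subgroup.mem_normalizer_iff]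
  intro x
  rw [mem_map_conj_iff, mem_map_conj_iff,
    show g⁻¹ * (a * x * a⁻¹) * g = (g⁻¹ * a * g) * (g⁻¹ * x * g) * (g⁻¹ * a * g)⁻¹ by group]
  exact Subgroup.mem_normalizer_iff.1 ha _

theorem mem_normalizer_map_conj_iff {Q : Subgroup G} {g a : G} :
    a ∈ Subgroup.normalizer ((Q.map (MulAut.conj g).toMonoidHom : Subgroup G) : Set G) ↔
      g⁻¹ * a * g ∈ Subgroup.normalizer (Q : Set G) := by
  refine ⟨fun h => ?_, mem_normalizer_map_conj⟩
  have h' := mem_normalizer_map_conj (g := g⁻¹) (a := g⁻¹ * a * g)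
    (Q := Q.map (MulAut.conj g).toMonoidHom) (by simpa [mul_assoc] using h)
  rwa [map_conj_map_conj, inv_mul_cancel, map_conj_one] at h'

theorem gconj_eq_self_of_isClassFunction {β : G → ℂ} (hβ : IsClassFunction G β) (g : G) :
    gconj g β = β :=
  gconj_eq_self_iff.2 fun x => hβ x g

/-- The idempotent of a pair. -/
noncomputable def pairCoeff (a : BrauerPairIdx G) : G → ℂ :=
  subgroupBlockCoeff (Subgroup.centralizer (a.1 : Set G)) a.2

theorem pair_ext {a b : BrauerPairIdx G} (h : a.1 = b.1) (h2 : pairCoeff a = pairCoeff b) :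
    a = b := by
  obtain ⟨Q, f⟩ := a
  obtain ⟨R, r⟩ := b
  simp only at h
  subst h
  obtain rfl := subgroupBlockCoeff_injective h2
  rfl

/-- The conjugate of a pair. -/
def conjPair (g : G) (a : BrauerPairIdx G) : BrauerPairIdx G :=
  ⟨a.1.map (MulAut.conj g).toMonoidHom, conjBlock a.1 g a.2⟩

theorem pairCoeff_conjPair (g : G) (a : BrauerPairIdx G) :
    pairCoeff (conjPair g a) = gconj g (pairCoeff a) :=
  subgroupBlockCoeff_conjBlock a.1 g a.2

theorem conjPair_mul (g h : G) (a : BrauerPairIdx G) :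
    conjPair (g * h) a = conjPair g (conjPair h a) :=
  pair_ext (map_conj_map_conj a.1 g h).symm
    (by rw [pairCoeff_conjPair, pairCoeff_conjPair, pairCoeff_conjPair, gconj_mul])

theorem conjPair_one (a : BrauerPairIdx G) : conjPair 1 a = a :=
  pair_ext (map_conj_one a.1) (by rw [pairCoeff_conjPair, gconj_one])

theorem conjPair_inv_conjPair (g : G) (a : BrauerPairIdx G) :
    conjPair g⁻¹ (conjPair g a) = a := by
  rw [← conjPair_mul, inv_mul_cancel, conjPair_one]

theorem conjPair_conjPair_inv (g : G) (a : BrauerPairIdx G) :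
    conjPair g (conjPair g⁻¹ a) = a := by
  rw [← conjPair_mul, mul_inv_cancel, conjPair_one]

theorem conjBlock_nonempty_iff {Q : Subgroup G} {g : G}
    {f : Set (IrrCharacter (Subgroup.centralizer (Q : Set G)))}
    {ξ' : IrrCharacter (Subgroup.centralizer
      ((Q.map (MulAut.conj g).toMonoidHom : Subgroup G) : Set G))} :
    ξ' ∈ conjBlock Q g f ↔
      ∃ ξ ∈ f, transIrr (conjEquiv g (mem_centralizer_map_conj Q g)) ξ = ξ' := by
  rw [conjBlock_eq_transBlock]
  rfl

/-- The Brauer functional under conjugation. -/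
theorem brauerOmega_conj (Q : Subgroup G) (g : G) (β : G → ℂ)
    (ξ : IrrCharacter (Subgroup.centralizer (Q : Set G))) :
    brauerOmega (Q.map (MulAut.conj g).toMonoidHom) (gconj g β)
        (transIrr (conjEquiv g (mem_centralizer_map_conj Q g)) ξ :
          Subgroup.centralizer ((Q.map (MulAut.conj g).toMonoidHom : Subgroup G) : Set G) → ℂ) =
      brauerOmega Q β (ξ : Subgroup.centralizer (Q : Set G) → ℂ) := by
  set e := conjEquiv g (mem_centralizer_map_conj Q g)
  rw [brauerOmega, brauerOmega]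
  refine Eq.trans (finsum_comp_equiv e.toEquiv).symm (finsum_congr fun x => ?_)
  show gconj g β (e x) * _ / _ = _
  congr 1
  · congr 1
    · rw [gconj_apply, show ((e x : _) : G) = g * x * g⁻¹ from conjEquiv_coe g _ x]
      congr 1
      group
    · exact transIrr_apply e ξ x
  · rw [← map_one e]
    exact transIrr_apply e ξ 1

theorem isBrauerPair_conj {Q : Subgroup G}
    {f : Set (IrrCharacter (Subgroup.centralizer (Q : Set G)))}
    (h : IsBrauerPair p M Q f) (g : G) :
    IsBrauerPair p M (Q.map (MulAut.conj g).toMonoidHom) (conjBlock Q g f) :=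
  ⟨h.1.map _, isPBlock_conjBlock Q g h.2⟩

theorem isBrauerPairOf_conj {B : Set (IrrCharacter G)} {Q : Subgroup G}
    {f : Set (IrrCharacter (Subgroup.centralizer (Q : Set G)))}
    (h : IsBrauerPairOf p M B Q f) (g : G) :
    IsBrauerPairOf p M B (Q.map (MulAut.conj g).toMonoidHom) (conjBlock Q g f) := by
  refine ⟨isBrauerPair_conj h.1 g, h.2.1, fun ξ' hξ' => ?_⟩
  obtain ⟨ξ, hξ, rfl⟩ := conjBlock_nonempty_iff.1 hξ'
  have e := brauerOmega_conj Q g (blockCoeff B) ξ
  rw [gconj_eq_self_of_isClassFunction (isClassFunction_blockCoeff B)] at e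
  rw [e]
  exact h.2.2 ξ hξ

theorem isNormalSubpair_conj {Q P : Subgroup G}
    {f : Set (IrrCharacter (Subgroup.centralizer (Q : Set G)))}
    {e : Set (IrrCharacter (Subgroup.centralizer (P : Set G)))}
    (h : IsNormalSubpair p M Q f P e) (g : G) :
    IsNormalSubpair p M (Q.map (MulAut.conj g).toMonoidHom) (conjBlock Q g f)
      (P.map (MulAut.conj g).toMonoidHom) (conjBlock P g e) := by
  obtain ⟨h1, h2, hQP, hPN, hst, hone⟩ := h
  have hPN' : P.map (MulAut.conj g).toMonoidHom ≤
      Subgroup.normalizer ((Q.map (MulAut.conj g).toMonoidHom : Subgroup G) : Set G) :=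
    fun a ha => mem_normalizer_map_conj (hPN (mem_map_conj_iff.1 ha))
  refine ⟨isBrauerPair_conj h1 g, isBrauerPair_conj h2 g, Subgroup.map_mono hQP, hPN',
    fun a ha => ?_, fun ξ' hξ' => ?_⟩
  · rw [stabilizesBlock_iff (normalizer_le_normalizer_centralizer _ (hPN' ha)),
      subgroupBlockCoeff_conjBlock, ← gconj_mul, show a * g = g * (g⁻¹ * a * g) by group,
      gconj_mul, (stabilizesBlock_iff (normalizer_le_normalizer_centralizer _
        (hPN (mem_map_conj_iff.1 ha)))).1 (hst _ (mem_map_conj_iff.1 ha))]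
  · obtain ⟨ξ, hξ, rfl⟩ := conjBlock_nonempty_iff.1 hξ'
    rw [subgroupBlockCoeff_conjBlock, brauerOmega_conj]
    exact hone ξ hξ

theorem subpairLE_conj {Q P : Subgroup G}
    {f : Set (IrrCharacter (Subgroup.centralizer (Q : Set G)))}
    {e : Set (IrrCharacter (Subgroup.centralizer (P : Set G)))}
    (h : SubpairLE p M Q f P e) (g : G) :
    SubpairLE p M (Q.map (MulAut.conj g).toMonoidHom) (conjBlock Q g f)
      (P.map (MulAut.conj g).toMonoidHom) (conjBlock P g e) := by
  suffices key : ∀ a b : BrauerPairIdx G, Relation.ReflTransGen (NormalSubpairRel p M) a b →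
      Relation.ReflTransGen (NormalSubpairRel p M) (conjPair g a) (conjPair g b) from key _ _ h
  intro a b hab
  induction hab with
  | refl => exact Relation.ReflTransGen.refl
  | tail _ hs ih => exact ih.tail (isNormalSubpair_conj hs g)

end Cfsg.Agent.Lib.BrauerPairs
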