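import Cfsg.Agent.Lib.BrauerPairs.Conj

/-!
# Maximal Brauer pairs
-/

set_option autoImplicit false
set_option linter.unusedSectionVars false
set_option linter.style.haveILetI false

namespace Cfsg.Agent.Lib.BrauerPairs

open Cfsg Cfsg.Agent.Lib.Blocks Cfsg.Agent.Lib.Characters

universe u

variable {G : Type u} [Group G] [Fintype G] {M : Ideal AlgInt} [hMp : M.IsPrime] {p : ℕ}
  {P Q : Subgroup G} {B : Set (IrrCharacter G)}
  {e : Set (IrrCharacter (Subgroup.centralizer (P : Set G)))}

theorem eq_of_subpairLE_self (hM : IsPModular p M)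
    {f : Set (IrrCharacter (Subgroup.centralizer (P : Set G)))}
    (h : SubpairLE p M P f P e) : f = e := by
  rcases subpairLE_cases hM h with h1 | ⟨R, r, h1, -, h3⟩
  · simpa using h1
  · exact absurd (subpairLE_le h3) h1.not_ge

/-- Every pair of `B` lies below a maximal one. -/
theorem exists_maximal_above {f : Set (IrrCharacter (Subgroup.centralizer (Q : Set G)))}
    (h : IsBrauerPairOf p M B Q f) :
    ∃ (P : Subgroup G) (e : Set (IrrCharacter (Subgroup.centralizer (P : Set G)))),
      IsMaximalBrauerPair p M B P e ∧ SubpairLE p M Q f P e := by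
  classical
  let S : Set (BrauerPairIdx G) :=
    {a | IsBrauerPairOf p M B a.1 a.2 ∧ SubpairLE p M Q f a.1 a.2}
  have hbdd : BddAbove ((fun a : BrauerPairIdx G => Nat.card a.1) '' S) := by
    refine ⟨Nat.card G, ?_⟩
    rintro _ ⟨a, -, rfl⟩
    exact Subgroup.card_le_card_group a.1
  have hne : ((fun a : BrauerPairIdx G => Nat.card a.1) '' S).Nonempty :=
    ⟨_, ⟨Q, f⟩, ⟨h, Relation.ReflTransGen.refl⟩, rfl⟩
  obtain ⟨⟨P, e⟩, ⟨hPe, hle⟩, hmax⟩ := Nat.sSup_mem hne hbdd
  refine ⟨P, e, ⟨hPe, fun R g hRg hleR => ?_⟩, hle⟩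
  have h1 : Nat.card R ≤ Nat.card P := by
    show _ ≤ (fun a : BrauerPairIdx G => Nat.card a.1) ⟨P, e⟩
    rw [hmax]
    exact le_csSup hbdd ⟨⟨R, g⟩, ⟨hRg, subpairLE_trans hle hleR⟩, rfl⟩
  exact (Subgroup.eq_of_le_of_card_ge (subpairLE_le hleR) h1).symm

theorem isMaximalBrauerPair_conj (hmax : IsMaximalBrauerPair p M B P e) (g : G) :
    IsMaximalBrauerPair p M B (P.map (MulAut.conj g).toMonoidHom) (conjBlock P g e) := by
  refine ⟨isBrauerPairOf_conj hmax.1 g, fun R r hR hle => ?_⟩
  have h1 : Relation.ReflTransGen (NormalSubpairRel p M)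
      (conjPair g⁻¹ (conjPair g ⟨P, e⟩)) (conjPair g⁻¹ ⟨R, r⟩) := subpairLE_conj hle g⁻¹
  rw [conjPair_inv_conjPair] at h1
  have h2 := hmax.2 _ _ (isBrauerPairOf_conj hR g⁻¹) h1
  rw [← h2, map_conj_map_conj, mul_inv_cancel, map_conj_one]

/-- A stable block with unit coefficient at a point centralised by `S` has a pair above it. -/
theorem exists_normalStep_above (hM : IsPModular p M) {S : Subgroup G} (hS : IsPGroup p S)
    (hQS : Q ≤ S) (hSN : S ≤ Subgroup.normalizer (Q : Set G))
    {f : Set (IrrCharacter (Subgroup.centralizer (Q : Set G)))} (hf : IsPBlock M f)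
    (hst : ∀ a ∈ S, StabilizesBlock (Subgroup.centralizer (Q : Set G)) f a)
    {x : G} (hx : x ∈ Subgroup.centralizer (S : Set G))
    (hne : ¬ MemLocalIdeal M (subgroupBlockCoeff (Subgroup.centralizer (Q : Set G)) f x)) :
    ∃ r : Set (IrrCharacter (Subgroup.centralizer (S : Set G))),
      IsNormalSubpair p M Q f S r := by
  classical
  haveI := Fact.mk hM.1
  have hI := isLocInv_subgroupBlockCoeff hM hQS hSN hf hst
  set b := resFun (Subgroup.centralizer (S : Set G))
    (subgroupBlockCoeff (Subgroup.centralizer (Q : Set G)) f) with hb_def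
  have hb : IsRCentral M b := hI.isRCentral_res
  have hbb : ∀ y, MemLocalIdeal M (b y - conv b b y) := fun y => by
    have h1 := resFun_conv_congr hM hS hI hI y
    rwa [conv_subgroupBlockCoeff_self] at h1
  obtain ⟨ζ, hζ⟩ : ∃ ζ : IrrCharacter (Subgroup.centralizer (S : Set G)),
      ¬ MemLocalIdeal M (omega (ζ : Subgroup.centralizer (S : Set G) → ℂ) b) := by
    by_contra hcon
    simp only [not_exists, not_not] at hcon
    obtain ⟨N, hN⟩ := exists_convPow_memLocalIdeal hM hb hcon
    have hpow : ∀ n y, MemLocalIdeal M (convPow b (n + 1) y - b y) := by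
      intro n
      induction n with
      | zero =>
        intro y
        rw [show convPow b 1 = b from (conv_comm deltaOne hb.1).trans (deltaOne_conv b), sub_self]
        exact memLocalIdeal_zero
      | succ n ih =>
        intro y
        have h1 := memLocalIdeal_conv_congr (f := b) (g := b) (g' := b) hb.2 hb.2
          (fun z => by rw [sub_self]; exact memLocalIdeal_zero) ih y
        have h2 := memLocalIdeal_sub h1 (hbb y)
        rw [convPow]
        convert h2 using 1
        ring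
    have h3 := memLocalIdeal_sub (hN (N + 1) (by omega) ⟨x, hx⟩) (hpow N ⟨x, hx⟩)
    rw [sub_sub_cancel] at h3
    exact hne h3
  rw [hb_def, ← brauerOmega_eq_omega] at hζ
  have hone := (brauerOmega_idem hM hS hI (conv_subgroupBlockCoeff_self f) ζ).resolve_left hζ
  exact ⟨_, isNormalSubpair_of_exists hM hQS hSN hf ⟨hS, isPBlock_blockOf ζ⟩ hst
    (self_mem_blockOf ζ) hone⟩

/-! ### The orbit of a block under the normaliser -/

/-- The blocks conjugate to `e` under the normaliser of `P`. -/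
def IsOrbitBlock (e f : Set (IrrCharacter (Subgroup.centralizer (P : Set G)))) : Prop :=
  ∃ g ∈ Subgroup.normalizer (P : Set G),
    gconj g (subgroupBlockCoeff (Subgroup.centralizer (P : Set G)) e) =
      subgroupBlockCoeff (Subgroup.centralizer (P : Set G)) f

theorem pair_eq_of_isOrbitBlock {f : Set (IrrCharacter (Subgroup.centralizer (P : Set G)))}
    {g : G} (hg : g ∈ Subgroup.normalizer (P : Set G))
    (h : gconj g (subgroupBlockCoeff (Subgroup.centralizer (P : Set G)) e) =
      subgroupBlockCoeff (Subgroup.centralizer (P : Set G)) f) :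
    (⟨P, f⟩ : BrauerPairIdx G) = conjPair g ⟨P, e⟩ :=
  pair_ext (map_conj_of_mem_normalizer hg).symm ((pairCoeff_conjPair g ⟨P, e⟩).trans h).symm

open scoped Classical in
/-- The sum of the idempotents of the conjugates of `e`. -/
noncomputable def orbitCoeff (M : Ideal AlgInt)
    (e : Set (IrrCharacter (Subgroup.centralizer (P : Set G)))) : G → ℂ :=
  letI := Fintype.ofFinite (Bl M (Subgroup.centralizer (P : Set G)))
  ∑ f ∈ Finset.univ.filter
      (fun f : Bl M (Subgroup.centralizer (P : Set G)) => IsOrbitBlock e f.1),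
    subgroupBlockCoeff (Subgroup.centralizer (P : Set G)) f.1

theorem orbitCoeff_conj {a : G} (ha : a ∈ Subgroup.normalizer (P : Set G)) (x : G) :
    orbitCoeff M e (a * x * a⁻¹) = orbitCoeff M e x := by
  classical
  letI := Fintype.ofFinite (Bl M (Subgroup.centralizer (P : Set G)))
  have hmem : ∀ b ∈ Subgroup.normalizer (P : Set G), ∀ y,
      y ∈ Subgroup.centralizer (P : Set G) ↔ b⁻¹ * y * b ∈ Subgroup.centralizer (P : Set G) :=
    fun b hb => mem_centralizer_conj_iff hb
  let act : ∀ b ∈ Subgroup.normalizer (P : Set G), Bl M (Subgroup.centralizer (P : Set G)) →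
      Bl M (Subgroup.centralizer (P : Set G)) := fun b hb f =>
    ⟨transBlock (conjEquiv b (hmem b hb)) f.1, isPBlock_transBlock _ f.2⟩
  have hcoe : ∀ b hb f, subgroupBlockCoeff (Subgroup.centralizer (P : Set G)) (act b hb f).1 =
      gconj b (subgroupBlockCoeff (Subgroup.centralizer (P : Set G)) f.1) :=
    fun b hb f => subgroupBlockCoeff_transBlock _ (hmem b hb) f.1
  have horb : ∀ b hb f, IsOrbitBlock e f.1 → IsOrbitBlock e (act b hb f).1 := by
    rintro b hb f ⟨g, hg, h⟩
    exact ⟨b * g, mul_mem hb hg, by rw [gconj_mul, h, hcoe b hb]⟩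
  unfold orbitCoeff
  rw [Finset.sum_apply, Finset.sum_apply]
  refine Finset.sum_nbij' (act a⁻¹ (inv_mem ha)) (act a ha) ?_ ?_ ?_ ?_ ?_
  · intro f hf
    simp only [Finset.mem_filter, Finset.mem_univ, true_and] at hf ⊢
    exact horb a⁻¹ (inv_mem ha) f hf
  · intro f hf
    simp only [Finset.mem_filter, Finset.mem_univ, true_and] at hf ⊢
    exact horb a ha f hf
  · intro f _
    refine Subtype.ext (subgroupBlockCoeff_injective ?_)
    rw [hcoe a ha, hcoe a⁻¹ (inv_mem ha), ← gconj_mul, mul_inv_cancel, gconj_one]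
  · intro f _
    refine Subtype.ext (subgroupBlockCoeff_injective ?_)
    rw [hcoe a⁻¹ (inv_mem ha), hcoe a ha, ← gconj_mul, inv_mul_cancel, gconj_one]
  · intro f _
    rw [hcoe a⁻¹ (inv_mem ha), gconj_apply, inv_inv]

theorem orbitCoeff_eq_zero {x : G} (hx : x ∉ Subgroup.centralizer (P : Set G)) :
    orbitCoeff M e x = 0 := by
  classical
  unfold orbitCoeff
  rw [Finset.sum_apply]
  exact Finset.sum_eq_zero fun f _ => subgroupBlockCoeff_of_notMem f.1 hx

theorem centralizer_le_normalizer' (P : Subgroup G) :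
    Subgroup.centralizer (P : Set G) ≤ Subgroup.normalizer (P : Set G) := by
  intro a ha
  rw [Subgroup.mem_normalizer_iff]
  intro x
  constructor
  · intro hx
    rwa [← mem_centralizer_subgroup_iff.1 ha x hx, mul_inv_cancel_right]
  · intro hx
    have h := mem_centralizer_subgroup_iff.1 ha _ hx
    have h2 : a * x * a⁻¹ = x := by
      have h3 := congrArg (fun t => a⁻¹ * t) h
      simp only [mul_assoc, inv_mul_cancel, mul_one, inv_mul_cancel_left] at h3
      simpa [mul_assoc] using h3.symm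
    rwa [h2] at hx

theorem isLocInv_orbitCoeff (hM : IsPModular p M) : IsLocInv M P (orbitCoeff M e) := by
  classical
  refine ⟨fun x => ?_, fun a ha => orbitCoeff_conj (Subgroup.le_normalizer ha),
    fun a ha => orbitCoeff_conj (centralizer_le_normalizer' P ha)⟩
  unfold orbitCoeff
  rw [Finset.sum_apply]
  exact memLocalRing_sum _ fun f _ => memLocalRing_subgroupBlockCoeff hM f.2 x

theorem brauerOmega_orbitCoeff {e' : Set (IrrCharacter (Subgroup.centralizer (P : Set G)))}
    (he' : IsPBlock M e') [Decidable (IsOrbitBlock e e')]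
    {ξ : IrrCharacter (Subgroup.centralizer (P : Set G))} (hξ : ξ ∈ e') :
    brauerOmega P (orbitCoeff M e) (ξ : Subgroup.centralizer (P : Set G) → ℂ) =
      if IsOrbitBlock e e' then 1 else 0 := by
  classical
  letI := Fintype.ofFinite (Bl M (Subgroup.centralizer (P : Set G)))
  unfold orbitCoeff
  rw [brauerOmega_sum, Finset.sum_filter, Finset.sum_eq_single ⟨e', he'⟩]
  · rw [brauerOmega_eq_omega, resFun_subgroupBlockCoeff, omega_blockCoeff, if_pos hξ]
    congr!
  · intro f _ hne
    split_ifs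
    · rw [brauerOmega_eq_omega, resFun_subgroupBlockCoeff, omega_blockCoeff,
        if_neg fun h => hne (Subtype.ext (IsPBlock.eq_of_mem f.2 he' h hξ))]
    · rfl
  · exact fun h => absurd (Finset.mem_univ _) h

/-- **The key property of a maximal pair**: where the orbit idempotent is a unit, `P` is a Sylow
subgroup of the centraliser. -/
theorem exists_sylowSub_eq (hM : IsPModular p M) (hmax : IsMaximalBrauerPair p M B P e)
    {x : G} (hx : x ∈ Subgroup.centralizer (P : Set G))
    (hv : ¬ MemLocalIdeal M (orbitCoeff M e x)) :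
    ∃ D : Sylow p (Subgroup.centralizer ({x} : Set G)), sylowSub D = P := by
  classical
  haveI := Fact.mk hM.1
  letI := Fintype.ofFinite (Bl M (Subgroup.centralizer (P : Set G)))
  have hP : IsPGroup p P := hmax.1.1.1
  have hPx : P ≤ Subgroup.centralizer ({x} : Set G) := le_centralizer_singleton_iff.2 hx
  obtain ⟨D, hD⟩ := (hP.of_equiv (Subgroup.subgroupOfEquivOfLe hPx).symm).exists_le_sylow
  refine ⟨D, ?_⟩
  by_contra hne
  have hPD : P ≤ sylowSub D := fun y hy =>
    ⟨⟨y, hPx hy⟩, hD (Subgroup.mem_subgroupOf.2 hy), rfl⟩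
  have hlt := lt_inf_normalizer (isPGroup_sylowSub D) (lt_of_le_of_ne hPD (Ne.symm hne))
  set S := sylowSub D ⊓ Subgroup.normalizer (P : Set G) with hSdef
  have hS : IsPGroup p S := (isPGroup_sylowSub D).to_le inf_le_left
  have hSN : S ≤ Subgroup.normalizer (P : Set G) := inf_le_right
  have hxS : x ∈ Subgroup.centralizer (S : Set G) :=
    le_centralizer_singleton_iff.1 (inf_le_left.trans (sylowSub_le D))
  let O := {f : Bl M (Subgroup.centralizer (P : Set G)) // IsOrbitBlock e f.1}
  have hmem : ∀ a : S, ∀ y, y ∈ Subgroup.centralizer (P : Set G) ↔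
      (a : G)⁻¹ * y * (a : G) ∈ Subgroup.centralizer (P : Set G) := fun a =>
    mem_centralizer_conj_iff (hSN a.2)
  let act : S → O → O := fun a f =>
    ⟨⟨transBlock (conjEquiv (a : G) (hmem a)) f.1.1, isPBlock_transBlock _ f.1.2⟩, by
      obtain ⟨g, hg, h⟩ := f.2
      exact ⟨(a : G) * g, mul_mem (hSN a.2) hg, by
        rw [gconj_mul, h, subgroupBlockCoeff_transBlock _ (hmem a)]⟩⟩
  have hcoe : ∀ a f, subgroupBlockCoeff (Subgroup.centralizer (P : Set G)) (act a f).1.1 =
      gconj (a : G) (subgroupBlockCoeff (Subgroup.centralizer (P : Set G)) f.1.1) :=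
    fun a f => subgroupBlockCoeff_transBlock _ (hmem a) f.1.1
  letI : MulAction S O :=
    { smul := act
      one_smul := fun f => Subtype.ext <| Subtype.ext <| subgroupBlockCoeff_injective <| by
        show subgroupBlockCoeff _ (act 1 f).1.1 = _
        rw [hcoe, OneMemClass.coe_one, gconj_one]
      mul_smul := fun a b f => Subtype.ext <| Subtype.ext <| subgroupBlockCoeff_injective <| by
        show subgroupBlockCoeff _ (act (a * b) f).1.1 = subgroupBlockCoeff _ (act a (act b f)).1.1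
        rw [hcoe, hcoe, hcoe, Subgroup.coe_mul, gconj_mul] }
  let F : O → ℂ := fun f => subgroupBlockCoeff (Subgroup.centralizer (P : Set G)) f.1.1 x
  have hcong := memLocalIdeal_sum_sub_sum_fixed hM hS F
    (fun f => memLocalRing_subgroupBlockCoeff hM f.1.2 x) (fun a f => by
      show subgroupBlockCoeff _ (act a f).1.1 x = _
      rw [hcoe, gconj_apply, mul_assoc, ← mem_centralizer_subgroup_iff.1 hxS a a.2,
        inv_mul_cancel_left])
  have hsum : ∑ f, F f = orbitCoeff M e x := by
    unfold orbitCoeff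
    rw [Finset.sum_apply]
    exact (Finset.sum_subtype _ (fun f => by simp) fun f : Bl M _ =>
      subgroupBlockCoeff (Subgroup.centralizer (P : Set G)) f.1 x).symm
  obtain ⟨f, hf, hfx⟩ : ∃ f, f ∈ MulAction.fixedPoints S O ∧ ¬ MemLocalIdeal M (F f) := by
    by_contra hcon
    simp only [not_exists, not_and, not_not] at hcon
    apply hv
    rw [← hsum, memLocalIdeal_iff_of_sub hcong]
    refine memLocalIdeal_sum _ fun i _ => ?_
    split_ifs with h
    · exact hcon i h
    · exact memLocalIdeal_zero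
  have hst : ∀ a ∈ S, StabilizesBlock (Subgroup.centralizer (P : Set G)) f.1.1 a := by
    intro a ha
    rw [stabilizesBlock_iff (normalizer_le_normalizer_centralizer P (hSN ha)), ← hcoe ⟨a, ha⟩ f]
    exact congrArg (fun g : O => subgroupBlockCoeff _ g.1.1) (hf ⟨a, ha⟩)
  obtain ⟨r, hr⟩ := exists_normalStep_above hM hS hlt.le hSN f.1.2 hst hxS hfx
  obtain ⟨g, hg, hge⟩ := f.2
  have heq := pair_eq_of_isOrbitBlock hg hge
  have hof : IsBrauerPairOf p M B P f.1.1 := by
    have h1 : IsBrauerPairOf p M B (conjPair g ⟨P, e⟩).1 (conjPair g ⟨P, e⟩).2 :=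
      isBrauerPairOf_conj hmax.1 g
    rwa [← heq] at h1
  have hrof := (isBrauerPairOf_iff_of_subpairLE hM hr.2.1 (subpairLE_single hr) hmax.1.2.1).2 hof
  have h2 : Relation.ReflTransGen (NormalSubpairRel p M) (conjPair g⁻¹ ⟨P, f.1.1⟩)
      (conjPair g⁻¹ ⟨S, r⟩) := subpairLE_conj (subpairLE_single hr) g⁻¹
  rw [heq, conjPair_inv_conjPair] at h2
  have h3 := hmax.2 _ _ (isBrauerPairOf_conj hrof g⁻¹) h2
  have h4 := card_lt_card_subgroup hlt
  have h5 : Nat.card (conjPair g⁻¹ ⟨S, r⟩).1 = Nat.card S := card_map_conj S g⁻¹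
  rw [show (conjPair g⁻¹ ⟨S, r⟩).1 = P from h3] at h5
  omega

/-- Fusion in `C(P)` of such points is controlled by the normaliser. -/
theorem exists_normalizer_conj (hM : IsPModular p M) (hP : IsPGroup p P) {x g : G}
    (hD : ∃ D : Sylow p (Subgroup.centralizer ({x} : Set G)), sylowSub D = P)
    (hg : g * x * g⁻¹ ∈ Subgroup.centralizer (P : Set G)) :
    ∃ n ∈ Subgroup.normalizer (P : Set G), n * x * n⁻¹ = g * x * g⁻¹ := by
  haveI := Fact.mk hM.1
  obtain ⟨D, hD⟩ := hD
  have hle : P.map (MulAut.conj g⁻¹).toMonoidHom ≤ Subgroup.centralizer ({x} : Set G) := by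
    intro y hy
    rw [mem_map_conj_iff, inv_inv] at hy
    rw [Subgroup.mem_centralizer_singleton_iff]
    have h := mem_centralizer_subgroup_iff.1 hg _ hy
    have h2 := congrArg (fun t => g⁻¹ * t * g) h
    simpa [mul_assoc] using h2
  obtain ⟨c, hc, hcle⟩ := exists_conj_le_sylowSub D (hP.map _) hle
  rw [hD, map_conj_map_conj] at hcle
  have heq : P.map (MulAut.conj (c * g⁻¹)).toMonoidHom = P :=
    Subgroup.eq_of_le_of_card_ge hcle (card_map_conj P _).ge
  refine ⟨(c * g⁻¹)⁻¹, inv_mem ?_, ?_⟩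
  · rw [Subgroup.mem_normalizer_iff]
    intro y
    conv_rhs => rw [← heq, mem_map_conj_iff]
    rw [show (c * g⁻¹)⁻¹ * (c * g⁻¹ * y * (c * g⁻¹)⁻¹) * (c * g⁻¹) = y by group]
  · have h := Subgroup.mem_centralizer_singleton_iff.1 hc
    simp only [mul_inv_rev, inv_inv]
    calc g * c⁻¹ * x * (c * g⁻¹) = g * (c⁻¹ * (x * c)) * g⁻¹ := by group
      _ = g * (c⁻¹ * (c * x)) * g⁻¹ := by rw [h]
      _ = g * x * g⁻¹ := by group

/-- The orbit idempotent agrees modulo `M` on `C(P)` with a class function of `G`. -/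
theorem exists_classFunction_congr (hM : IsPModular p M) (hmax : IsMaximalBrauerPair p M B P e) :
    ∃ F : G → ℂ, IsRCentral M F ∧
      (∀ c ∈ Subgroup.centralizer (P : Set G), MemLocalIdeal M (F c - orbitCoeff M e c)) ∧
      ∀ x, ¬ MemLocalIdeal M (F x) → ∃ c, IsConj x c ∧
        ∃ D : Sylow p (Subgroup.centralizer ({c} : Set G)), sylowSub D = P := by
  classical
  let U : Set G := {c | c ∈ Subgroup.centralizer (P : Set G) ∧
    ¬ MemLocalIdeal M (orbitCoeff M e c)}
  have hU : ∀ c ∈ U, ∀ c', IsConj c c' → c' ∈ Subgroup.centralizer (P : Set G) →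
      orbitCoeff M e c' = orbitCoeff M e c := by
    intro c hc c' hcc hc'
    obtain ⟨g, rfl⟩ := isConj_iff.1 hcc
    obtain ⟨n, hn, hn'⟩ :=
      exists_normalizer_conj hM hmax.1.1.1 (exists_sylowSub_eq hM hmax hc.1 hc.2) hc'
    rw [← hn', orbitCoeff_conj hn]
  let F : G → ℂ := fun x => if h : ∃ c ∈ U, IsConj x c then orbitCoeff M e h.choose else 0
  have hF : ∀ x c, c ∈ U → IsConj x c → F x = orbitCoeff M e c := by
    intro x c hc hxc
    have h : ∃ c ∈ U, IsConj x c := ⟨c, hc, hxc⟩
    simp only [F, dif_pos h]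
    exact hU c hc _ (hxc.symm.trans h.choose_spec.2) h.choose_spec.1.1
  have hF0 : ∀ x, (¬ ∃ c ∈ U, IsConj x c) → F x = 0 := fun x h => dif_neg h
  refine ⟨F, ⟨fun g h => ?_, fun x => ?_⟩, fun c hc => ?_, fun x hx => ?_⟩
  · have hconj : IsConj g (h * g * h⁻¹) := isConj_iff.2 ⟨h, rfl⟩
    by_cases hex : ∃ c ∈ U, IsConj g c
    · obtain ⟨c, hc, hgc⟩ := hex
      rw [hF g c hc hgc, hF _ c hc (hconj.symm.trans hgc)]
    · rw [hF0 g hex, hF0 _ fun ⟨c, hc, hcc⟩ => hex ⟨c, hc, hconj.trans hcc⟩]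
  · by_cases hex : ∃ c ∈ U, IsConj x c
    · obtain ⟨c, hc, hxc⟩ := hex
      rw [hF x c hc hxc]
      exact (isLocInv_orbitCoeff hM).ring c
    · rw [hF0 x hex]; exact memLocalRing_zero
  · by_cases hex : ∃ c' ∈ U, IsConj c c'
    · obtain ⟨c', hc', hcc⟩ := hex
      rw [hF c c' hc' hcc, hU c' hc' c hcc.symm hc, sub_self]
      exact memLocalIdeal_zero
    · rw [hF0 c hex, zero_sub]
      refine memLocalIdeal_neg ?_
      by_contra hv
      exact hex ⟨c, ⟨hc, hv⟩, IsConj.refl c⟩
  · by_cases hex : ∃ c ∈ U, IsConj x c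
    · obtain ⟨c, hc, hxc⟩ := hex
      exact ⟨c, hxc, exists_sylowSub_eq hM hmax hc.1 hc.2⟩
    · exact absurd (hF0 x hex ▸ memLocalIdeal_zero) hx

/-- Pairs at `P` of the block of a maximal pair are conjugate to it. -/
theorem isOrbitBlock_of_isBrauerPairOf (hM : IsPModular p M)
    (hmax : IsMaximalBrauerPair p M B P e)
    {e' : Set (IrrCharacter (Subgroup.centralizer (P : Set G)))}
    (he' : IsBrauerPairOf p M B P e') : IsOrbitBlock e e' := by
  classical
  obtain ⟨F, hF, hFv, -⟩ := exists_classFunction_congr hM hmax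
  obtain ⟨ξ, hξ⟩ := IsPBlock.nonempty hmax.1.1.2
  obtain ⟨ξ', hξ'⟩ := IsPBlock.nonempty he'.1.2
  obtain ⟨χ, hχ⟩ := IsPBlock.nonempty hmax.1.2.1
  have h1 := brauerOmega_congr_omega hM hmax.1 hξ hχ hF
  have h2 := brauerOmega_congr_omega hM he' hξ' hχ hF
  have hI := (IsLocInv.of_isRCentral (P := P) hF).sub (isLocInv_orbitCoeff (e := e) hM)
  have h3 := memLocalIdeal_brauerOmega hI (fun x hx => hFv x hx) ξ
  have h4 := memLocalIdeal_brauerOmega hI (fun x hx => hFv x hx) ξ'
  have hee : IsOrbitBlock e e := ⟨1, one_mem _, gconj_one _⟩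
  rw [brauerOmega_sub, brauerOmega_orbitCoeff hmax.1.1.2 hξ,
    if_pos hee] at h3
  rw [brauerOmega_sub, brauerOmega_orbitCoeff he'.1.2 hξ'] at h4
  by_contra hno
  rw [if_neg hno] at h4
  have h5 := memLocalIdeal_sub (memLocalIdeal_sub h1 h2) (memLocalIdeal_sub h3 h4)
  refine not_memLocalIdeal_one (M := M) ?_
  convert h5 using 1
  ring

/-- **The subgroup of a maximal pair is a defect group.** -/
theorem isDefectGroup_of_isMaximal (hM : IsPModular p M)
    (hmax : IsMaximalBrauerPair p M B P e) : IsDefectGroup p M B P := by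
  classical
  haveI := Fact.mk hM.1
  haveI : Finite (ConjClasses G) := Finite.of_surjective _ ConjClasses.mk_surjective
  haveI := Fintype.ofFinite (ConjClasses G)
  obtain ⟨F, hF, hFv, hFgood⟩ := exists_classFunction_congr hM hmax
  obtain ⟨ξ, hξ⟩ := IsPBlock.nonempty hmax.1.1.2
  have hB := hmax.1.2.1
  obtain ⟨χ, hχ⟩ := IsPBlock.nonempty hB
  have h1 := brauerOmega_congr_omega hM hmax.1 hξ hχ hF
  have hI := (IsLocInv.of_isRCentral (P := P) hF).sub (isLocInv_orbitCoeff (e := e) hM)
  have h3 := memLocalIdeal_brauerOmega hI (fun x hx => hFv x hx) ξ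
  have hee : IsOrbitBlock e e := ⟨1, one_mem _, gconj_one _⟩
  rw [brauerOmega_sub, brauerOmega_orbitCoeff hmax.1.1.2 hξ,
    if_pos hee] at h3
  have h5 := memLocalIdeal_sub h3 h1
  rw [sub_sub_sub_cancel_left] at h5
  obtain ⟨x, hx, hxω⟩ : ∃ x, ¬ MemLocalIdeal M (F x) ∧
      ¬ MemLocalIdeal M (centralChar (χ : G → ℂ) x) := by
    by_contra hcon
    simp only [not_exists, not_and, not_not] at hcon
    refine not_memLocalIdeal_of_sub not_memLocalIdeal_one h5 ?_
    rw [omega_eq_sum_classes (irr_isClassFunction χ) hF.1]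
    refine memLocalIdeal_sum _ fun C _ => ?_
    by_cases hc : MemLocalIdeal M (F (Quotient.out C))
    · exact memLocalIdeal_mul_right hc (memLocalRing_centralChar χ _)
    · exact memLocalIdeal_mul_left (hF.2 _) (hcon _ hc)
  obtain ⟨c, hxc, D, hD⟩ := hFgood x hx
  obtain ⟨a, rfl⟩ := isConj_iff.1 hxc
  rw [← centralChar_conj χ a x] at hxω
  obtain ⟨E, hE⟩ := exists_isDefectGroup hM hB
  obtain ⟨d, hd, R, rfl⟩ := id hE
  have hle1 := isConjLE_of_omega hM hB hd R D hχ hxω
  rw [hD] at hle1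
  obtain ⟨c, hc, hcE⟩ : ∃ c ∈ Subgroup.centralizer (P : Set G),
      ¬ MemLocalIdeal M (blockCoeff B c) := by
    by_contra hcon
    simp only [not_exists, not_and, not_not] at hcon
    exact not_memLocalIdeal_of_sub not_memLocalIdeal_one (hmax.1.2.2 ξ hξ)
      (memLocalIdeal_brauerOmega (IsLocInv.of_isRCentral (isRCentral_blockCoeff hM hB)) hcon ξ)
  have hle2 := isConjLE_of_coeff hM hB hd R hmax.1.1.1 hc hcE
  obtain ⟨g, hg⟩ := hle1.exists_eq hle2.card_le
  exact hg ▸ IsDefectGroup.map_conj hE g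

/-- **Conjugacy of maximal pairs.** -/
theorem exists_conjPair_eq (hM : IsPModular p M) (hmax : IsMaximalBrauerPair p M B P e)
    {P' : Subgroup G} {e' : Set (IrrCharacter (Subgroup.centralizer (P' : Set G)))}
    (hmax' : IsMaximalBrauerPair p M B P' e') :
    ∃ x : G, conjPair x ⟨P', e'⟩ = ⟨P, e⟩ := by
  classical
  haveI := Fact.mk hM.1
  obtain ⟨a, rfl⟩ := IsDefectGroup.exists_map_conj_eq hM hmax.1.2.1
    (isDefectGroup_of_isMaximal hM hmax') (isDefectGroup_of_isMaximal hM hmax)
  obtain ⟨g, hg, hge⟩ := isOrbitBlock_of_isBrauerPairOf hM hmax (isBrauerPairOf_conj hmax'.1 a)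
  refine ⟨g⁻¹ * a, ?_⟩
  rw [conjPair_mul, show conjPair a ⟨P', e'⟩ = conjPair g ⟨_, e⟩ from
    pair_eq_of_isOrbitBlock hg hge, conjPair_inv_conjPair]

/-- Every pair of the block is conjugate to one below a given maximal pair. -/
theorem exists_conj_subpairLE (hM : IsPModular p M) (hmax : IsMaximalBrauerPair p M B P e)
    {f : Set (IrrCharacter (Subgroup.centralizer (Q : Set G)))}
    (hf : IsBrauerPairOf p M B Q f) :
    ∃ x : G, SubpairLE p M (Q.map (MulAut.conj x).toMonoidHom) (conjBlock Q x f) P e := by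
  obtain ⟨P', e', hmax', hle⟩ := exists_maximal_above hf
  obtain ⟨x, hx⟩ := exists_conjPair_eq hM hmax hmax'
  refine ⟨x, ?_⟩
  have h := subpairLE_conj hle x
  show Relation.ReflTransGen (NormalSubpairRel p M) _ _
  rw [← hx]
  exact h

end Cfsg.Agent.Lib.BrauerPairs
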