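import Cfsg.Agent.Lib.BrauerPairs.PIndex
import Cfsg.Agent.Lib.BrauerPairs.Consequences

/-!
# Nilpotent blocks over a normal subgroup of `p`-power index
-/

set_option autoImplicit false
set_option linter.unusedSectionVars false
set_option linter.style.haveILetI false

namespace Cfsg.Agent.Lib.BrauerPairs

open Cfsg Cfsg.Agent.Lib.Blocks Cfsg.Agent.Lib.Characters

universe u

variable {G : Type u} [Group G] [Fintype G] {M : Ideal AlgInt} [hMp : M.IsPrime] {p : ℕ}
variable {N : Subgroup G} [hN : N.Normal] [Fintype N]

/-- The two ways of seeing `C(R) ∩ N`. -/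
def interEquiv {R' : Subgroup N} {R : Subgroup G} (hR : R'.map N.subtype = R) :
    Subgroup.centralizer (R' : Set N) ≃* N.subgroupOf (Subgroup.centralizer (R : Set G)) where
  toFun x := ⟨⟨((x : N) : G), by rw [← hR]; exact mem_centralizer_map_subtype.2 x.2⟩, (x : N).2⟩
  invFun y := ⟨⟨((y : Subgroup.centralizer (R : Set G)) : G), y.2⟩,
    mem_centralizer_map_subtype.1 (by rw [hR]; exact (y : Subgroup.centralizer (R : Set G)).2)⟩
  left_inv _ := rfl
  right_inv _ := rfl
  map_mul' _ _ := rfl

theorem brauerOmega_interEquiv {R' : Subgroup N} {R : Subgroup G} (hR : R'.map N.subtype = R)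
    [Fintype (Subgroup.centralizer (R : Set G))]
    [Fintype (N.subgroupOf (Subgroup.centralizer (R : Set G)))] (F : G → ℂ)
    (η : IrrCharacter (Subgroup.centralizer (R' : Set N))) :
    brauerOmega R' (resFun N F) (η : Subgroup.centralizer (R' : Set N) → ℂ) =
      omega (transIrr (interEquiv hR) η : N.subgroupOf (Subgroup.centralizer (R : Set G)) → ℂ)
        (resFun (N.subgroupOf (Subgroup.centralizer (R : Set G)))
          (resFun (Subgroup.centralizer (R : Set G)) F)) := by
  classical
  rw [brauerOmega_eq_omega, omega, omega,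
    show (transIrr (interEquiv hR) η).1 1 = η.1 1 from by
      rw [← map_one (interEquiv hR), transIrr_apply]]
  congr 1
  refine Fintype.sum_equiv (interEquiv hR).toEquiv _ _ fun x => ?_
  rw [show (transIrr (interEquiv hR) η).1 ((interEquiv hR).toEquiv x) = η.1 x from
    transIrr_apply _ η x]
  rfl

theorem exists_index_inter (hM : IsPModular p M) {k : ℕ} (hk : N.index = p ^ k) (R : Subgroup G) :
    ∃ j, (N.subgroupOf (Subgroup.centralizer (R : Set G))).index = p ^ j := by
  obtain ⟨j, -, hj⟩ := (Nat.dvd_prime_pow hM.1).1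
    (hk ▸ Subgroup.relIndex_dvd_index_of_normal (H := N) (Subgroup.centralizer (R : Set G)))
  exact ⟨j, hj⟩

/-- A power of `k * x` which is `p`-regular and congruent to `x` modulo a subgroup normalised
by `x`. -/
theorem exists_regular_twist (hp : p.Prime) {C : Subgroup G} {x k : G}
    (hx : ¬ p ∣ orderOf x) (hk : k ∈ C)
    (hxC : x ∈ Subgroup.normalizer (C : Set G)) :
    ∃ n : ℕ, ¬ p ∣ orderOf ((k * x) ^ n) ∧ (k * x) ^ n * x⁻¹ ∈ C := by
  set a := (orderOf (k * x)).factorization p with ha
  have hcop : Nat.Coprime (p ^ a) (orderOf x) := (hp.coprime_iff_not_dvd.2 hx).pow_left a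
  obtain ⟨u, hu⟩ : ∃ u : ℕ, x ^ (p ^ a * u) = x := by
    obtain ⟨u, hu⟩ := exists_pow_eq_self_of_coprime (x := x) hcop
    exact ⟨u, by rw [pow_mul]; exact hu⟩
  refine ⟨p ^ a * u, ?_, ?_⟩
  · intro hd
    have h1 : orderOf ((k * x) ^ (p ^ a * u)) ∣ orderOf ((k * x) ^ p ^ a) := by
      rw [pow_mul]; exact orderOf_pow_dvd u
    have h0 : orderOf (k * x) ≠ 0 := (orderOf_pos _).ne'
    have h2 := hd.trans h1
    rw [orderOf_pow_of_dvd (pow_ne_zero _ hp.ne_zero) (Nat.ordProj_dvd _ p)] at h2
    exact Nat.not_dvd_ordCompl hp h0 h2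
  · have key : ∀ n : ℕ, (k * x) ^ n * (x ^ n)⁻¹ ∈ C := by
      intro n
      induction n with
      | zero => simp
      | succ n ih =>
        have h2 : (k * x) ^ (n + 1) * (x ^ (n + 1))⁻¹ =
            k * (x * ((k * x) ^ n * (x ^ n)⁻¹) * x⁻¹) := by
          rw [pow_succ' (k * x), pow_succ' x]; group
        rw [h2]
        exact mul_mem hk ((Subgroup.mem_normalizer_iff.1 hxC _).1 ih)
    have := key (p ^ a * u)
    rwa [hu] at this

/-- An element of `p`-regular order centralising `Q ∩ N` and normalising `Q` centralises `Q`,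
when it lies in the normal subgroup `N`. -/
theorem mem_centralizer_of_inf {Q : Subgroup G} (hQ : IsPGroup p Q) (hp : p.Prime) {x : G}
    (hxN : x ∈ N) (hxQ : x ∈ Subgroup.normalizer (Q : Set G)) (hx : ¬ p ∣ orderOf x)
    (hxR : x ∈ Subgroup.centralizer ((Q ⊓ N : Subgroup G) : Set G)) :
    x ∈ Subgroup.centralizer (Q : Set G) := by
  rw [Subgroup.mem_centralizer_iff]
  intro q hq
  set r := x * q * x⁻¹ * q⁻¹ with hr
  have hrQ : r ∈ Q := mul_mem ((Subgroup.mem_normalizer_iff.1 hxQ q).1 hq) (inv_mem hq)
  have hrN : r ∈ N := by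
    have := mul_mem hxN (hN.conj_mem _ (inv_mem hxN) q)
    rwa [show x * (q * x⁻¹ * q⁻¹) = r by rw [hr]; group] at this
  have hxr : Commute x r := (Subgroup.mem_centralizer_iff.1 hxR r ⟨hrQ, hrN⟩).symm
  have hpow : ∀ n : ℕ, x ^ n * q * (x ^ n)⁻¹ = r ^ n * q := by
    intro n
    induction n with
    | zero => simp
    | succ n ih =>
      calc x ^ (n + 1) * q * (x ^ (n + 1))⁻¹ = x * (x ^ n * q * (x ^ n)⁻¹) * x⁻¹ := by
            rw [pow_succ']; group
        _ = (x * r ^ n) * q * x⁻¹ := by rw [ih]; group
        _ = (r ^ n * x) * q * x⁻¹ := by rw [(hxr.pow_right n).eq]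
        _ = r ^ n * (x * q * x⁻¹ * q⁻¹) * q := by group
        _ = r ^ (n + 1) * q := by rw [← hr, pow_succ]
  have h1 := hpow (orderOf x)
  rw [pow_orderOf_eq_one, one_mul, inv_one, mul_one] at h1
  have h2 : r ^ orderOf x = 1 := by
    simpa using h1.symm
  obtain ⟨k, hk⟩ := hQ ⟨r, hrQ⟩
  have hk' : r ^ p ^ k = 1 := congrArg Subtype.val hk
  have h3 := pow_gcd_eq_one.2 ⟨hk', h2⟩
  rw [Nat.Coprime.gcd_eq_one (Nat.Coprime.pow_left k (hp.coprime_iff_not_dvd.2 hx)), pow_one,
    hr, mul_inv_eq_one, mul_inv_eq_iff_eq_mul] at h3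
  exact h3.symm

/-- S4692. -/
theorem isNilpotentBlock_pindex (hM : IsPModular p M) {k : ℕ} (hk : N.index = p ^ k)
    {c : Set (IrrCharacter N)} (hc : IsPBlock M c)
    {B : Set (IrrCharacter G)} (hB : IsPBlock M B)
    (hBc : ∀ g : G, blockCoeff B g = subgroupBlockCoeff N c g) :
    IsNilpotentBlock p M c ↔ IsNilpotentBlock p M B := by
  classical
  haveI := Fact.mk hM.1
  have hEc : resFun N (blockCoeff B) = blockCoeff c := funext fun n => by
    rw [resFun, hBc, subgroupBlockCoeff_of_mem c n.2]
  constructor
  · intro hnil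
    refine ⟨hB, fun Q e hQe x hxQ hxe hxreg => ?_⟩
    have hxN : x ∈ N := mem_of_index_eq_pow hM.1 N hk hxreg
    refine mem_centralizer_of_inf (N := N) hQe.1.1 hM.1 hxN hxQ hxreg ?_
    set R := Q ⊓ N with hRdef
    obtain ⟨r, hr, hrle⟩ := exists_subpairLE hM hQe.1 (inf_le_left : R ≤ Q)
    have hrB := (isBrauerPairOf_iff_of_subpairLE hM hQe.1 hrle hB).1 hQe
    have hxR : x ∈ Subgroup.normalizer (R : Set G) := by
      rw [Subgroup.mem_normalizer_iff]
      intro z
      simp only [hRdef, Subgroup.mem_inf, ← Subgroup.mem_normalizer_iff.1 hxQ z]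
      refine and_congr_right fun _ => ⟨fun h => hN.conj_mem z h x, fun h => ?_⟩
      simpa [mul_assoc] using hN.conj_mem _ h x⁻¹
    have hxst : gconj x (subgroupBlockCoeff (Subgroup.centralizer (R : Set G)) r) =
        subgroupBlockCoeff (Subgroup.centralizer (R : Set G)) r := by
      have h1 : conjPair x ⟨Q, e⟩ = ⟨Q, e⟩ := pair_ext (map_conj_of_mem_normalizer hxQ)
        ((pairCoeff_conjPair x ⟨Q, e⟩).trans
          ((stabilizesBlock_iff (normalizer_le_normalizer_centralizer Q hxQ)).1 hxe))
      have h2 : Relation.ReflTransGen (NormalSubpairRel p M) (conjPair x ⟨R, r⟩)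
          (conjPair x ⟨Q, e⟩) := subpairLE_conj hrle x
      rw [h1] at h2
      have h3 : conjPair x ⟨R, r⟩ = ⟨R, r⟩ :=
        pair_unique hM hQe.1 h2 hrle (map_conj_of_mem_normalizer hxR)
      have h4 := pairCoeff_conjPair x ⟨R, r⟩
      rw [h3] at h4
      exact h4.symm
    obtain ⟨ξ, hξ⟩ := IsPBlock.nonempty hr.2
    obtain ⟨θ, hθ⟩ := exists_constituent_restrict (N.subgroupOf (Subgroup.centralizer (R : Set G))) ξ
    obtain ⟨j, hj⟩ := exists_index_inter hM hk R
    have hb := isPBlock_blockOf (M := M) θ
    have hEr : blockCoeff r = orbitIdem (N.subgroupOf (Subgroup.centralizer (R : Set G)))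
        (blockOf M (θ : _ → ℂ)) := by
      rw [← blockCoeff_eq_orbitIdem hM hj hb (self_mem_blockOf θ) hθ]
      congr 1
      exact IsPBlock.eq_blockOf hr.2 hξ
    have hxC : x ∈ Subgroup.normalizer
        ((Subgroup.centralizer (R : Set G) : Subgroup G) : Set G) :=
      normalizer_le_normalizer_centralizer R hxR
    -- conjugation of `C(R) ∩ N` by an element normalising both
    have hpres : ∀ y ∈ Subgroup.normalizer
        ((Subgroup.centralizer (R : Set G) : Subgroup G) : Set G),
        ∀ z : Subgroup.centralizer (R : Set G), z ∈ N.subgroupOf (Subgroup.centralizer (R : Set G)) ↔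
          y⁻¹ * (z : G) * y ∈ N := fun y _ z =>
      ⟨fun h => by simpa using hN.conj_mem _ h y⁻¹,
        fun h => by simpa [Subgroup.mem_subgroupOf, mul_assoc] using hN.conj_mem _ h y⟩
    let ρ : ∀ y ∈ Subgroup.normalizer ((Subgroup.centralizer (R : Set G) : Subgroup G) : Set G),
        N.subgroupOf (Subgroup.centralizer (R : Set G)) ≃*
          N.subgroupOf (Subgroup.centralizer (R : Set G)) := fun y hy =>
      { toFun := fun z => ⟨⟨y * ((z : Subgroup.centralizer (R : Set G)) : G) * y⁻¹,
            (Subgroup.mem_normalizer_iff.1 hy _).1 (z : Subgroup.centralizer (R : Set G)).2⟩,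
          hN.conj_mem _ z.2 y⟩
        invFun := fun z => ⟨⟨y⁻¹ * ((z : Subgroup.centralizer (R : Set G)) : G) * y,
            (mem_conj_iff_of_mem_normalizer hy _).1 (z : Subgroup.centralizer (R : Set G)).2⟩,
          (hpres y hy _).1 z.2⟩
        left_inv := fun z => Subtype.ext (Subtype.ext (by simp [mul_assoc]))
        right_inv := fun z => Subtype.ext (Subtype.ext (by simp [mul_assoc]))
        map_mul' := fun z w => Subtype.ext (Subtype.ext (by simp [mul_assoc])) }
    have hθ' : transIrr (ρ x hxC) θ ∈
        conjClosure (N.subgroupOf (Subgroup.centralizer (R : Set G))) (blockOf M (θ : _ → ℂ)) := by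
      have h1 : omega (transIrr (ρ x hxC) θ : _ → ℂ)
          (resFun (N.subgroupOf (Subgroup.centralizer (R : Set G))) (blockCoeff r)) =
          omega (θ : _ → ℂ)
            (resFun (N.subgroupOf (Subgroup.centralizer (R : Set G))) (blockCoeff r)) := by
        rw [omega, omega, show (transIrr (ρ x hxC) θ).1 1 = θ.1 1 from by
          simpa using transIrr_apply (ρ x hxC) θ 1]
        congr 1
        refine (Fintype.sum_equiv (ρ x hxC).toEquiv _ _ fun z => ?_).symm
        rw [show (transIrr (ρ x hxC) θ).1 ((ρ x hxC).toEquiv z) = θ.1 z from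
          transIrr_apply _ θ z]
        congr 1
        have h := congrFun hxst (x * ((z : Subgroup.centralizer (R : Set G)) : G) * x⁻¹)
        rw [gconj_apply, show x⁻¹ * (x * ((z : Subgroup.centralizer (R : Set G)) : G) * x⁻¹) * x =
          ((z : Subgroup.centralizer (R : Set G)) : G) by group] at h
        rw [subgroupBlockCoeff_of_mem r (z : Subgroup.centralizer (R : Set G)).2,
          subgroupBlockCoeff_of_mem r ((Subgroup.mem_normalizer_iff.1 hxC _).1
            (z : Subgroup.centralizer (R : Set G)).2)] at h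
        exact h
      rw [hEr, resFun_orbitIdem, omega_blockCoeff, omega_blockCoeff,
        if_pos (subset_conjClosure _ _ (self_mem_blockOf θ))] at h1
      by_contra hno
      rw [if_neg hno] at h1
      exact zero_ne_one h1
    obtain ⟨⟨a, ha⟩, φ, hφ, hφeq⟩ := hθ'
    have haxC : a * x ∈ Subgroup.normalizer
        ((Subgroup.centralizer (R : Set G) : Subgroup G) : Set G) :=
      mul_mem (Subgroup.le_normalizer ha) hxC
    have hfix : transBlock (ρ (a * x) haxC) (blockOf M (θ : _ → ℂ)) = blockOf M θ.1 := by
      refine IsPBlock.eq_of_mem (isPBlock_transBlock _ hb) hb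
        (Set.mem_image_of_mem _ (self_mem_blockOf θ)) ?_
      convert hφ using 1
      refine Subtype.ext (funext fun z => ?_)
      obtain ⟨w, rfl⟩ := (ρ (a * x) haxC).surjective z
      rw [transIrr_apply]
      have h := congrFun (congrArg Subtype.val hφeq) (ρ x hxC w)
      rw [show (transIrr (ρ x hxC) θ).1 (ρ x hxC w) = θ.1 w from
        transIrr_apply _ θ w] at h
      rw [h]
      show φ.1 _ = φ.1 _
      refine congrArg φ.1 (Subtype.ext (Subtype.ext ?_))
      simp [ρ, mul_assoc]
    set R' := R.subgroupOf N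
    have hR' : R'.map N.subtype = R := Subgroup.map_subgroupOf_eq_of_le inf_le_right
    set r0 := transBlock (interEquiv hR').symm (blockOf M (θ : _ → ℂ))
    have hr0c : IsBrauerPairOf p M c R' r0 := by
      refine isBrauerPairOf_of_exists hM ⟨?_, isPBlock_transBlock _ hb⟩ hc
        (Set.mem_image_of_mem _ (self_mem_blockOf θ)) ?_
      · exact (hrB.1.1 : IsPGroup p R).comap_of_injective N.subtype N.subtype_injective
      rw [← hEc, brauerOmega_interEquiv hR', transIrr_symm,
        ← omega_eq_of_constituent _ hθ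
          (isRCentral_resFun _ (isRCentral_blockCoeff hM hB)).1
          (fun z hz => (hBc _).trans (subgroupBlockCoeff_of_notMem c hz)),
        ← brauerOmega_eq_omega]
      exact hrB.2.2 ξ hξ
    obtain ⟨n, hnreg, hnC⟩ := exists_regular_twist (C := Subgroup.centralizer (R : Set G)) hM.1
      hxreg ha hxC
    set y := (a * x) ^ n
    have hyN : y ∈ N := mem_of_index_eq_pow hM.1 N hk hnreg
    have hyR : y ∈ Subgroup.normalizer (R : Set G) :=
      pow_mem (mul_mem (centralizer_le_normalizer' R ha) hxR) n
    set E0 := extendByZero N (subgroupBlockCoeff (Subgroup.centralizer (R' : Set N)) r0) with hE0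
    have hE0fix : gconj (a * x) E0 = E0 := by
      have hcoe : ∀ z : Subgroup.centralizer (R' : Set N),
          blockCoeff r0 z = blockCoeff (blockOf M (θ : _ → ℂ)) (interEquiv hR' z) := fun z => by
        have := blockCoeff_transBlock (interEquiv hR').symm (blockOf M (θ : _ → ℂ))
          (interEquiv hR' z)
        rwa [MulEquiv.symm_apply_apply] at this
      funext z
      rw [gconj_apply]
      by_cases hz : ∃ w : N.subgroupOf (Subgroup.centralizer (R : Set G)),
          ((w : Subgroup.centralizer (R : Set G)) : G) = z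
      · obtain ⟨w, rfl⟩ := hz
        obtain ⟨v, rfl⟩ := (ρ (a * x) haxC).surjective w
        have e1 : (a * x)⁻¹ * ((ρ (a * x) haxC v : Subgroup.centralizer (R : Set G)) : G) * (a * x) =
            ((v : Subgroup.centralizer (R : Set G)) : G) := by simp [ρ, mul_assoc]
        have hval : ∀ u : N.subgroupOf (Subgroup.centralizer (R : Set G)),
            E0 ((u : Subgroup.centralizer (R : Set G)) : G) =
              blockCoeff (blockOf M (θ : _ → ℂ)) u := fun u => by
          obtain ⟨q, rfl⟩ := (interEquiv hR').surjective u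
          rw [hE0,
            show ((interEquiv hR' q : Subgroup.centralizer (R : Set G)) : G) = ((q : N) : G) from rfl,
            extendByZero_of_mem _ _ (q : N).2]
          rw [← hcoe]
          exact subgroupBlockCoeff_of_mem r0 q.2
        rw [e1, hval, hval]
        have := blockCoeff_transBlock (ρ (a * x) haxC) (blockOf M (θ : _ → ℂ)) v
        rw [hfix] at this
        exact this.symm
      · have hzero : ∀ u : G, (¬ ∃ w : N.subgroupOf (Subgroup.centralizer (R : Set G)),
            ((w : Subgroup.centralizer (R : Set G)) : G) = u) → E0 u = 0 := by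
          intro u hu
          by_cases huN : u ∈ N
          · rw [hE0, extendByZero_of_mem _ _ huN, subgroupBlockCoeff_of_notMem]
            intro hh
            exact hu ⟨interEquiv hR' ⟨⟨u, huN⟩, hh⟩, rfl⟩
          · rw [hE0, extendByZero_of_not_mem _ _ huN]
        rw [hzero z hz, hzero]
        rintro ⟨w, hw⟩
        exact hz ⟨ρ (a * x) haxC w, by
          show a * x * ((w : Subgroup.centralizer (R : Set G)) : G) * (a * x)⁻¹ = z
          rw [hw]; group⟩
    have hyfix : gconj y E0 = E0 := by
      have : ∀ m : ℕ, gconj ((a * x) ^ m) E0 = E0 := fun m => by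
        induction m with
        | zero => rw [pow_zero, gconj_one]
        | succ m ih => rw [pow_succ, gconj_mul, hE0fix, ih]
      exact this n
    have hyR' : (⟨y, hyN⟩ : N) ∈ Subgroup.normalizer (R' : Set N) := by
      rw [Subgroup.mem_normalizer_iff]
      intro z
      exact Subgroup.mem_normalizer_iff.1 hyR (z : G)
    have hyst : StabilizesBlock (Subgroup.centralizer (R' : Set N)) r0 ⟨y, hyN⟩ := by
      rw [stabilizesBlock_iff (normalizer_le_normalizer_centralizer R' hyR')]
      have h1 : gconj (((⟨y, hyN⟩ : N)) : G) E0 = E0 := hyfix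
      rw [hE0, gconj_extendByZero] at h1
      have h2 := congrArg (resFun N) h1
      rwa [resFun_extendByZero, resFun_extendByZero] at h2
    have hyC' := hnil.2 R' r0 hr0c ⟨y, hyN⟩ hyR' hyst
      (show ¬ p ∣ orderOf (⟨y, hyN⟩ : N) by rw [Subgroup.orderOf_mk]; exact hnreg)
    have hyC : y ∈ Subgroup.centralizer (R : Set G) := by
      rw [← hR']; exact mem_centralizer_map_subtype.2 hyC'
    have h5 := mul_mem (inv_mem hnC) hyC
    simpa [y, mul_assoc] using h5
  · intro hnil
    refine ⟨hc, fun R' r0 hr0 x hxR hxst hxreg => ?_⟩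
    set R := R'.map N.subtype with hRdef
    have hR' : R'.map N.subtype = R := rfl
    obtain ⟨η, hη⟩ := IsPBlock.nonempty hr0.1.2
    set θ := transIrr (interEquiv hR') η
    obtain ⟨ξ, hξ⟩ := exists_over (N.subgroupOf (Subgroup.centralizer (R : Set G))) θ
    obtain ⟨j, hj⟩ := exists_index_inter hM hk R
    have hb := isPBlock_transBlock (M := M) (interEquiv hR') hr0.1.2
    have hθb : θ ∈ transBlock (interEquiv hR') r0 := Set.mem_image_of_mem _ hη
    have hEr : blockCoeff (blockOf M (ξ : Subgroup.centralizer (R : Set G) → ℂ)) =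
        orbitIdem (N.subgroupOf (Subgroup.centralizer (R : Set G)))
          (transBlock (interEquiv hR') r0) := blockCoeff_eq_orbitIdem hM hj hb hθb hξ
    have hrB : IsBrauerPairOf p M B R (blockOf M (ξ : Subgroup.centralizer (R : Set G) → ℂ)) := by
      refine isBrauerPairOf_of_exists hM ⟨hr0.1.1.map _, isPBlock_blockOf ξ⟩ hB
        (self_mem_blockOf ξ) ?_
      rw [brauerOmega_eq_omega, omega_eq_of_constituent _ hξ
        (isRCentral_resFun _ (isRCentral_blockCoeff hM hB)).1
        (fun z hz => (hBc _).trans (subgroupBlockCoeff_of_notMem c hz)),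
        ← brauerOmega_interEquiv hR', hEc]
      exact hr0.2.2 η hη
    have hxRG : (x : G) ∈ Subgroup.normalizer (R : Set G) := by
      rw [Subgroup.mem_normalizer_iff]
      intro z
      constructor
      · rintro ⟨w, hw, rfl⟩
        exact ⟨x * w * x⁻¹, (Subgroup.mem_normalizer_iff.1 hxR w).1 hw, by simp⟩
      · rintro ⟨w, hw, hwz⟩
        refine ⟨x⁻¹ * w * x, (Subgroup.mem_normalizer_iff.1 hxR _).2 ?_, ?_⟩
        · rwa [show x * (x⁻¹ * w * x) * x⁻¹ = w by group]
        · have e : (w : G) = (x : G) * z * (x : G)⁻¹ := hwz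
          simp [e, mul_assoc]
    have hxC : (x : G) ∈ Subgroup.normalizer
        ((Subgroup.centralizer (R : Set G) : Subgroup G) : Set G) :=
      normalizer_le_normalizer_centralizer R hxRG
    have hstG : StabilizesBlock (Subgroup.centralizer (R : Set G)) (blockOf M (ξ : Subgroup.centralizer (R : Set G) → ℂ)) (x : G) := by
      rw [stabilizesBlock_iff hxC,
        ← subgroupBlockCoeff_transBlock (x : G) (mem_conj_iff_of_mem_normalizer hxC)]
      congr 1
      set σ := conjEquiv (x : G) (mem_conj_iff_of_mem_normalizer hxC)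
      set r := blockOf M (ξ : Subgroup.centralizer (R : Set G) → ℂ) with hr
      refine IsPBlock.eq_of_mem (M := M) (isPBlock_transBlock σ (isPBlock_blockOf ξ))
        (isPBlock_blockOf ξ) (χ := ξ) ?_ (self_mem_blockOf ξ)
      by_contra hno
      have hsupp : ∀ z, z ∉ N.subgroupOf (Subgroup.centralizer (R : Set G)) →
          blockCoeff (transBlock σ r) z = 0 := by
        intro z hz
        obtain ⟨w, rfl⟩ := σ.surjective z
        rw [blockCoeff_transBlock, hEr]
        refine orbitIdem_of_notMem _ _ fun hw => hz ?_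
        show (x : G) * (w : G) * (x : G)⁻¹ ∈ N
        exact hN.conj_mem _ hw x
      have h1 := omega_eq_of_constituent _ hξ (isClassFunction_blockCoeff (transBlock σ r)) hsupp
      rw [omega_blockCoeff, if_neg hno] at h1
      -- the constituent conjugated back
      have hxst' : gconj x (subgroupBlockCoeff (Subgroup.centralizer (R' : Set N)) r0) =
          subgroupBlockCoeff (Subgroup.centralizer (R' : Set N)) r0 :=
        (stabilizesBlock_iff (normalizer_le_normalizer_centralizer R' hxR)).1 hxst
      set τ := conjEquiv (x : N)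
        (mem_conj_iff_of_mem_normalizer (normalizer_le_normalizer_centralizer R' hxR)) with hτ
      have hτb : transBlock τ r0 = r0 := by
        refine subgroupBlockCoeff_injective ?_
        rw [hτ, subgroupBlockCoeff_transBlock, hxst']
      obtain ⟨η', hη', hηη'⟩ : η ∈ transBlock τ r0 := by rw [hτb]; exact hη
      have h2 : omega θ.1 (resFun (N.subgroupOf (Subgroup.centralizer (R : Set G)))
          (blockCoeff (transBlock σ r))) =
          omega (transIrr (interEquiv hR') η' : _ → ℂ)
            (resFun (N.subgroupOf (Subgroup.centralizer (R : Set G))) (blockCoeff r)) := by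
        have hθη : θ = transIrr (interEquiv hR') (transIrr τ η') := by rw [hηη']
        rw [hθη, omega, omega]
        rw [show (transIrr (interEquiv hR') (transIrr τ η')).1 1 = η'.1 1 from by
            have e1 := transIrr_apply (interEquiv hR') (transIrr τ η') 1
            have e2 := transIrr_apply τ η' 1
            rw [map_one] at e1 e2
            exact e1.trans e2,
          show (transIrr (interEquiv hR') η').1 1 = η'.1 1 from by
            simpa using transIrr_apply (interEquiv hR') η' 1]
        congr 1
        refine (Fintype.sum_equiv (((interEquiv hR').symm.trans τ).trans (interEquiv hR')).toEquiv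
          _ _ fun z => ?_).symm
        obtain ⟨q, rfl⟩ := (interEquiv hR').surjective z
        simp only [MulEquiv.toEquiv_eq_coe, MulEquiv.coe_toEquiv, MulEquiv.trans_apply,
          MulEquiv.symm_apply_apply]
        rw [transIrr_apply, transIrr_apply, transIrr_apply]
        congr 1
        show blockCoeff r (interEquiv hR' q : _) =
          blockCoeff (transBlock σ r) (interEquiv hR' (τ q) : _)
        rw [show ((interEquiv hR' (τ q) : N.subgroupOf (Subgroup.centralizer (R : Set G))) :
            Subgroup.centralizer (R : Set G)) = σ (interEquiv hR' q) from Subtype.ext rfl,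
          blockCoeff_transBlock]
      rw [h2, hEr, resFun_orbitIdem, omega_blockCoeff,
        if_pos (subset_conjClosure _ _ (show _ ∈ transBlock (interEquiv hR') r0 from
          Set.mem_image_of_mem _ hη'))] at h1
      exact zero_ne_one h1
    have h := hnil.2 R _ hrB (x : G) hxRG hstG
      (show ¬ p ∣ orderOf (x : G) by rw [Subgroup.orderOf_coe]; exact hxreg)
    exact mem_centralizer_map_subtype.1 h

end Cfsg.Agent.Lib.BrauerPairs
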