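import Cfsg.Agent.Lib.BrauerPairs.Principal
import Cfsg.Agent.Lib.Transfer.Frobenius
import Cfsg.Agent.S0938
import Cfsg.Prelude.Def_BlockRank

/-!
# The principal block is nilpotent iff the group has a normal `p`-complement
-/

set_option autoImplicit false
set_option linter.unusedSectionVars false
set_option linter.style.haveILetI false

namespace Cfsg.Agent.Lib.BrauerPairs

open Cfsg Cfsg.Agent.Lib.Blocks Cfsg.Agent.Lib.Characters
open Cfsg.Agent.Lib.Transfer (hasNormalPComplement_subgroup commute_of_hasNormalPComplement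
  hasNormalPComplement_of_frobenius hasNormalPComplement_of_coprime_of_index)

universe u

variable {G : Type u} [Group G] [Fintype G] {M : Ideal AlgInt} [hMp : M.IsPrime] {p : ℕ}

theorem isNilpotentBlock_principal_iff (hM : IsPModular p M) :
    IsNilpotentBlock p M (principalBlock M G) ↔ HasNormalPComplement p G := by
  classical
  haveI := Fact.mk hM.1
  constructor
  · intro h
    refine hasNormalPComplement_of_frobenius (default : Sylow p G) fun Q hQ g hg hgo => ?_
    have hQp : IsPGroup p Q := (default : Sylow p G).2.to_le hQ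
    exact h.2 Q _ ((isBrauerPairOf_principal_iff hM hQp).2 rfl) g hg
      (stabilizesBlock_principal (normalizer_le_normalizer_centralizer Q hg))
      ((hM.1.coprime_iff_not_dvd).1 hgo.symm)
  · intro h
    refine ⟨isPBlock_principalBlock, fun Q e hQe x hx _ hreg => ?_⟩
    haveI : (Q.subgroupOf (Subgroup.normalizer (Q : Set G))).Normal :=
      Subgroup.normal_in_normalizer
    have := commute_of_hasNormalPComplement (hasNormalPComplement_subgroup h _)
      (((hQe.1.1 : IsPGroup p Q)).of_equiv
        (Subgroup.subgroupOfEquivOfLe (Subgroup.le_normalizer (H := Q))).symm)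
      (g := ⟨x, hx⟩) (by rw [Subgroup.orderOf_mk]; exact (hM.1.coprime_iff_not_dvd.2 hreg).symm)
    intro y hy
    exact congrArg Subtype.val (this ⟨y, Subgroup.le_normalizer hy⟩ hy)

theorem blockRank_principal_eq_one_iff (hM : IsPModular p M) :
    blockRank p (principalBlock M G) = 1 ↔ HasNormalPComplement p G := by
  classical
  haveI := Fact.mk hM.1
  have htriv : trivIrr G ∈ principalBlock M G := trivIrr_mem_principalBlock
  obtain ⟨K, hKn, hKker, hKp, -, hKmax⟩ := Cfsg.Agent.S0938.result p M hM _
    isPBlock_principalBlock (trivIrr G) htriv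
  haveI := hKn
  set S := Submodule.span ℂ ((fun χ : IrrCharacter G => pRegularPart p (χ : G → ℂ)) ''
    principalBlock M G) with hS
  set v : G → ℂ := pRegularPart p (trivIrr G : G → ℂ)
  have hv : v ∈ S := Submodule.subset_span ⟨_, htriv, rfl⟩
  have hv1 : ∀ g, IsPRegular p g → v g = 1 := fun g hg => by
    simp [v, pRegularPart, if_pos hg, trivIrr_apply']
  have h1reg : IsPRegular p (1 : G) := by simp [IsPRegular, hM.1.ne_one]
  have hvne : (⟨v, hv⟩ : S) ≠ 0 := fun h => by
    have := congrFun (congrArg Subtype.val h) 1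
    replace this : v 1 = 0 := this
    rw [hv1 1 h1reg] at this
    exact one_ne_zero this
  constructor
  · intro h
    have hreg : ∀ g : G, IsPRegular p g → g ∈ K := fun g hg => by
      rw [← SetLike.mem_coe, hKker]
      intro χ hχ
      have hχS : pRegularPart p (χ : G → ℂ) ∈ S := Submodule.subset_span ⟨χ, hχ, rfl⟩
      obtain ⟨c, hc⟩ := (finrank_eq_one_iff_of_nonzero' _ hvne).1 h ⟨_, hχS⟩
      have hc' : ∀ y, c * v y = pRegularPart p (χ : G → ℂ) y :=
        fun y => congrFun (congrArg Subtype.val hc) y
      have e1 := hc' g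
      have e2 := hc' 1
      rw [hv1 g hg, pRegularPart, if_pos hg] at e1
      rw [hv1 1 h1reg, pRegularPart, if_pos h1reg] at e2
      rw [← e1, ← e2]
    have hq : IsPGroup p (G ⧸ K) := fun x => by
      obtain ⟨g, rfl⟩ := QuotientGroup.mk_surjective x
      refine ⟨(orderOf g).factorization p, ?_⟩
      rw [← QuotientGroup.mk_pow, QuotientGroup.eq_one_iff]
      refine hreg _ ?_
      show ¬ p ∣ orderOf (g ^ p ^ (orderOf g).factorization p)
      rw [orderOf_pow_of_dvd (pow_ne_zero _ hM.1.ne_zero) (Nat.ordProj_dvd _ p)]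
      exact Nat.not_dvd_ordCompl hM.1 (orderOf_pos g).ne'
    obtain ⟨k, hk⟩ := IsPGroup.iff_card.1 hq
    exact hasNormalPComplement_of_coprime_of_index K
      (hM.1.coprime_iff_not_dvd.2 hKp).symm (k := k) (by rw [Subgroup.index_eq_card]; exact hk)
  · rintro ⟨P, N, hN, hc⟩
    haveI := hN
    obtain ⟨k, hk⟩ := IsPGroup.iff_card.1 P.2
    have hidx : N.index = p ^ k := by rw [hc.symm.index_eq_card, hk]
    have hNp : ¬ p ∣ Nat.card N := by
      intro hd
      have h1 : P.index = Nat.card N := hc.index_eq_card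
      exact P.not_dvd_index (h1 ▸ hd)
    have hNK : N ≤ K := hKmax N hN hNp fun g _ => rfl
    rw [blockRank, ← hS]
    refine (finrank_eq_one_iff_of_nonzero' (⟨v, hv⟩ : S) hvne).2 fun w => ?_
    have hle : S ≤ Submodule.span ℂ {v} := by
      refine Submodule.span_le.2 ?_
      rintro _ ⟨χ, hχ, rfl⟩
      refine Submodule.mem_span_singleton.2 ⟨(χ : G → ℂ) 1, funext fun g => ?_⟩
      by_cases hg : IsPRegular p g
      · have hgK : g ∈ (K : Set G) := hNK (mem_of_index_eq_pow hM.1 N hidx hg)
        rw [hKker] at hgK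
        simp [hv1 g hg, pRegularPart, if_pos hg, hgK χ hχ]
      · simp [v, pRegularPart, if_neg hg]
    obtain ⟨c, hc'⟩ := Submodule.mem_span_singleton.1 (hle w.2)
    exact ⟨c, Subtype.ext hc'⟩

end Cfsg.Agent.Lib.BrauerPairs
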