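import Cfsg.Agent.Lib.BrauerPairs.Basic
import Mathlib.GroupTheory.Sylow
import Mathlib.GroupTheory.Nilpotent

/-!
# Inclusion of Brauer pairs

Normal steps, the compatibility of the Brauer functionals along inclusions, and existence and
uniqueness of the pair below a given one.
-/

set_option autoImplicit false
set_option linter.unusedSectionVars false
set_option linter.style.haveILetI false

namespace Cfsg.Agent.Lib.BrauerPairs

open Cfsg Cfsg.Agent.Lib.Blocks Cfsg.Agent.Lib.Characters

universe u

variable {G : Type u} [Group G] [Fintype G] {M : Ideal AlgInt} [hMp : M.IsPrime] {p : ℕ}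
  {P Q R : Subgroup G}

theorem gconj_subgroupBlockCoeff_of_mem (f : Set (IrrCharacter (Subgroup.centralizer (Q : Set G))))
    {a : G} (ha : a ∈ P) {x : G} (hx : x ∈ Subgroup.centralizer (P : Set G)) :
    gconj a (subgroupBlockCoeff (Subgroup.centralizer (Q : Set G)) f) x =
      subgroupBlockCoeff (Subgroup.centralizer (Q : Set G)) f x := by
  rw [gconj_apply]
  congr 1
  rw [mul_assoc, ← mem_centralizer_subgroup_iff.1 hx a ha, inv_mul_cancel_left]

/-- The idempotent of a stable block is a local invariant element. -/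
theorem isLocInv_subgroupBlockCoeff (hM : IsPModular p M) (hQP : Q ≤ P)
    (hPN : P ≤ Subgroup.normalizer (Q : Set G))
    {f : Set (IrrCharacter (Subgroup.centralizer (Q : Set G)))} (hf : IsPBlock M f)
    (hst : ∀ a ∈ P, StabilizesBlock (Subgroup.centralizer (Q : Set G)) f a) :
    IsLocInv M P (subgroupBlockCoeff (Subgroup.centralizer (Q : Set G)) f) :=
  ⟨memLocalRing_subgroupBlockCoeff hM hf,
    isPInv_iff_gconj.2 fun a ha =>
      (stabilizesBlock_iff (normalizer_le_normalizer_centralizer Q (hPN ha))).1 (hst a ha),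
    fun a ha => isPInv_subgroupBlockCoeff_self f a (centralizer_le_centralizer hQP ha)⟩

theorem isNormalSubpair_of_exists (hM : IsPModular p M) (hQP : Q ≤ P)
    (hPN : P ≤ Subgroup.normalizer (Q : Set G))
    {f : Set (IrrCharacter (Subgroup.centralizer (Q : Set G)))}
    {e : Set (IrrCharacter (Subgroup.centralizer (P : Set G)))} (hf : IsPBlock M f)
    (hPe : IsBrauerPair p M P e)
    (hst : ∀ a ∈ P, StabilizesBlock (Subgroup.centralizer (Q : Set G)) f a)
    {ξ : IrrCharacter (Subgroup.centralizer (P : Set G))} (hξ : ξ ∈ e)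
    (h : MemLocalIdeal M (brauerOmega P (subgroupBlockCoeff (Subgroup.centralizer (Q : Set G)) f)
      (ξ : Subgroup.centralizer (P : Set G) → ℂ) - 1)) :
    IsNormalSubpair p M Q f P e := by
  refine ⟨⟨hPe.1.to_le hQP, hf⟩, hPe, hQP, hPN, hst, fun ξ' hξ' => ?_⟩
  have h1 := brauerOmega_congr_sameBlock (isLocInv_subgroupBlockCoeff hM hQP hPN hf hst)
    hPe.2 hξ' hξ
  simpa using memLocalIdeal_add h1 h

/-- **The normal step**: exactly one stable block lies normally below a pair. -/
theorem existsUnique_normalStep (hM : IsPModular p M)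
    {e : Set (IrrCharacter (Subgroup.centralizer (P : Set G)))} (hPe : IsBrauerPair p M P e)
    (hQP : Q ≤ P) (hPN : P ≤ Subgroup.normalizer (Q : Set G)) :
    ∃! f : Set (IrrCharacter (Subgroup.centralizer (Q : Set G))), IsNormalSubpair p M Q f P e := by
  classical
  haveI := Fintype.ofFinite (Bl M (Subgroup.centralizer (Q : Set G)))
  set C := Subgroup.centralizer (Q : Set G)
  obtain ⟨ξ, hξ⟩ := IsPBlock.nonempty hPe.2
  have hmem : ∀ a : P, ∀ x, x ∈ C ↔ (a : G)⁻¹ * x * (a : G) ∈ C := fun a =>
    mem_centralizer_conj_iff (hPN a.2)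
  let act : P → Bl M C → Bl M C := fun a f =>
    ⟨transBlock (conjEquiv (a : G) (hmem a)) f.1, isPBlock_transBlock _ f.2⟩
  have hcoe : ∀ a f, subgroupBlockCoeff C (act a f).1 = gconj (a : G) (subgroupBlockCoeff C f.1) :=
    fun a f => subgroupBlockCoeff_transBlock _ (hmem a) f.1
  letI : MulAction P (Bl M C) :=
    { smul := act
      one_smul := fun f => Subtype.ext <| subgroupBlockCoeff_injective <| by
        show subgroupBlockCoeff C (act 1 f).1 = _
        rw [hcoe, OneMemClass.coe_one, gconj_one]
      mul_smul := fun a b f => Subtype.ext <| subgroupBlockCoeff_injective <| by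
        show subgroupBlockCoeff C (act (a * b) f).1 = subgroupBlockCoeff C (act a (act b f)).1
        rw [hcoe, hcoe, hcoe, Subgroup.coe_mul, gconj_mul] }
  have hfixed : ∀ f : Bl M C, f ∈ MulAction.fixedPoints P (Bl M C) ↔
      ∀ a ∈ P, StabilizesBlock C f.1 a := by
    intro f
    constructor
    · intro h a ha
      rw [stabilizesBlock_iff (normalizer_le_normalizer_centralizer Q (hPN ha)),
        ← hcoe ⟨a, ha⟩ f]
      exact congrArg (fun g : Bl M C => subgroupBlockCoeff C g.1) (h ⟨a, ha⟩)
    · intro h a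
      refine Subtype.ext (subgroupBlockCoeff_injective ?_)
      show subgroupBlockCoeff C (act a f).1 = _
      rw [hcoe]
      exact (stabilizesBlock_iff (normalizer_le_normalizer_centralizer Q (hPN a.2))).1 (h a a.2)
  let F : Bl M C → ℂ := fun f =>
    brauerOmega P (subgroupBlockCoeff C f.1) (ξ : Subgroup.centralizer (P : Set G) → ℂ)
  have hFR : ∀ f, MemLocalRing M (F f) := fun f => by
    simp only [F, brauerOmega_eq_omega]
    have hc : IsRCentral M (resFun (Subgroup.centralizer (P : Set G))
        (subgroupBlockCoeff C f.1)) :=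
      ⟨fun g c => isPInv_subgroupBlockCoeff_self f.1 (c : G)
        (centralizer_le_centralizer hQP c.2) (g : G),
        fun x => memLocalRing_subgroupBlockCoeff hM f.2 _⟩
    exact memLocalRing_omega hc ξ
  have hFinv : ∀ (a : P) f, F (a • f) = F f := fun a f => by
    show brauerOmega P (subgroupBlockCoeff C (act a f).1) _ = _
    rw [hcoe]
    exact brauerOmega_congr (fun x hx => gconj_subgroupBlockCoeff_of_mem f.1 a.2 hx) _
  have hsum : ∑ f, F f = 1 := by
    simp only [F]
    rw [← brauerOmega_sum, sum_subgroupBlockCoeff, brauerOmega_deltaOne]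
  have hcong := memLocalIdeal_sum_sub_sum_fixed hM hPe.1 F hFR hFinv
  rw [hsum] at hcong
  obtain ⟨f₀, hf₀, hne⟩ : ∃ f₀, f₀ ∈ MulAction.fixedPoints P (Bl M C) ∧
      ¬ MemLocalIdeal M (F f₀) := by
    by_contra hcon
    simp only [not_exists, not_and, not_not] at hcon
    refine (not_memLocalIdeal_of_sub
      (x := ∑ i, if i ∈ MulAction.fixedPoints P (Bl M C) then F i else 0)
      not_memLocalIdeal_one (by simpa using memLocalIdeal_neg hcong))
      (memLocalIdeal_sum _ fun i _ => ?_)
    split_ifs with h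
    · exact hcon i h
    · exact memLocalIdeal_zero
  have hst := (hfixed f₀).1 hf₀
  have hI := isLocInv_subgroupBlockCoeff hM hQP hPN f₀.2 hst
  have hone := (brauerOmega_idem hM hPe.1 hI (conv_subgroupBlockCoeff_self f₀.1) ξ).resolve_left hne
  refine ⟨f₀.1, isNormalSubpair_of_exists hM hQP hPN f₀.2 hPe hst hξ hone, fun f hf => ?_⟩
  by_contra hff
  exact brauerOmega_orth hM hPe.1 (isLocInv_subgroupBlockCoeff hM hQP hPN hf.1.2 hf.2.2.2.2.1) hI
    (conv_subgroupBlockCoeff_eq_zero hf.1.2 f₀.2 hff) ξ (hf.2.2.2.2.2 ξ hξ) hone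

theorem isNormalSubpair_refl (hM : IsPModular p M)
    {e : Set (IrrCharacter (Subgroup.centralizer (P : Set G)))} (hPe : IsBrauerPair p M P e) :
    IsNormalSubpair p M P e P e := by
  classical
  refine ⟨hPe, hPe, le_rfl, Subgroup.le_normalizer, fun a ha => ?_, fun ξ hξ => ?_⟩
  · rw [stabilizesBlock_iff (normalizer_le_normalizer_centralizer P (Subgroup.le_normalizer ha))]
    funext x
    by_cases hx : x ∈ Subgroup.centralizer (P : Set G)
    · exact gconj_subgroupBlockCoeff_of_mem e ha hx
    · rw [gconj_apply, subgroupBlockCoeff_of_notMem e hx, subgroupBlockCoeff_of_notMem e fun h =>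
        hx ((mem_centralizer_conj_iff (Subgroup.le_normalizer ha) x).2 h)]
  · rw [brauerOmega_eq_omega, resFun_subgroupBlockCoeff, omega_blockCoeff, if_pos hξ, sub_self]
    exact memLocalIdeal_zero

theorem eq_of_isNormalSubpair_self (hM : IsPModular p M)
    {f e : Set (IrrCharacter (Subgroup.centralizer (P : Set G)))}
    (h : IsNormalSubpair p M P f P e) : f = e :=
  (existsUnique_normalStep hM h.2.1 le_rfl Subgroup.le_normalizer).unique h
    (isNormalSubpair_refl hM h.2.1)

/-! ### Compatibility along inclusions -/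

theorem extendByZero_sub {H : Subgroup G} (g g' : H → ℂ) :
    extendByZero H (g - g') = extendByZero H g - extendByZero H g' := by
  funext x
  by_cases hx : x ∈ H
  · simp [extendByZero_of_mem _ _ hx]
  · simp [extendByZero_of_not_mem _ _ hx]

theorem extendByZero_smul {H : Subgroup G} (c : ℂ) (g : H → ℂ) :
    extendByZero H (c • g) = c • extendByZero H g := by
  funext x
  by_cases hx : x ∈ H
  · simp [extendByZero_of_mem _ _ hx]
  · simp [extendByZero_of_not_mem _ _ hx]

theorem extendByZero_deltaOne {H : Subgroup G} [Fintype H] :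
    extendByZero H (deltaOne : H → ℂ) = (deltaOne : G → ℂ) := by
  classical
  funext x
  by_cases hx : x ∈ H
  · simp [extendByZero_of_mem _ _ hx, deltaOne_apply, Subtype.ext_iff]
  · rw [extendByZero_of_not_mem _ _ hx, deltaOne_apply, if_neg]
    rintro rfl
    exact hx (one_mem H)

theorem extendByZero_resFun_centralizer (β : G → ℂ) :
    extendByZero (Subgroup.centralizer (Q : Set G))
      (resFun (Subgroup.centralizer (Q : Set G)) β) = trunc Q β := by
  funext x
  by_cases hx : x ∈ Subgroup.centralizer (Q : Set G)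
  · rw [extendByZero_of_mem _ _ hx, trunc_of_mem hx]; rfl
  · rw [extendByZero_of_not_mem _ _ hx, trunc_of_notMem hx]

/-- **Compatibility with a normal step.** -/
theorem brauerOmega_normalStep (hM : IsPModular p M)
    {f : Set (IrrCharacter (Subgroup.centralizer (Q : Set G)))}
    {e : Set (IrrCharacter (Subgroup.centralizer (P : Set G)))}
    (h : IsNormalSubpair p M Q f P e) {β : G → ℂ} (hR : ∀ x, MemLocalRing M (β x))
    (hβP : IsPInv P β) (hβC : IsPInv (Subgroup.centralizer (Q : Set G)) β)
    {η : IrrCharacter (Subgroup.centralizer (Q : Set G))} (hη : η ∈ f)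
    {ξ : IrrCharacter (Subgroup.centralizer (P : Set G))} (hξ : ξ ∈ e) :
    MemLocalIdeal M (brauerOmega P β (ξ : Subgroup.centralizer (P : Set G) → ℂ) -
      brauerOmega Q β (η : Subgroup.centralizer (Q : Set G) → ℂ)) := by
  classical
  obtain ⟨⟨-, hf⟩, ⟨hP, -⟩, hQP, hPN, hst, hone⟩ := h
  rw [brauerOmega_eq_omega (P := Q)]
  have hCP : Subgroup.centralizer (P : Set G) ≤ (Subgroup.centralizer (Q : Set G)) := centralizer_le_centralizer hQP
  have hb : IsRCentral M (resFun (Subgroup.centralizer (Q : Set G)) β) :=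
    ⟨fun g c => hβC (c : G) c.2 (g : G), fun x => hR _⟩
  have hE0 := isRCentral_blockCoeff hM hf
  set a := omega (η : (Subgroup.centralizer (Q : Set G)) → ℂ) (resFun (Subgroup.centralizer (Q : Set G)) β) with ha_def
  have ha : MemLocalRing M a := memLocalRing_omega hb η
  let z : (Subgroup.centralizer (Q : Set G)) → ℂ := conv (resFun (Subgroup.centralizer (Q : Set G)) β) (blockCoeff f) - a • blockCoeff f
  have hz : IsRCentral M z := (hb.conv hE0).sub (hE0.smul ha)
  obtain ⟨N, hN⟩ := exists_convPow_memLocalIdeal hM hz fun ζ => by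
    rw [omega_sub, omega_conv ζ.2 hb.1, omega_smul, omega_blockCoeff]
    split_ifs with hζ
    · rw [mul_one, mul_one]
      exact omega_congr_of_sameBlock (IsPBlock.sameBlock hf hζ hη) hb
    · simpa using memLocalIdeal_zero
  have hext : extendByZero (Subgroup.centralizer (Q : Set G)) z =
      conv (trunc Q β) (subgroupBlockCoeff (Subgroup.centralizer (Q : Set G)) f) - a • subgroupBlockCoeff (Subgroup.centralizer (Q : Set G)) f := by
    simp only [z, extendByZero_sub, extendByZero_smul, ← conv_extendByZero,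
      subgroupBlockCoeff_eq_extendByZero]
    rw [extendByZero_resFun_centralizer]
  have hE := isLocInv_subgroupBlockCoeff hM hQP hPN hf hst
  have hT : IsLocInv M P (trunc Q β) := by
    refine ⟨memLocalRing_trunc hR, fun c hc x => ?_, fun c hc x => ?_⟩
    · have hiff : c * x * c⁻¹ ∈ (Subgroup.centralizer (Q : Set G)) ↔ x ∈ (Subgroup.centralizer (Q : Set G)) := by
        rw [mem_centralizer_conj_iff (hPN hc) (c * x * c⁻¹)]
        rw [show c⁻¹ * (c * x * c⁻¹) * c = x by group]
      by_cases hx : x ∈ (Subgroup.centralizer (Q : Set G))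
      · rw [trunc_of_mem (hiff.2 hx), trunc_of_mem hx]; exact hβP c hc x
      · rw [trunc_of_notMem fun hh => hx (hiff.1 hh), trunc_of_notMem hx]
    · have hcC := hCP hc
      by_cases hx : x ∈ (Subgroup.centralizer (Q : Set G))
      · rw [trunc_of_mem (mul_mem (mul_mem hcC hx) (inv_mem hcC)), trunc_of_mem hx]
        exact hβC c hcC x
      · rw [trunc_of_notMem (fun hh => hx (by
          simpa [mul_assoc] using mul_mem (mul_mem (inv_mem hcC) hh) hcC)), trunc_of_notMem hx]
  have hZ : IsLocInv M P (extendByZero (Subgroup.centralizer (Q : Set G)) z) := hext ▸ (hT.conv hE).sub (hE.smul ha)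
  set φ := fun γ : G → ℂ => brauerOmega P γ (ξ : Subgroup.centralizer (P : Set G) → ℂ)
  have hδ : IsLocInv M P (deltaOne : G → ℂ) := IsLocInv.of_isRCentral isRCentral_deltaOne
  have hpow : ∀ n, IsLocInv M P (extendByZero (Subgroup.centralizer (Q : Set G)) (convPow z n)) ∧
      MemLocalIdeal M (φ (extendByZero (Subgroup.centralizer (Q : Set G)) (convPow z n)) - φ (extendByZero (Subgroup.centralizer (Q : Set G)) z) ^ n) := by
    intro n
    induction n with
    | zero =>
      simp only [convPow, extendByZero_deltaOne, φ, brauerOmega_deltaOne, pow_zero, sub_self]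
      exact ⟨hδ, memLocalIdeal_zero⟩
    | succ n ih =>
      rw [convPow, ← conv_extendByZero]
      refine ⟨hZ.conv ih.1, ?_⟩
      have h1 := brauerOmega_conv hM hP hZ ih.1 ξ
      have h2 := memLocalIdeal_mul_left (memLocalRing_brauerOmega hZ ξ) ih.2
      rw [pow_succ']
      convert memLocalIdeal_add h1 h2 using 1
      simp only [φ]
      ring
  have hzI : MemLocalIdeal M (φ (extendByZero (Subgroup.centralizer (Q : Set G)) z)) := by
    have h1 : MemLocalIdeal M (φ (extendByZero (Subgroup.centralizer (Q : Set G)) (convPow z (N + 1)))) :=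
      memLocalIdeal_brauerOmega (hpow (N + 1)).1 (fun x hx => by
        rw [extendByZero_of_mem _ _ (hCP hx)]; exact hN (N + 1) (by omega) _) ξ
    have h2 := memLocalIdeal_sub h1 (hpow (N + 1)).2
    rw [sub_sub_cancel] at h2
    exact (memLocalIdeal_pow_iff (memLocalRing_brauerOmega hZ ξ) (Nat.succ_ne_zero N)).1 h2
  rw [hext] at hzI
  simp only [φ, brauerOmega_sub, brauerOmega_smul] at hzI
  have h3 := brauerOmega_conv hM hP hT hE ξ
  have h4 := memLocalIdeal_mul_left
    (memLocalRing_sub (memLocalRing_brauerOmega hT ξ) ha) (hone ξ hξ)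
  have h5 := memLocalIdeal_sub (memLocalIdeal_sub hzI h3) h4
  rw [brauerOmega_congr (β := β) (β' := trunc Q β) (fun x hx => (trunc_of_mem (hCP hx)).symm)]
  convert h5 using 1
  ring

theorem subpairLE_single {f : Set (IrrCharacter (Subgroup.centralizer (Q : Set G)))}
    {e : Set (IrrCharacter (Subgroup.centralizer (P : Set G)))}
    (h : IsNormalSubpair p M Q f P e) : SubpairLE p M Q f P e :=
  Relation.ReflTransGen.single (show NormalSubpairRel p M ⟨Q, f⟩ ⟨P, e⟩ from h)

theorem subpairLE_trans {f : Set (IrrCharacter (Subgroup.centralizer (Q : Set G)))}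
    {r : Set (IrrCharacter (Subgroup.centralizer (R : Set G)))}
    {e : Set (IrrCharacter (Subgroup.centralizer (P : Set G)))}
    (h : SubpairLE p M Q f R r) (h' : SubpairLE p M R r P e) : SubpairLE p M Q f P e :=
  Relation.ReflTransGen.trans h h'

theorem card_lt_card_subgroup (h : Q < R) : Nat.card Q < Nat.card R :=
  lt_of_le_of_ne (Subgroup.card_le_of_le h.le) fun he =>
    h.ne (Subgroup.eq_of_le_of_card_ge h.le he.ge)

theorem subpairLE_le {f : Set (IrrCharacter (Subgroup.centralizer (Q : Set G)))}
    {e : Set (IrrCharacter (Subgroup.centralizer (P : Set G)))}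
    (h : SubpairLE p M Q f P e) : Q ≤ P := by
  suffices key : ∀ a b : BrauerPairIdx G, Relation.ReflTransGen (NormalSubpairRel p M) a b →
      a.1 ≤ b.1 from key _ _ h
  intro a b hab
  induction hab with
  | refl => exact le_rfl
  | tail _ hs ih => exact ih.trans hs.2.2.1

theorem isBrauerPair_of_subpairLE {f : Set (IrrCharacter (Subgroup.centralizer (Q : Set G)))}
    {e : Set (IrrCharacter (Subgroup.centralizer (P : Set G)))} (hPe : IsBrauerPair p M P e)
    (h : SubpairLE p M Q f P e) : IsBrauerPair p M Q f := by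
  suffices key : ∀ a b : BrauerPairIdx G, Relation.ReflTransGen (NormalSubpairRel p M) a b →
      IsBrauerPair p M b.1 b.2 → IsBrauerPair p M a.1 a.2 from key _ _ h hPe
  intro a b hab hb
  rcases Relation.ReflTransGen.cases_head hab with rfl | ⟨c, hac, -⟩
  · exact hb
  · exact hac.1

/-- **Compatibility with inclusion.** -/
theorem brauerOmega_subpairLE (hM : IsPModular p M)
    {f : Set (IrrCharacter (Subgroup.centralizer (Q : Set G)))}
    {e : Set (IrrCharacter (Subgroup.centralizer (P : Set G)))}
    (hPe : IsBrauerPair p M P e) (h : SubpairLE p M Q f P e)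
    {β : G → ℂ} (hR : ∀ x, MemLocalRing M (β x))
    (hβP : IsPInv P β) (hβC : IsPInv (Subgroup.centralizer (Q : Set G)) β)
    {η : IrrCharacter (Subgroup.centralizer (Q : Set G))} (hη : η ∈ f)
    {ξ : IrrCharacter (Subgroup.centralizer (P : Set G))} (hξ : ξ ∈ e) :
    MemLocalIdeal M (brauerOmega P β (ξ : Subgroup.centralizer (P : Set G) → ℂ) -
      brauerOmega Q β (η : Subgroup.centralizer (Q : Set G) → ℂ)) := by
  classical
  suffices key : ∀ a : BrauerPairIdx G,
      Relation.ReflTransGen (NormalSubpairRel p M) a ⟨P, e⟩ →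
      IsPInv (Subgroup.centralizer (a.1 : Set G)) β → ∀ η ∈ a.2,
      MemLocalIdeal M (brauerOmega P β (ξ : Subgroup.centralizer (P : Set G) → ℂ) -
        brauerOmega a.1 β (η : Subgroup.centralizer (a.1 : Set G) → ℂ)) from
    key ⟨Q, f⟩ h hβC η hη
  intro a ha
  induction ha using Relation.ReflTransGen.head_induction_on with
  | refl => exact fun hC η hη => brauerOmega_congr_sameBlock ⟨hR, hβP, hC⟩ hPe.2 hξ hη
  | @head a c hac hcb ih =>
    intro hC η hη
    obtain ⟨η', hη'⟩ := IsPBlock.nonempty hac.2.1.2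
    have hle : c.1 ≤ P := subpairLE_le (Q := c.1) (f := c.2) hcb
    have hC' : IsPInv (Subgroup.centralizer (c.1 : Set G)) β := fun x hx =>
      hC x (centralizer_le_centralizer hac.2.2.1 hx)
    have h1 := brauerOmega_normalStep hM hac hR (fun x hx => hβP x (hle hx)) hC hη hη'
    simpa using memLocalIdeal_add (ih hC' η' hη') h1

/-! ### Existence and uniqueness below a pair -/

theorem lt_inf_normalizer [Fact p.Prime] (hP : IsPGroup p P) (hQP : Q < P) :
    Q < P ⊓ Subgroup.normalizer (Q : Set G) := by
  refine lt_of_le_of_ne (le_inf hQP.le Subgroup.le_normalizer) fun he => ?_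
  have hne : Q.subgroupOf P ≠ ⊤ := by
    rw [Ne, Subgroup.subgroupOf_eq_top]
    exact hQP.not_ge
  have hnil : Group.IsNilpotent P := hP.isNilpotent
  obtain ⟨g, hg, hgQ⟩ := SetLike.exists_of_lt
    (Group.normalizerCondition_of_isNilpotent (G := P) (Q.subgroupOf P) (lt_top_iff_ne_top.2 hne))
  apply hgQ
  show (g : G) ∈ Q
  rw [he]
  refine ⟨g.2, ?_⟩
  show (g : G) ∈ Subgroup.normalizer (Q : Set G)
  rw [Subgroup.mem_normalizer_iff]
  intro x
  constructor
  · intro hx
    exact (Subgroup.mem_normalizer_iff.1 hg ⟨x, hQP.le hx⟩).1 hx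
  · intro hx
    have hxP : x ∈ P := by
      have := mul_mem (mul_mem (inv_mem g.2) (hQP.le hx)) g.2
      simpa [mul_assoc] using this
    exact (Subgroup.mem_normalizer_iff.1 hg ⟨x, hxP⟩).2 hx

/-- **Existence of a pair below a given one.** -/
theorem exists_subpairLE (hM : IsPModular p M)
    {e : Set (IrrCharacter (Subgroup.centralizer (P : Set G)))} (hPe : IsBrauerPair p M P e)
    (hQP : Q ≤ P) :
    ∃ f : Set (IrrCharacter (Subgroup.centralizer (Q : Set G))),
      IsBrauerPair p M Q f ∧ SubpairLE p M Q f P e := by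
  haveI := Fact.mk hM.1
  suffices key : ∀ (n : ℕ) (Q : Subgroup G), Nat.card P - Nat.card Q = n → Q ≤ P →
      ∃ f : Set (IrrCharacter (Subgroup.centralizer (Q : Set G))),
        IsBrauerPair p M Q f ∧ SubpairLE p M Q f P e from key _ Q rfl hQP
  intro n
  induction n using Nat.strong_induction_on with
  | _ n ih =>
    intro Q hn hQP
    rcases eq_or_lt_of_le hQP with rfl | hlt
    · exact ⟨e, hPe, Relation.ReflTransGen.refl⟩
    · set N := P ⊓ Subgroup.normalizer (Q : Set G) with hN
      have hQN := lt_inf_normalizer hPe.1 hlt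
      have h1 : Nat.card Q < Nat.card N := card_lt_card_subgroup hQN
      have h2 : Nat.card N ≤ Nat.card P := Subgroup.card_le_of_le inf_le_left
      obtain ⟨g, hg, hle⟩ := ih _ (by omega) N rfl inf_le_left
      obtain ⟨f, hf, -⟩ := existsUnique_normalStep hM hg hQN.le inf_le_right
      exact ⟨f, hf.1, subpairLE_trans (subpairLE_single hf) hle⟩

theorem subpairLE_cases (hM : IsPModular p M)
    {f : Set (IrrCharacter (Subgroup.centralizer (Q : Set G)))}
    {e : Set (IrrCharacter (Subgroup.centralizer (P : Set G)))} (h : SubpairLE p M Q f P e) :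
    (⟨Q, f⟩ : BrauerPairIdx G) = ⟨P, e⟩ ∨
      ∃ (R : Subgroup G) (r : Set (IrrCharacter (Subgroup.centralizer (R : Set G)))),
        Q < R ∧ IsNormalSubpair p M Q f R r ∧ SubpairLE p M R r P e := by
  suffices key : ∀ a b : BrauerPairIdx G, Relation.ReflTransGen (NormalSubpairRel p M) a b →
      a = b ∨ ∃ c : BrauerPairIdx G, a.1 < c.1 ∧ NormalSubpairRel p M a c ∧
        Relation.ReflTransGen (NormalSubpairRel p M) c b by
    rcases key _ _ h with h1 | ⟨⟨R, r⟩, h1, h2, h3⟩
    · exact Or.inl h1
    · exact Or.inr ⟨R, r, h1, h2, h3⟩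
  intro a b hab
  induction hab using Relation.ReflTransGen.head_induction_on with
  | refl => exact Or.inl rfl
  | @head a c hac hcb ih =>
    by_cases heq : a.1 = c.1
    · obtain ⟨Q₁, f₁⟩ := a
      obtain ⟨R₁, r₁⟩ := c
      simp only at heq
      subst heq
      obtain rfl := eq_of_isNormalSubpair_self hM hac
      exact ih
    · exact Or.inr ⟨c, lt_of_le_of_ne hac.2.2.1 heq, hac, hcb⟩

/-- **Uniqueness of the pair below a given one.** -/
theorem subpairLE_unique (hM : IsPModular p M)
    {e : Set (IrrCharacter (Subgroup.centralizer (P : Set G)))} (hPe : IsBrauerPair p M P e)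
    {f f' : Set (IrrCharacter (Subgroup.centralizer (Q : Set G)))}
    (h : SubpairLE p M Q f P e) (h' : SubpairLE p M Q f' P e) : f = f' := by
  classical
  haveI := Fact.mk hM.1
  suffices key : ∀ (n : ℕ) (Q : Subgroup G), Nat.card P - Nat.card Q = n →
      ∀ f f' : Set (IrrCharacter (Subgroup.centralizer (Q : Set G))),
        SubpairLE p M Q f P e → SubpairLE p M Q f' P e → f = f' from key _ Q rfl f f' h h'
  intro n
  induction n using Nat.strong_induction_on with
  | _ n ih =>
    intro Q hn f f' h h'
    rcases eq_or_lt_of_le (subpairLE_le h) with rfl | hlt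
    · have key : ∀ f, SubpairLE p M Q f Q e → f = e := fun f hf => by
        rcases subpairLE_cases hM hf with h1 | ⟨R, r, h1, -, h3⟩
        · simpa using h1
        · exact absurd (subpairLE_le h3) h1.not_ge
      rw [key f h, key f' h']
    · set N := P ⊓ Subgroup.normalizer (Q : Set G) with hN
      have hQN := lt_inf_normalizer hPe.1 hlt
      obtain ⟨g, hg, hgle⟩ := exists_subpairLE hM hPe (inf_le_left : N ≤ P)
      obtain ⟨f₀, hf₀, -⟩ := existsUnique_normalStep hM hg hQN.le inf_le_right
      suffices key : ∀ f, SubpairLE p M Q f P e → f = f₀ by rw [key f h, key f' h']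
      intro f hf
      rcases subpairLE_cases hM hf with h1 | ⟨R, r, hQR, hstep, hrle⟩
      · exact absurd (congrArg Sigma.fst h1) hlt.ne
      have hRN : R ≤ N := le_inf (subpairLE_le hrle) hstep.2.2.2.1
      obtain ⟨r', hr', hr'le⟩ := exists_subpairLE hM hg hRN
      have h1 : Nat.card Q < Nat.card R := card_lt_card_subgroup hQR
      have h2 : Nat.card R ≤ Nat.card P := Subgroup.card_le_of_le (subpairLE_le hrle)
      obtain rfl := ih _ (by omega) R rfl r r' hrle (subpairLE_trans hr'le hgle)
      obtain ⟨ξ, hξ⟩ := IsPBlock.nonempty hg.2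
      obtain ⟨η, hη⟩ := IsPBlock.nonempty hr'.2
      have hI := isLocInv_subgroupBlockCoeff hM hQN.le inf_le_right hf₀.1.2 hf₀.2.2.2.2.1
      have h3 := brauerOmega_subpairLE hM hg hr'le hI.ring hI.pinv
        (fun a ha => isPInv_subgroupBlockCoeff_self f₀ a
          (centralizer_le_centralizer hQR.le ha)) hη hξ
      have h4 := memLocalIdeal_sub (hf₀.2.2.2.2.2 ξ hξ) h3
      rw [sub_sub, add_comm, ← sub_sub, sub_sub_cancel] at h4
      exact (existsUnique_normalStep hM hr' hQR.le (hRN.trans inf_le_right)).unique hstep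
        (isNormalSubpair_of_exists hM hQR.le (hRN.trans inf_le_right) hf₀.1.2 hr'
          (fun a ha => hf₀.2.2.2.2.1 a (hRN ha)) hη h4)

/-- **Transitivity inside a pair.** -/
theorem subpairLE_of_le (hM : IsPModular p M)
    {e : Set (IrrCharacter (Subgroup.centralizer (P : Set G)))} (hPe : IsBrauerPair p M P e)
    {f : Set (IrrCharacter (Subgroup.centralizer (Q : Set G)))}
    {r : Set (IrrCharacter (Subgroup.centralizer (R : Set G)))}
    (hf : SubpairLE p M Q f P e) (hr : SubpairLE p M R r P e) (hQR : Q ≤ R) :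
    SubpairLE p M Q f R r := by
  obtain ⟨f', -, hf'le⟩ := exists_subpairLE hM (isBrauerPair_of_subpairLE hPe hr) hQR
  rwa [subpairLE_unique hM hPe hf (subpairLE_trans hf'le hr)]

/-- Below a pair, a normal inclusion of subgroups gives a normal inclusion of pairs. -/
theorem isNormalSubpair_of_subpairLE (hM : IsPModular p M)
    {e : Set (IrrCharacter (Subgroup.centralizer (P : Set G)))} (hPe : IsBrauerPair p M P e)
    {f : Set (IrrCharacter (Subgroup.centralizer (Q : Set G)))}
    {r : Set (IrrCharacter (Subgroup.centralizer (R : Set G)))}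
    (hf : SubpairLE p M Q f P e) (hr : SubpairLE p M R r P e) (hQR : Q ≤ R)
    (hRN : R ≤ Subgroup.normalizer (Q : Set G)) :
    IsNormalSubpair p M Q f R r := by
  obtain ⟨f', hf', -⟩ := existsUnique_normalStep hM (isBrauerPair_of_subpairLE hPe hr) hQR hRN
  obtain rfl := subpairLE_unique hM hPe hf (subpairLE_trans (subpairLE_single hf') hr)
  exact hf'

/-- Pairs below a pair belong to the same block. -/
theorem isBrauerPairOf_iff_of_subpairLE (hM : IsPModular p M)
    {f : Set (IrrCharacter (Subgroup.centralizer (Q : Set G)))}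
    {e : Set (IrrCharacter (Subgroup.centralizer (P : Set G)))}
    (hPe : IsBrauerPair p M P e) (h : SubpairLE p M Q f P e)
    {B : Set (IrrCharacter G)} (hB : IsPBlock M B) :
    IsBrauerPairOf p M B P e ↔ IsBrauerPairOf p M B Q f := by
  classical
  have hQf := isBrauerPair_of_subpairLE hPe h
  obtain ⟨ξ, hξ⟩ := IsPBlock.nonempty hPe.2
  obtain ⟨η, hη⟩ := IsPBlock.nonempty hQf.2
  have hE := isRCentral_blockCoeff hM hB
  have h1 := brauerOmega_subpairLE hM hPe h hE.2 (isPInv_of_isClassFunction _ hE.1)
    (isPInv_of_isClassFunction _ hE.1) hη hξ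
  constructor
  · intro h2
    have h3 := memLocalIdeal_sub (h2.2.2 ξ hξ) h1
    rw [sub_sub, add_comm, ← sub_sub, sub_sub_cancel] at h3
    exact isBrauerPairOf_of_exists hM hQf hB hη h3
  · intro h2
    refine isBrauerPairOf_of_exists hM hPe hB hξ ?_
    simpa using memLocalIdeal_add h1 (h2.2.2 η hη)

end Cfsg.Agent.Lib.BrauerPairs
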